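import Cfsg.Agent.Lib.ExtraNine31.Sym
import Mathlib.Tactic
import Mathlib.GroupTheory.Sylow
import Mathlib.GroupTheory.SpecificGroups.Alternating
import Mathlib.GroupTheory.Perm.Sign

/-!
# The pairs of permutations of three and six points: the facts used for `2^{1+8}.(S₃ × A₆)`

Owner: helper31.
-/

set_option autoImplicit false

namespace Cfsg.Agent.Lib.ExtraNine31

open Equiv Equiv.Perm

/-- Pairs of permutations. -/
abbrev P36 : Type := Equiv.Perm (Fin 3) × Equiv.Perm (Fin 6)

/-- The three-element of the first factor. -/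
def x3 : P36 := (finRotate 3, 1)

/-- An involution of `1 × A₆`. -/
def Dt (γ : P36) : Prop := γ.1 = 1 ∧ sign γ.2 = 1 ∧ γ.2 ≠ 1 ∧ γ.2 * γ.2 = 1

theorem x3_cube : x3 * x3 * x3 = 1 := by decide

theorem x3_ne : x3 ≠ 1 := by decide

theorem s3_four : ∀ p : Perm (Fin 3), p * p * (p * p) = 1 → p * p = 1 := by decide

theorem s3_even_two : ∀ p : Perm (Fin 3), p * p = 1 → sign p = 1 → p = 1 := by decide

theorem s3_even_cases : ∀ p : Perm (Fin 3), sign p = 1 →
    p = 1 ∨ p = finRotate 3 ∨ p = finRotate 3 * finRotate 3 := by decide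

theorem s3_rot : ∀ p : Perm (Fin 3), p * finRotate 3 = finRotate 3 * p ↔ sign p = 1 := by decide

theorem s3_odd_inverts : ∀ p : Perm (Fin 3), sign p ≠ 1 →
    p * finRotate 3 = finRotate 3 * finRotate 3 * p := by decide

theorem s6_dt_cent : ∀ p : Perm (Fin 6), p * p = 1 → p ≠ 1 → sign p = 1 →
    ∀ r : Perm (Fin 6), r * r * r = 1 → r * p = p * r → r = 1 := by decide +kernel

set_option synthInstance.maxSize 1000 in
theorem s6_dt_inverts : ∀ p : Perm (Fin 6), p * p = 1 → p ≠ 1 → sign p = 1 →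
    ∃ y : Perm (Fin 6), y * y * y * y * y = 1 ∧ y ≠ 1 ∧ p * y * p = y * y * y * y := by decide +kernel

theorem s6_dt_sqrt : ∀ p : Perm (Fin 6), p * p = 1 → p ≠ 1 → sign p = 1 →
    ∃ f : Perm (Fin 6), f * f = p ∧ sign f = 1 := by decide +kernel

theorem commute_x3_iff (γ : P36) : γ * x3 = x3 * γ ↔ sign γ.1 = 1 := by
  rw [← s3_rot, Prod.ext_iff]
  simp [x3]

theorem odd_inverts_x3 {γ : P36} (h : sign γ.1 ≠ 1) : γ * x3 = x3 * x3 * γ :=
  Prod.ext (s3_odd_inverts γ.1 h) (by simp [x3])

/-- A square of order two in a two-group lies in `1 × A₆`. -/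
theorem dt_of_sq {γ : P36} (h4 : γ * γ * (γ * γ) = 1) (h2 : γ * γ ≠ 1) : Dt (γ * γ) := by
  have e1 : (γ * γ).1 = 1 := s3_four γ.1 (congrArg Prod.fst h4)
  refine ⟨e1, ?_, fun e => h2 (Prod.ext e1 e), congrArg Prod.snd h4⟩
  show sign (γ.2 * γ.2) = 1
  rw [map_mul]
  exact Int.units_mul_self _

theorem Dt.par {γ : P36} (h : Dt γ) : sign γ.1 = 1 := by rw [h.1, map_one]

theorem Dt.ne_one {γ : P36} (h : Dt γ) : γ ≠ 1 := fun e => h.2.2.1 (congrArg Prod.snd e)

theorem Dt.sq {γ : P36} (h : Dt γ) : γ * γ = 1 :=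
  Prod.ext (show γ.1 * γ.1 = 1 by rw [h.1, one_mul]) h.2.2.2

/-- An element of order three commuting with an involution of `A₆` lies in the first factor. -/
theorem Dt.three {γ y : P36} (h : Dt γ) (hy : y * y * y = 1) (hc : y * γ = γ * y) :
    y = 1 ∨ y = x3 ∨ y = x3 * x3 := by
  have e2 : y.2 = 1 := s6_dt_cent γ.2 h.2.2.2 h.2.2.1 h.2.1 y.2 (congrArg Prod.snd hy)
    (congrArg Prod.snd hc)
  have hs : sign y.1 = 1 := by
    have h1 := congrArg (fun u : P36 => sign u.1) hy
    simp only [Prod.fst_mul, map_mul, Prod.fst_one, map_one] at h1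
    rcases Int.units_eq_one_or (sign y.1) with e | e
    · exact e
    · rw [e] at h1; exact absurd h1 (by decide)
  rcases s3_even_cases y.1 hs with e | e | e
  · exact Or.inl (Prod.ext e e2)
  · exact Or.inr (Or.inl (Prod.ext e e2))
  · exact Or.inr (Or.inr (Prod.ext e (by rw [e2]; simp [x3])))

/-- There is no quaternion group. -/
theorem no_quaternion {a b : P36} (ha : a * a ≠ 1) (ha4 : a * a * (a * a) = 1)
    (hb : b * a = a * a * a * b) (hsq : b * b = a * a) : False := by
  have h1 : (a * a).1 = 1 := s3_four a.1 (congrArg Prod.fst ha4)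
  refine s6_no_quaternion a.2 (fun e => ha (Prod.ext h1 e)) (congrArg Prod.snd ha4) b.2
    (congrArg Prod.snd hb) (congrArg Prod.snd hsq)

/-- Commutators inside the centraliser of an element of order four lie in the first factor. -/
theorem cent_four {p a b : P36} (hp : p * p ≠ 1) (hp4 : p * p * (p * p) = 1) (ha : a * p = p * a)
    (hb : b * p = p * b) : (a * b).2 = (b * a).2 := by
  have h1 : (p * p).1 = 1 := s3_four p.1 (congrArg Prod.fst hp4)
  exact s6_cent_four p.2 (fun e => hp (Prod.ext h1 e)) (congrArg Prod.snd hp4) a.2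
    (congrArg Prod.snd ha) b.2 (congrArg Prod.snd hb)

/-- An elementary abelian group commuting with the three-element has order at most eight. -/
theorem card_elementary_le {E : Subgroup P36} (h2 : ∀ e ∈ E, e * e = 1)
    (hpar : ∀ e ∈ E, sign e.1 = 1) : Nat.card E ≤ 8 := by
  classical
  have : Fact (Nat.Prime 2) := ⟨Nat.prime_two⟩
  let f : E →* Perm (Fin 6) := (MonoidHom.snd _ _).comp E.subtype
  have hf : Function.Injective f := by
    refine (injective_iff_map_eq_one f).2 fun e he => Subtype.ext (Prod.ext ?_ he)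
    exact s3_even_two _ (congrArg Prod.fst (h2 _ e.2)) (hpar _ e.2)
  have hR : ∀ r ∈ f.range, r * r = 1 := by
    rintro _ ⟨e, rfl⟩
    exact congrArg Prod.snd (h2 _ e.2)
  have hp : IsPGroup 2 f.range := fun r => ⟨1, by
    rw [pow_one, sq]; exact Subtype.ext (hR _ r.2)⟩
  obtain ⟨P, hP⟩ := hp.exists_le_sylow
  have hP16 : Nat.card P = 16 := by
    rw [P.card_eq_multiplicity, Nat.card_eq_fintype_card, Fintype.card_perm, Fintype.card_fin]
    rw [show (6 : ℕ).factorial = 2 ^ 4 * 45 from rfl, Nat.factorization_mul (by norm_num) (by norm_num),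
      Finsupp.add_apply, Nat.Prime.factorization_pow Nat.prime_two, Finsupp.single_eq_same,
      Nat.factorization_eq_zero_of_not_dvd (by norm_num)]
    norm_num
  have hle : Nat.card f.range ≤ 16 := hP16 ▸ Subgroup.card_le_of_le hP
  rw [Nat.card_congr (MonoidHom.ofInjective hf).toEquiv]
  obtain ⟨k, hk⟩ := hp.exists_card_eq
  by_contra hgt
  have hk4 : k = 4 := by
    rw [hk] at hle hgt
    rcases Nat.lt_or_ge k 4 with h | h
    · exact absurd (Nat.pow_le_pow_right (n := 2) (by norm_num) (show k ≤ 3 by omega)) hgt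
    · rcases Nat.eq_or_lt_of_le h with e | e
      · exact e.symm
      · have := Nat.pow_le_pow_right (n := 2) (by norm_num) (show 5 ≤ k by omega)
        omega
  subst hk4
  have heq : f.range = (P : Subgroup (Perm (Fin 6))) :=
    Subgroup.eq_of_le_of_card_ge hP (by rw [hP16, hk]; norm_num)
  -- some conjugate of a four-cycle lies in this Sylow group
  let c : Perm (Fin 6) := Equiv.swap 0 1 * Equiv.swap 1 2 * Equiv.swap 2 3
  have hc : IsPGroup 2 (Subgroup.zpowers c) := IsPGroup.of_card (n := 2) (by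
    rw [Nat.card_zpowers]
    exact orderOf_eq_prime_pow (n := 1) (by decide) (by decide))
  obtain ⟨P', hP'⟩ := hc.exists_le_sylow
  obtain ⟨g, hg⟩ := MulAction.exists_smul_eq (Perm (Fin 6)) P' P
  have hm : g * c * g⁻¹ ∈ f.range := by
    rw [heq, ← hg, Sylow.coe_subgroup_smul]
    exact ⟨c, hP' (Subgroup.mem_zpowers c), rfl⟩
  have h1 := hR _ hm
  rw [conj_mul] at h1
  exact absurd (conj_eq_one_iff.1 h1) (by decide)

end Cfsg.Agent.Lib.ExtraNine31
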