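import Cfsg.Agent.Lib.ExtraNine31.Quad
import Cfsg.Agent.Lib.ExtraNine31.Gamma
import Cfsg.Agent.Lib.LargeExtra.TwoConjugate

/-!
# An involution centraliser with extraspecial `Q` of order `2^9` and quotient inside `S₃ × S₆`

Owner: helper31.
-/

set_option autoImplicit false

namespace Cfsg.Agent.Lib.ExtraNine31

open Cfsg.Agent.Lib.LargeExtraspecial.Basic
open Equiv.Perm (sign)

variable {G : Type*} [Group G]

/-- `1` or `z`. -/
def zp (z : G) (e : F2) : G := z ^ e.val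

theorem zp_zero (z : G) : zp z 0 = 1 := pow_zero z

theorem zp_one (z : G) : zp z 1 = z := pow_one z

theorem zp_cases (z : G) (e : F2) : zp z e = 1 ∨ zp z e = z := by
  rcases f2_cases e with rfl | rfl
  exacts [Or.inl (zp_zero z), Or.inr (zp_one z)]

theorem zp_add {z : G} (h : z * z = 1) (a b : F2) : zp z (a + b) = zp z a * zp z b := by
  rcases f2_cases a with rfl | rfl <;> rcases f2_cases b with rfl | rfl
  · simp [zp_zero]
  · simp [zp_zero, zp_one]
  · simp [zp_zero, zp_one]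
  · rw [zp_one, h]; exact zp_zero z

theorem Commute.zp_right {c z : G} (h : Commute c z) (e : F2) : Commute c (zp z e) := h.pow_right _

/-- The coordinates of `Q` and the two actions of the centraliser of `z`. -/
structure Base {V : Type*} [AddCommGroup V] [Module F2 V] (z : G) (Q : Subgroup G) (Φ : QF V)
    (co : G → V) (ac : G → V →ₗ[F2] V) (pi : G → P36) : Prop where
  ord : orderOf z = 2
  es : ES Q z
  cent : ∀ c : G, (∀ q ∈ Q, Commute c q) → c = 1 ∨ c = z
  norm : ∀ c : G, Commute c z → ∀ q ∈ Q, c * q * c⁻¹ ∈ Q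
  cardQ : Nat.card Q = 512
  dim : Module.finrank F2 V = 8
  co_mul : ∀ q ∈ Q, ∀ r ∈ Q, co (q * r) = co q + co r
  co_zero : ∀ q ∈ Q, co q = 0 → q = 1 ∨ q = z
  co_surj : ∀ v, ∃ q ∈ Q, co q = v
  sq : ∀ q ∈ Q, q * q = zp z (Φ.q (co q))
  conj : ∀ c, Commute c z → ∀ q ∈ Q, co (c * q * c⁻¹) = ac c (co q)
  faithful : ∀ c, Commute c z → (∀ v, ac c v = v) → c ∈ Q
  pi_mul : ∀ c d, Commute c z → Commute d z → pi (c * d) = pi c * pi d
  pi_ker : ∀ c, Commute c z → (pi c = 1 ↔ c ∈ Q)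
  pi_surj : ∀ γ : P36, sign γ.1 = 1 → sign γ.2 = 1 → ∃ c, Commute c z ∧ pi c = γ

namespace Base

variable {V : Type*} [AddCommGroup V] [Module F2 V] {z : G} {Q : Subgroup G} {Φ : QF V}
  {co : G → V} {ac : G → V →ₗ[F2] V} {pi : G → P36} (h : Base z Q Φ co ac pi)
include h

theorem zz : z * z = 1 := h.es.sq

theorem zQ : z ∈ Q := h.es.mem

theorem commQz {q : G} (hq : q ∈ Q) : Commute q z := h.es.comm q hq

theorem finite : Module.Finite F2 V := Module.finite_of_finrank_pos (by rw [h.dim]; norm_num)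

theorem finiteV : Finite V := by
  have := h.finite
  exact Module.finite_of_finite F2

theorem co_one : co 1 = 0 := by
  have := h.co_mul 1 (one_mem Q) 1 (one_mem Q)
  rw [one_mul] at this
  exact add_eq_left.1 this.symm

theorem co_inv {q : G} (hq : q ∈ Q) : co q⁻¹ = co q := by
  have := h.co_mul q hq q⁻¹ (inv_mem hq)
  rw [mul_inv_cancel, h.co_one] at this
  rw [← zero_add (co q⁻¹), ← add_self_eq_zero' (co q), add_assoc, ← this, add_zero]

theorem sqQ {q : G} (hq : q ∈ Q) : q * q = 1 ∨ q * q = z := by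
  rw [h.sq q hq]; exact zp_cases z _

theorem co_z : co z = 0 := by
  obtain ⟨v, hv⟩ : ∃ v, Φ.q v = 1 := by
    by_contra hc
    have h0 : ∀ v, Φ.q v = 0 := fun v => (f2_cases _).resolve_right fun e => hc ⟨v, e⟩
    have : Nontrivial V := Module.nontrivial_of_finrank_pos (R := F2) (by rw [h.dim]; norm_num)
    obtain ⟨v, hv⟩ := exists_ne (0 : V)
    obtain ⟨w, hw⟩ := Φ.exists_bil_one hv
    have := Φ.polar w v
    rw [h0, h0, h0, hw, add_zero, zero_add] at this
    exact absurd this (by decide)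
  obtain ⟨q, hq, rfl⟩ := h.co_surj v
  have e := h.co_mul q hq q hq
  rw [h.sq q hq, hv, zp_one, add_self_eq_zero'] at e
  exact e

theorem co_zp (e : F2) : co (zp z e) = 0 := by
  rcases zp_cases z e with h1 | h1 <;> rw [h1]
  exacts [h.co_one, h.co_z]

theorem zp_mem (e : F2) : zp z e ∈ Q := pow_mem h.zQ _

theorem zp_inj {a b : F2} (e : zp z a = zp z b) : a = b := by
  rcases f2_cases a with rfl | rfl <;> rcases f2_cases b with rfl | rfl <;>
    first | rfl | (rw [zp_zero, zp_one] at e; first | exact absurd e.symm h.es.ne | exact absurd e h.es.ne)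

theorem co_eq {q r : G} (hq : q ∈ Q) (hr : r ∈ Q) (e : co q = co r) : ∃ a, r = q * zp z a := by
  have h0 := h.co_mul q⁻¹ (inv_mem hq) r hr
  rw [h.co_inv hq, e, add_self_eq_zero'] at h0
  rcases h.co_zero _ (mul_mem (inv_mem hq) hr) h0 with e1 | e1
  · exact ⟨0, by rw [zp_zero, mul_one]; exact (inv_mul_eq_one.1 e1).symm⟩
  · exact ⟨1, by rw [zp_one]; exact inv_mul_eq_iff_eq_mul.1 e1⟩

theorem co_conjQ {q r : G} (hq : q ∈ Q) (hr : r ∈ Q) : co (q * r * q⁻¹) = co r := by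
  rw [h.co_mul _ (mul_mem hq hr) _ (inv_mem hq), h.co_mul q hq r hr, h.co_inv hq, add_comm (co q),
    add_assoc, add_self_eq_zero', add_zero]

/-- Conjugation inside `Q`. -/
theorem comm_Q {q r : G} (hq : q ∈ Q) (hr : r ∈ Q) :
    q * r * q⁻¹ = r * zp z (Φ.bil (co q) (co r)) := by
  obtain ⟨a, ha⟩ := h.co_eq hr (mul_mem (mul_mem hq hr) (inv_mem hq)) (h.co_conjQ hq hr).symm
  have hz : ∀ p ∈ Q, ∀ b, Commute p (zp z b) := fun p hp b => Commute.zp_right (h.commQz hp) b
  have h1 := h.sq _ (mul_mem hq hr)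
  have e : (q * r * q⁻¹) * (q * q) * r = q * r * (q * r) := by group
  rw [ha, h1, h.co_mul q hq r hr, Φ.polar, zp_add h.zz, zp_add h.zz, h.sq q hq] at e
  suffices a = Φ.bil (co q) (co r) by rw [ha, this]
  refine h.zp_inj ?_
  have e2 : r * r * (zp z a * zp z (Φ.q (co q))) =
      zp z (Φ.q (co q)) * zp z (Φ.q (co r)) * zp z (Φ.bil (co q) (co r)) := by
    rw [← e, mul_assoc r r, ((hz r hr a).mul_right (hz r hr (Φ.q (co q)))).eq]
    group
  rw [h.sq r hr, ← zp_add h.zz, ← zp_add h.zz, ← zp_add h.zz, ← zp_add h.zz] at e2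
  have e3 := h.zp_inj e2
  have key : ∀ a b c d : F2, c + (a + b) = b + c + d → a = d := by decide
  rw [key _ _ _ _ e3]

theorem commute_Q {q r : G} (hq : q ∈ Q) (hr : r ∈ Q) : Commute q r ↔ Φ.bil (co q) (co r) = 0 := by
  have e := h.comm_Q hq hr
  constructor
  · intro hc
    rw [hc.eq, mul_inv_cancel_right] at e
    exact h.zp_inj ((mul_eq_left.1 e.symm).trans (zp_zero z).symm)
  · intro h0
    rw [h0, zp_zero, mul_one] at e
    exact mul_inv_eq_iff_eq_mul.1 e

theorem ac_one (v : V) : ac 1 v = v := by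
  obtain ⟨q, hq, rfl⟩ := h.co_surj v
  rw [← h.conj 1 (Commute.one_left z) q hq]
  simp

theorem ac_mul {c d : G} (hc : Commute c z) (hd : Commute d z) (v : V) :
    ac (c * d) v = ac c (ac d v) := by
  obtain ⟨q, hq, rfl⟩ := h.co_surj v
  rw [← h.conj _ (hc.mul_left hd) q hq, ← h.conj d hd q hq, ← h.conj c hc _ (h.norm d hd q hq)]
  group

theorem ac_Q {c : G} (hc : c ∈ Q) (v : V) : ac c v = v := by
  obtain ⟨q, hq, rfl⟩ := h.co_surj v
  rw [← h.conj c (h.commQz hc) q hq, h.co_conjQ hc hq]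

theorem ac_inv {c : G} (hc : Commute c z) (v : V) : ac c⁻¹ (ac c v) = v := by
  rw [← h.ac_mul hc.inv_left hc, inv_mul_cancel, h.ac_one]

theorem ac_q {c : G} (hc : Commute c z) (v : V) : Φ.q (ac c v) = Φ.q v := by
  obtain ⟨q, hq, rfl⟩ := h.co_surj v
  rw [← h.conj c hc q hq]
  refine h.zp_inj ?_
  rw [← h.sq _ (h.norm c hc q hq)]
  have : c * q * c⁻¹ * (c * q * c⁻¹) = c * (q * q) * c⁻¹ := by group
  rw [this, h.sq q hq, (Commute.zp_right hc _).eq, mul_inv_cancel_right]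

theorem ac_bil {c : G} (hc : Commute c z) (v w : V) : Φ.bil (ac c v) (ac c w) = Φ.bil v w := by
  have h1 := Φ.polar (ac c v) (ac c w)
  rw [← map_add, h.ac_q hc, h.ac_q hc, h.ac_q hc, Φ.polar] at h1
  exact (add_left_cancel h1).symm

theorem ac_eq_of_pi {c d : G} (hc : Commute c z) (hd : Commute d z) (e : pi c = pi d) (v : V) :
    ac c v = ac d v := by
  have hq : d⁻¹ * c ∈ Q := by
    rw [← h.pi_ker _ (hd.inv_left.mul_left hc)]
    have h1 := h.pi_mul d (d⁻¹ * c) hd (hd.inv_left.mul_left hc)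
    rw [mul_inv_cancel_left, e] at h1
    exact mul_eq_left.1 h1.symm
  have h2 := h.ac_mul hd (hd.inv_left.mul_left hc) v
  rw [mul_inv_cancel_left, h.ac_Q hq] at h2
  exact h2

theorem pi_one : pi 1 = 1 := (h.pi_ker 1 (Commute.one_left z)).2 (one_mem Q)

theorem pi_inv {c : G} (hc : Commute c z) : pi c⁻¹ = (pi c)⁻¹ := by
  refine eq_inv_of_mul_eq_one_left ?_
  rw [← h.pi_mul _ _ hc.inv_left hc, inv_mul_cancel, h.pi_one]

theorem pi_conj {c d : G} (hc : Commute c z) (hd : Commute d z) :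
    pi (c * d * c⁻¹) = pi c * pi d * (pi c)⁻¹ := by
  rw [h.pi_mul _ _ (hc.mul_left hd) hc.inv_left, h.pi_mul _ _ hc hd, h.pi_inv hc]

theorem pi_pow {c : G} (hc : Commute c z) (n : ℕ) : pi (c ^ n) = pi c ^ n := by
  induction n with
  | zero => rw [pow_zero, pow_zero, h.pi_one]
  | succ n ih => rw [pow_succ, pow_succ, h.pi_mul _ _ (hc.pow_left n) hc, ih]

theorem pow_four {q : G} (hq : q ∈ Q) : q ^ 4 = 1 := by
  have : q ^ 4 = q * q * (q * q) := by simp only [pow_succ, pow_zero, one_mul, mul_assoc]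
  rw [this]
  rcases h.sqQ hq with e | e <;> rw [e]
  exacts [one_mul 1, h.zz]

/-- An element of order three of the image has a lift of order three. -/
theorem lift_three {γ : P36} (h3 : γ ^ 3 = 1) (h1 : sign γ.1 = 1) (h2 : sign γ.2 = 1) :
    ∃ c, Commute c z ∧ pi c = γ ∧ c ^ 3 = 1 := by
  obtain ⟨c, hc, hγ⟩ := h.pi_surj γ h1 h2
  have hq : c ^ 3 ∈ Q := (h.pi_ker _ (hc.pow_left 3)).1 (by rw [h.pi_pow hc, hγ, h3])
  refine ⟨c ^ 4, hc.pow_left 4, ?_, ?_⟩
  · rw [h.pi_pow hc, hγ, show (4 : ℕ) = 3 + 1 from rfl, pow_succ, h3, one_mul]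
  · rw [← pow_mul, show 4 * 3 = 3 * 4 from rfl, pow_mul, h.pow_four hq]

omit h in
/-- Conjugation by an element of the image of the first three-cycle. -/
theorem x3_sign : sign x3.1 = 1 ∧ sign x3.2 = 1 := by
  constructor <;> simp [x3, sign_finRotate]

end Base

end Cfsg.Agent.Lib.ExtraNine31
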