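import Cfsg.Agent.Lib.ExtraNine31.Lines

/-!
# Case A: a conjugate outside `Q` in three conjugates of `Q`

Owner: helper31.
-/

set_option autoImplicit false
set_option linter.unusedSectionVars false

namespace Cfsg.Agent.Lib.ExtraNine31

open Cfsg.Agent.Lib.LargeExtraspecial.Basic
open Equiv.Perm (sign)

variable {G : Type*} [Group G] [Finite G] {V : Type*} [AddCommGroup V] [Module F2 V] {z : G}
  {Q : Subgroup G} {Φ : QF V} {co : G → V} {ac : G → V →ₗ[F2] V} {pi : G → P36} {x : G}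
  (h : Base z Q Φ co ac pi) (hx : Lift3 z pi x) (hA : CaseA ac x)

namespace Base

include h hx hA

/-- The real parts of two points with a common neighbour coincide. -/
theorem real_le {ku kw kz : G} (hu : Pt z Q ku) (hw : Pt z Q kw) (hz : Pt z Q kz)
    (h0 : Φ.bil (co (ku * z * ku⁻¹)) (co (kw * z * kw⁻¹)) = 0)
    (h1 : Φ.bil (co (ku * z * ku⁻¹)) (ac x (co (kw * z * kw⁻¹))) = 1)
    (hzu : co (kz * z * kz⁻¹) ∈ h.meet ku) (hzw : co (kz * z * kz⁻¹) ∈ h.meet kw) :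
    h.real kw x (co (ku * z * ku⁻¹)) ≤ h.real ku x (co (kw * z * kw⁻¹)) := by
  have := h.finite
  have hF := h.fpf3_top hx hA
  set U := co (ku * z * ku⁻¹) with hU
  set W := co (kw * z * kw⁻¹) with hW
  set Z := co (kz * z * kz⁻¹) with hZ
  have g0 : Φ.bil W U = 0 := (Φ.bil_comm _ _).trans h0
  have g1 : Φ.bil W (ac x U) = 1 := by
    rw [Φ.bil_comm]
    exact hu.bil_xp_w h hx hA h0 h1
  have hxUW : Φ.bil (ac x U) W = 1 := hu.bil_xp_w h hx hA h0 h1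
  have hzR : Z ∈ h.real ku x W :=
    h.mem_real.2 ⟨hzu, (hw.orth_of_meet h hx hA hzw).1, (hw.orth_of_meet h hx hA hzw).2⟩
  have hzR' : Z ∈ h.real kw x U :=
    h.mem_real.2 ⟨hzw, (hu.orth_of_meet h hx hA hzu).1, (hu.orth_of_meet h hx hA hzu).2⟩
  intro r hr
  obtain ⟨hrm, r1, r2⟩ := h.mem_real.1 hr
  obtain ⟨s1, s2⟩ := hw.orth_of_meet h hx hA hrm
  rw [← hW] at s1 s2
  have hn : r ∈ hu.Lperp h x := (hu.mem_Lperp h hx hA).2 ⟨r1, r2⟩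
  rw [← hu.sup_Lperp h hx hA] at hn
  obtain ⟨j, hj, _, ⟨k, hk, rfl⟩, hjk⟩ := Submodule.mem_sup.1 hn
  obtain ⟨a, ha, a₀, b₀, rfl⟩ := hu.split_meet h hx hA h0 h1 hj
  obtain ⟨b, hb, a₁, b₁, rfl⟩ := hu.split_meet h hx hA h0 h1 hk
  let α := a₀ + b₁
  let β := b₀ + a₁ + b₁
  have hr' : r = a + ac x b + α • U + β • ac x U := by
    rw [← hjk, map_add, map_add, map_smul, map_smul, hF.sq_eq Submodule.mem_top]
    simp only [α, β, add_smul, smul_add]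
    abel
  obtain ⟨ham, ha1, ha2⟩ := h.mem_real.1 ha
  obtain ⟨hbm, hb1, hb2⟩ := h.mem_real.1 hb
  have hWU : Φ.bil W U = 0 := g0
  have hxWU : Φ.bil (ac x W) U = 1 := by rw [Φ.bil_comm]; exact h1
  have hxWxU : Φ.bil (ac x W) (ac x U) = 0 := by rw [h.ac_bil hx.comm, g0]
  have hβ : β = 0 := by
    rw [hr'] at s1
    simp only [map_add, map_smul, ha1, smul_eq_mul, hWU, g1, mul_zero, mul_one, zero_add, add_zero,
      h.xx_bil hx hA W b, hb1, hb2] at s1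
    exact s1
  have hα : α = 0 := by
    rw [hr'] at s2
    simp only [map_add, map_smul, ha2, smul_eq_mul, hxWU, hxWxU, h.ac_bil hx.comm, hb1, mul_zero, mul_one,
      zero_add, add_zero] at s2
    exact s2
  rw [hα, hβ, zero_smul, zero_smul, add_zero, add_zero] at hr'
  -- the pairing with the common neighbour
  have hZb : Φ.bil Z (ac x b) = 0 := by
    have := (hw.meet_TS h).bil_eq_zero Φ hzw hrm
    rwa [hr', map_add, (hu.meet_TS h).bil_eq_zero Φ hzu ham, zero_add] at this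
  by_cases hb0 : b = 0
  · rw [hr', hb0, map_zero, add_zero]
    exact ha
  have hbZ : b = Z := by
    by_contra hne
    exact one_ne_zero ((hu.real_rho h hx hA h0 h1 hzR hb (hz.co_ne h) hb0 (Ne.symm hne)).symm.trans hZb)
  subst hbZ
  have haZ : a = 0 ∨ a = Z := by
    by_contra hne
    rw [not_or] at hne
    have e := hw.meet_TS h r hrm
    rw [hr', Φ.polar, hu.meet_TS h a ham, h.ac_q hx.comm, hz.q_co h, zero_add, zero_add,
      hu.real_rho h hx hA h0 h1 ha hzR hne.1 (hz.co_ne h) hne.2] at e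
    exact one_ne_zero e
  exfalso
  refine hz.co_ne h (hw.real_x_disjoint h hx hA g0 g1 hzR' ?_)
  rcases haZ with e | e <;> rw [e] at hr'
  · rw [zero_add] at hr'; rw [← hr']; exact hrm
  · rw [show ac x Z = r + Z by rw [hr', add_right_comm, add_self_eq_zero', zero_add]]
    exact add_mem hrm hzw

theorem real_eq {ku kw kz : G} (hu : Pt z Q ku) (hw : Pt z Q kw) (hz : Pt z Q kz)
    (h0 : Φ.bil (co (ku * z * ku⁻¹)) (co (kw * z * kw⁻¹)) = 0)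
    (h1 : Φ.bil (co (ku * z * ku⁻¹)) (ac x (co (kw * z * kw⁻¹))) = 1)
    (hzu : co (kz * z * kz⁻¹) ∈ h.meet ku) (hzw : co (kz * z * kz⁻¹) ∈ h.meet kw) :
    h.real kw x (co (ku * z * ku⁻¹)) = h.real ku x (co (kw * z * kw⁻¹)) := by
  have := h.finite
  refine Submodule.eq_of_le_of_finrank_le (h.real_le hx hA hu hw hz h0 h1 hzu hzw) ?_
  rw [hu.finrank_real h hx hA h0 h1, hw.finrank_real h hx hA ((Φ.bil_comm _ _).trans h0)
    (by rw [Φ.bil_comm]; exact hu.bil_xp_w h hx hA h0 h1)]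

/-- A fourth point. -/
theorem fourth {ku kw kz : G} (hu : Pt z Q ku) (hw : Pt z Q kw) (hz : Pt z Q kz)
    (h0 : Φ.bil (co (ku * z * ku⁻¹)) (co (kw * z * kw⁻¹)) = 0)
    (h1 : Φ.bil (co (ku * z * ku⁻¹)) (ac x (co (kw * z * kw⁻¹))) = 1)
    (hzu : co (kz * z * kz⁻¹) ∈ h.meet ku) (hzw : co (kz * z * kz⁻¹) ∈ h.meet kw) :
    ∃ ke, Pt z Q ke ∧ co (ke * z * ke⁻¹) ∈ h.meet ku ∧ co (ke * z * ke⁻¹) ∈ h.meet kw ∧
      Φ.bil (co (ke * z * ke⁻¹)) (co (kz * z * kz⁻¹)) = 0 ∧ co (ke * z * ke⁻¹) ∉ h.meet kz := by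
  have := h.finite
  set U := co (ku * z * ku⁻¹) with hU
  set W := co (kw * z * kw⁻¹) with hW
  set Z := co (kz * z * kz⁻¹) with hZ
  have g0 : Φ.bil W U = 0 := (Φ.bil_comm _ _).trans h0
  have g1 : Φ.bil W (ac x U) = 1 := by
    rw [Φ.bil_comm]
    exact hu.bil_xp_w h hx hA h0 h1
  have hR := h.real_eq hx hA hu hw hz h0 h1 hzu hzw
  have hzR : Z ∈ h.real ku x W :=
    h.mem_real.2 ⟨hzu, (hw.orth_of_meet h hx hA hzw).1, (hw.orth_of_meet h hx hA hzw).2⟩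
  obtain ⟨b, hb, hb'⟩ : ∃ b ∈ h.real ku x W, b ∉ Submodule.span F2 {Z} := by
    refine SetLike.not_le_iff_exists.1 fun hle => ?_
    have := Submodule.finrank_mono hle
    rw [hu.finrank_real h hx hA h0 h1, finrank_span_singleton (hz.co_ne h)] at this
    omega
  have hb0 : b ≠ 0 := fun e => hb' (e ▸ zero_mem _)
  have hbZ : b ≠ Z := fun e => hb' (e ▸ Submodule.mem_span_singleton_self _)
  have hρbZ : Φ.bil b (ac x Z) = 1 := hu.real_rho h hx hA h0 h1 hb hzR hb0 (hz.co_ne h) hbZ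
  have hρZb : Φ.bil Z (ac x b) = 1 := hu.real_rho h hx hA h0 h1 hzR hb (hz.co_ne h) hb0 (Ne.symm hbZ)
  -- it is enough to show that a real vector is a point
  suffices key : ∃ r ∈ h.real ku x W, Φ.bil Z (ac x r) = 1 ∧ ∃ k, Pt z Q k ∧ co (k * z * k⁻¹) = r by
    obtain ⟨r, hr, hρ, k, hk, rfl⟩ := key
    refine ⟨k, hk, (h.mem_real.1 hr).1, (h.mem_real.1 (hR.symm ▸ hr : _ ∈ h.real kw x U)).1,
      (hu.meet_TS h).bil_eq_zero Φ (h.mem_real.1 hr).1 hzu, fun hm => ?_⟩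
    have ho := h.orth_x hx hA (hz.orth_of_meet h hx hA hm)
    rw [ho.1] at hρ
    exact one_ne_zero hρ.symm
  obtain ⟨f, hf, -, ⟨c, hfU⟩, hfR⟩ := hw.frame h hx hA g0 g1 (r := b) (hR.symm ▸ hb)
  obtain ⟨e, he, -, -, heR⟩ := hu.frame h hx hA h0 h1 (r := Z) hzR
  have heb : ac e b = b + U := by rw [heR b hb, hρbZ, one_smul]
  rcases f2_cases c with rfl | rfl
  · refine ⟨b, hb, hρZb, e * (f * ku), ?_⟩
    obtain ⟨t1, t2⟩ := hu.translate h hf.1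
    obtain ⟨t3, t4⟩ := t1.translate h he.1
    refine ⟨t3, ?_⟩
    rw [zero_smul, add_zero] at hfU
    rw [t4, t2, hfU, map_add, hu.ac_fix h he, heb, add_left_comm, add_self_eq_zero', add_zero]
  · obtain ⟨e', he', -, -, he'R⟩ := hu.frame h hx hA h0 h1 (r := b) hb
    refine ⟨Z + b, add_mem hzR hb, ?_, e * (f * (e' * kz)), ?_⟩
    · rw [map_add, map_add, ((h.fpf3_top hx hA).bil_x Submodule.mem_top).trans (hz.q_co h), zero_add, hρZb]
    obtain ⟨t1, t2⟩ := hz.translate h he'.1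
    obtain ⟨t3, t4⟩ := t1.translate h hf.1
    obtain ⟨t5, t6⟩ := t3.translate h he.1
    refine ⟨t5, ?_⟩
    rw [one_smul] at hfU
    have hfZ : ac f Z = Z + W := by rw [hfR Z (hR.symm ▸ hzR), hρZb, one_smul]
    have e1 : ac f (ac e' Z) = Z + b + U := by
      rw [he'R Z hzR, hρZb, one_smul, map_add, hfZ, hfU, add_add_add_comm, add_self_eq_zero', add_zero]
      abel
    have heZ : ac e Z = Z := by
      rw [heR Z hzR, ((h.fpf3_top hx hA).bil_x Submodule.mem_top).trans (hz.q_co h), zero_smul, add_zero]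
    rw [t6, t4, t2, e1, map_add, map_add, heZ, heb, hu.ac_fix h he, add_assoc, add_assoc b U U,
      add_self_eq_zero', add_zero]

theorem meet_symm {a b : G} (ha : Pt z Q a) (hb : Pt z Q b) (hm : co (a * z * a⁻¹) ∈ h.meet b) :
    co (b * z * b⁻¹) ∈ h.meet a := by
  have e := hb.meet_lift h ha.mem hm
  have e' := h.mem_symm (g := b⁻¹ * a) (by
    rw [show b⁻¹ * a * z * (b⁻¹ * a)⁻¹ = b⁻¹ * (a * z * a⁻¹) * b by group]; exact e)
  refine ⟨_, hb.mem, ?_, rfl⟩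
  rw [show a⁻¹ * (b * z * b⁻¹) * a = (b⁻¹ * a)⁻¹ * z * (b⁻¹ * a) by group]
  exact e'

theorem orth_case {k₁ k₂ k₀ : G} (h₁ : Pt z Q k₁) (h₂ : Pt z Q k₂) (h₀ : Pt z Q k₀)
    (ho : Orth Φ (ac x) (co (k₁ * z * k₁⁻¹)) (co (k₂ * z * k₂⁻¹)))
    (hn : co (k₂ * z * k₂⁻¹) ∉ h.meet k₁) (h02 : co (k₀ * z * k₀⁻¹) ∈ h.meet k₂)
    (hc : co (k₂ * z * k₂⁻¹) ∉ h₀.core h x) :
    ∃ ke, Pt z Q ke ∧ co (ke * z * ke⁻¹) ∈ h.meet k₁ ∧ co (ke * z * ke⁻¹) ∈ h.meet k₂ ∧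
      Φ.bil (co (ke * z * ke⁻¹)) (co (k₀ * z * k₀⁻¹)) = 0 ∧ co (ke * z * ke⁻¹) ∉ h.meet k₀ := by
  have hF := h.fpf3_top hx hA
  set W := co (k₂ * z * k₂⁻¹) with hW
  set Z := co (k₀ * z * k₀⁻¹) with hZ
  have o2 := h₂.orth_of_meet h hx hA h02
  have hW0 : W ∈ h.meet k₀ := h.meet_symm hx hA h₀ h₂ h02
  have hxm : ac x W ∈ h.meet k₂ := h₂.xp_mem h hx hA
  rcases h₁.exists_collinear h hx hA ((h₁.orth_iff h hx hA).1 ho) (h₂.q_co h) with e | e | e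
  · exact absurd e hn
  · obtain ⟨t1, t2⟩ := h₂.translate h hx.comm
    refine ⟨x * k₂, t1, t2 ▸ e, t2 ▸ hxm, ?_, fun hm => hc ?_⟩
    · rw [t2]; exact o2.2
    · rw [t2] at hm
      exact ⟨hW0, hm⟩
  · obtain ⟨t1, t2⟩ := h₂.translate h (hx.comm.mul_left hx.comm)
    rw [h.ac_mul hx.comm hx.comm] at t2
    have hxxm : ac x (ac x W) ∈ h.meet k₂ := by
      rw [hF.sq_eq Submodule.mem_top]; exact add_mem (h₂.co_mem h) hxm
    refine ⟨x * x * k₂, t1, t2 ▸ e, t2 ▸ hxxm, ?_, fun hm => hc ?_⟩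
    · rw [t2, hF.sq_eq Submodule.mem_top, map_add, LinearMap.add_apply, o2.1, o2.2, add_zero]
    · rw [t2, hF.sq_eq Submodule.mem_top] at hm
      refine ⟨hW0, ?_⟩
      show ac x W ∈ h.meet k₀
      have := add_mem hW0 hm
      rwa [← add_assoc, add_self_eq_zero', zero_add] at this

/-- A conjugate in `C(z)` outside `Q` lying in the conjugates of `Q` at three points. -/
theorem exists_common {g : G} (u : Pt z Q g) :
    ∃ ks ku kw ke : G, Pt z Q ks ∧ Pt z Q ku ∧ Pt z Q kw ∧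
      co (ks * z * ks⁻¹) ∈ h.meet ku ∧ co (ks * z * ks⁻¹) ∈ h.meet kw ∧
      Φ.bil (co (ku * z * ku⁻¹)) (co (kw * z * kw⁻¹)) = 0 ∧
      Φ.bil (co (ku * z * ku⁻¹)) (ac x (co (kw * z * kw⁻¹))) = 1 ∧
      Out z Q ke ∧ ks⁻¹ * (ke * z * ke⁻¹) * ks ∈ Q ∧ ku⁻¹ * (ke * z * ke⁻¹) * ku ∈ Q ∧
      kw⁻¹ * (ke * z * ke⁻¹) * kw ∈ Q := by
  obtain ⟨ks, ku, kw, hs, hu, hw, hus, hws, h0, h1⟩ := u.exists_triple h hx hA
  have hsu := h.meet_symm hx hA hu hs hus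
  have hsw := h.meet_symm hx hA hw hs hws
  refine ⟨ks, ku, kw, ?_⟩
  -- the frame of `s`
  have pull : ∀ k, Pt z Q k → co (k * z * k⁻¹) ∈ h.meet ks → k * z * k⁻¹ ≠ ks * z * ks⁻¹ →
      Pt z Q (ks⁻¹ * k) ∧ co (ks⁻¹ * z * ks⁻¹⁻¹) ∈ h.meet (ks⁻¹ * k) := fun k hk hm hne => by
    have e : ks⁻¹ * k * z * (ks⁻¹ * k)⁻¹ = ks⁻¹ * (k * z * k⁻¹) * ks := by group
    refine ⟨⟨e.symm ▸ hs.meet_lift h hk.mem hm, fun e' => hne ?_⟩, _, (hs.symm h).mem, ?_, rfl⟩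
    · rw [e] at e'
      calc k * z * k⁻¹ = ks * (ks⁻¹ * (k * z * k⁻¹) * ks) * ks⁻¹ := by group
        _ = ks * z * ks⁻¹ := by rw [e']
    · rw [show (ks⁻¹ * k)⁻¹ * (ks⁻¹ * z * ks⁻¹⁻¹) * (ks⁻¹ * k) = k⁻¹ * z * k by group]
      exact hk.z_rel h
  have hus' : ku * z * ku⁻¹ ≠ ks * z * ks⁻¹ := fun e => by
    have := (h.orth_x hx hA (hs.orth_of_meet h hx hA hws)).1
    rw [← e, h1] at this
    exact one_ne_zero this
  have hws' : kw * z * kw⁻¹ ≠ ks * z * ks⁻¹ := fun e => by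
    have := (hs.orth_of_meet h hx hA hus).2
    rw [← e, Φ.bil_comm, h1] at this
    exact one_ne_zero this
  obtain ⟨h₁, m₁⟩ := pull ku hu hus hus'
  obtain ⟨h₂, m₂⟩ := pull kw hw hws hws'
  have h₀ := hs.symm h
  have c0 : Φ.bil (co (ks⁻¹ * ku * z * (ks⁻¹ * ku)⁻¹)) (co (ks⁻¹ * kw * z * (ks⁻¹ * kw)⁻¹)) = 0 := by
    rw [← h.commute_Q h₁.mem h₂.mem]
    have := ((h.commute_Q hu.mem hw.mem).2 h0).map (MulAut.conj ks⁻¹).toMonoidHom
    simpa [mul_assoc] using this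
  have hno : ¬ Orth Φ (ac x) (co (ku * z * ku⁻¹)) (co (kw * z * kw⁻¹)) := fun o => by
    have := (h.orth_x hx hA o).1
    rw [h1] at this
    exact one_ne_zero this
  have n12 : co (ks⁻¹ * kw * z * (ks⁻¹ * kw)⁻¹) ∉ h.meet (ks⁻¹ * ku) := fun hm => hno <|
    hu.orth_of_meet h hx hA ⟨_, hw.mem, by
      have := h₁.meet_lift h h₂.mem hm
      rwa [show (ks⁻¹ * ku)⁻¹ * (ks⁻¹ * kw * z * (ks⁻¹ * kw)⁻¹) * (ks⁻¹ * ku) =
        ku⁻¹ * (kw * z * kw⁻¹) * ku by group] at this, rfl⟩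
  have n21 : co (ks⁻¹ * ku * z * (ks⁻¹ * ku)⁻¹) ∉ h.meet (ks⁻¹ * kw) := fun hm =>
    n12 (h.meet_symm hx hA h₁ h₂ hm)
  have hE : ∃ ke, Pt z Q ke ∧ co (ke * z * ke⁻¹) ∈ h.meet (ks⁻¹ * ku) ∧
      co (ke * z * ke⁻¹) ∈ h.meet (ks⁻¹ * kw) ∧
      Φ.bil (co (ke * z * ke⁻¹)) (co (ks⁻¹ * z * ks⁻¹⁻¹)) = 0 ∧ co (ke * z * ke⁻¹) ∉ h.meet ks⁻¹ := by
    by_cases ho : Orth Φ (ac x) (co (ks⁻¹ * ku * z * (ks⁻¹ * ku)⁻¹)) (co (ks⁻¹ * kw * z * (ks⁻¹ * kw)⁻¹))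
    · by_cases hc : co (ks⁻¹ * kw * z * (ks⁻¹ * kw)⁻¹) ∈ h₀.core h x
      · have hcore : co (ks⁻¹ * ku * z * (ks⁻¹ * ku)⁻¹) ∉ h₀.core h x := fun hc' => n12 (by
          have hle : Submodule.span F2
              ({co (ks⁻¹ * ku * z * (ks⁻¹ * ku)⁻¹), ac x (co (ks⁻¹ * ku * z * (ks⁻¹ * ku)⁻¹))} : Set V) =
              h₀.core h x := by
            have := h.finite
            refine Submodule.eq_of_le_of_finrank_le (Submodule.span_le.2 ?_) ?_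
            · rintro a (rfl | rfl)
              exacts [hc', h₀.x_core h hx hA hc']
            · rw [h₁.finrank_line h hx hA, h₀.core_eq h hx hA, h₀.finrank_line h hx hA]
          have hcl := hle.symm ▸ hc
          exact (Submodule.span_le.2 (by
            rintro a (rfl | rfl)
            exacts [h₁.co_mem h, h₁.xp_mem h hx hA]) : _ ≤ h.meet (ks⁻¹ * ku)) hcl)
        obtain ⟨ke, a1, a2, a3, a4, a5⟩ := h.orth_case hx hA h₂ h₁ h₀ (h.orth_comm hx hA ho) n21 m₁ hcore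
        exact ⟨ke, a1, a3, a2, a4, a5⟩
      · exact h.orth_case hx hA h₁ h₂ h₀ ho n12 m₂ hc
    · have c1 : Φ.bil (co (ks⁻¹ * ku * z * (ks⁻¹ * ku)⁻¹))
          (ac x (co (ks⁻¹ * kw * z * (ks⁻¹ * kw)⁻¹))) = 1 := by
        rw [h.xx_bil hx hA, c0, zero_add]
        exact (f2_cases _).resolve_left fun e => ho ⟨c0, e⟩
      exact h.fourth hx hA h₁ h₂ h₀ c0 c1 m₁ m₂
  obtain ⟨ke, he, me1, me2, hb, hne⟩ := hE
  have e : ks * ke * z * (ks * ke)⁻¹ = ks * (ke * z * ke⁻¹) * ks⁻¹ := by group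
  refine ⟨ks * ke, hs, hu, hw, hsu, hsw, h0, h1, ⟨?_, fun hm => hne ⟨_, he.mem, ?_, rfl⟩⟩, ?_, ?_, ?_⟩
  · rw [e]
    have := ((h.commute_Q he.mem h₀.mem).2 hb).map (MulAut.conj ks).toMonoidHom
    simpa [mul_assoc] using this
  · rw [inv_inv, ← e]; exact hm
  · rw [e, show ks⁻¹ * (ks * (ke * z * ke⁻¹) * ks⁻¹) * ks = ke * z * ke⁻¹ by group]
    exact he.mem
  · rw [e, show ku⁻¹ * (ks * (ke * z * ke⁻¹) * ks⁻¹) * ku =
      (ks⁻¹ * ku)⁻¹ * (ke * z * ke⁻¹) * (ks⁻¹ * ku) by group]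
    exact h₁.meet_lift h he.mem me1
  · rw [e, show kw⁻¹ * (ks * (ke * z * ke⁻¹) * ks⁻¹) * kw =
      (ks⁻¹ * kw)⁻¹ * (ke * z * ke⁻¹) * (ks⁻¹ * kw) by group]
    exact h₂.meet_lift h he.mem me2

end Base

end Cfsg.Agent.Lib.ExtraNine31
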