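import Cfsg.Agent.Lib.ExtraNine31.Pairs

/-!
# Case B: no conjugate outside `Q` centralises the first three-element modulo `Q`

Owner: helper31.
-/

set_option autoImplicit false
set_option linter.unusedSectionVars false

namespace Cfsg.Agent.Lib.ExtraNine31

open Cfsg.Agent.Lib.LargeExtraspecial.Basic
open Equiv.Perm (sign)

variable {G : Type*} [Group G] {V : Type*} [AddCommGroup V] [Module F2 V] {z : G} {Q : Subgroup G}
  {Φ : QF V} {co : G → V} {ac : G → V →ₗ[F2] V} {pi : G → P36} {x : G}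
  (h : Base z Q Φ co ac pi) (hx : Lift3 z pi x) (hB : CaseB ac pi z x)

namespace Base

include h hx hB

theorem q_V1 {v : V} (hv : v ∈ V1 ac x) (h0 : v ≠ 0) : Φ.q v = 1 := by
  have := h.finite
  refine (f2_cases _).resolve_left fun e => h0 (h.nondeg_V1 hx hv fun w hw => ?_)
  have hF := h.fpf3_V1 hx
  have hspan : Submodule.span F2 ({v, ac x v} : Set V) = V1 ac x := by
    refine Submodule.eq_of_le_of_finrank_le (Submodule.span_le.2 ?_) ?_
    · rintro a (rfl | rfl)
      exacts [hv, hF.mem v hv]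
    · rw [hB.dim1]
      have hli : LinearIndependent F2 ![v, ac x v] := by
        refine LinearIndependent.pair_iff.2 fun s t hst => ?_
        rcases f2_cases s with rfl | rfl <;> rcases f2_cases t with rfl | rfl
        · exact ⟨rfl, rfl⟩
        · rw [zero_smul, one_smul, zero_add] at hst
          have := hF.cube hv
          rw [hst, map_zero, map_zero] at this
          exact absurd this.symm h0
        · rw [zero_smul, one_smul, add_zero] at hst
          exact absurd hst h0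
        · rw [one_smul, one_smul] at hst
          refine absurd (hF.fixed hv ?_) h0
          rw [← zero_add (ac x v), ← add_self_eq_zero' v, add_assoc, hst, add_zero]
      have e2 := finrank_span_eq_card hli
      rw [show Set.range ![v, ac x v] = ({v, ac x v} : Set V) by simp [Set.pair_comm], Fintype.card_fin] at e2
      rw [e2]
  rw [← hspan] at hw
  obtain ⟨a, b, rfl⟩ := Submodule.mem_span_pair.1 hw
  rw [map_add, LinearMap.add_apply, map_smul, map_smul, LinearMap.smul_apply, LinearMap.smul_apply,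
    Φ.bil_self, Φ.bil_comm, hF.bil_x hv, e, smul_zero, smul_zero, add_zero]

/-- An element of the first kind inducing an involution is trivial on the two-dimensional part. -/
theorem fix_V1 {c : G} (hc : Commute c z) (hs : sign (pi c).1 = 1) (h2 : ∀ v, ac c (ac c v) = v) {v : V}
    (hv : v ∈ V1 ac x) : ac c v = v := by
  have hF := h.fpf3_V1 hx
  have hm : v + ac c v ∈ V1 ac x := add_mem hv (h.ac_mem_V1 hx hc hv)
  by_contra hne
  have h0 : v + ac c v ≠ 0 := fun e => hne (by
    rw [← zero_add (ac c v), ← add_self_eq_zero' v, add_assoc, e, add_zero])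
  have e1 := h.q_V1 hx hB hm h0
  rw [Φ.polar, h.ac_q hc, CharTwo.add_self_eq_zero, zero_add] at e1
  -- so `c v` is `x v` or `x² v`
  have hcv : ac c v ∈ V1 ac x := h.ac_mem_V1 hx hc hv
  have key : ac c v = ac x v ∨ ac c v = ac x (ac x v) := by
    by_contra hk
    rw [not_or] at hk
    have a1 : ac c v + ac x v ≠ 0 := fun e => hk.1 (by
      rw [← add_zero (ac c v), ← add_self_eq_zero' (ac x v), ← add_assoc, e, zero_add])
    have a2 : ac c v + ac x (ac x v) ≠ 0 := fun e => hk.2 (by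
      rw [← add_zero (ac c v), ← add_self_eq_zero' (ac x (ac x v)), ← add_assoc, e, zero_add])
    have q1 := h.q_V1 hx hB (add_mem hcv (hF.mem v hv)) a1
    have q2 := h.q_V1 hx hB (add_mem hcv (hF.mem _ (hF.mem v hv))) a2
    rw [Φ.polar, h.ac_q hc, h.ac_q hx.comm, CharTwo.add_self_eq_zero, zero_add] at q1
    rw [Φ.polar, h.ac_q hc, h.ac_q hx.comm, h.ac_q hx.comm, CharTwo.add_self_eq_zero, zero_add,
      hF.sq_eq hv, map_add, Φ.bil_comm _ v, e1, q1] at q2
    exact absurd q2 (by decide)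
  rcases key with e | e
  · have e2 := h2 v
    rw [e, h.ac_x_comm hx hc hs, e] at e2
    have e3 := congrArg (ac x) e2
    rw [h.x_cube hx] at e3
    exact hne (e.trans e3.symm)
  · have e2 := h2 v
    rw [e, h.ac_x_comm hx hc hs, h.ac_x_comm hx hc hs, e, h.x_cube hx] at e2
    refine hne (e.trans ?_)
    rw [e2, e2]

end Base

namespace Out

variable {g : G} (o : Out z Q g)
include h hx hB o

theorem exists_four [Finite G] (hs : sign (pi (g * z * g⁻¹)).1 = 1) :
    ∃ q ∈ Q, Commute q (g * z * g⁻¹) ∧ q * q = z ∧ co q ∈ Base.V1 ac x := by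
  have := h.finite
  have hfix : Base.V1 ac x ≤ fixS (ac (g * z * g⁻¹)) := fun v hv =>
    mem_fixS.2 (h.fix_V1 hx hB o.comm hs (o.tt h) hv)
  have h1 := Submodule.finrank_mono (sup_le hfix (o.kerS_le h))
  have h2 := Submodule.finrank_sup_add_finrank_inf_eq (Base.V1 ac x) (h.kerS g)
  have h3 := o.finrank_kerS h
  rw [hB.dim1] at h2
  obtain ⟨v, hv, hv0⟩ := Submodule.exists_mem_ne_zero_of_ne_bot
    (p := Base.V1 ac x ⊓ h.kerS g) fun e => by rw [e, finrank_bot] at h2; omega
  obtain ⟨q, hq, rfl, hc⟩ := hv.2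
  exact ⟨q, hq, hc, by rw [h.sq q hq, h.q_V1 hx hB hv.1 hv0, zp_one], hv.1⟩

theorem dt_of_caseB [Finite G] (hs : sign (pi (g * z * g⁻¹)).1 = 1) : Dt (pi (g⁻¹ * z * g)) := by
  obtain ⟨q, hq, hc, e, -⟩ := o.exists_four h hx hB hs
  exact o.dt_partner h hq hc e

theorem false_of_dt [Finite G] (ht : Dt (pi (g * z * g⁻¹))) (hz0 : Dt (pi (g⁻¹ * z * g))) : False := by
  have := h.finite
  have := h.finiteV
  obtain ⟨q1, hq1, hc1, e1, hv1⟩ := o.exists_four h hx hB ht.par
  -- the centraliser of `t` in the six-dimensional part is abelian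
  have hab : ∀ q ∈ Q, ∀ r ∈ Q, Commute q (g * z * g⁻¹) → Commute r (g * z * g⁻¹) →
      co q ∈ Base.V0 ac x → co r ∈ Base.V0 ac x → Φ.bil (co q) (co r) = 0 := by
    intro q hq r hr hcq hcr hvq hvr
    refine (f2_cases _).resolve_right fun eB => ?_
    have hz : Commute z (g * z * g⁻¹) := o.comm.symm
    have ha1 : Commute q q1 := (h.commute_Q hq hq1).2 (h.orth_V hx hvq hv1)
    have ha2 : Commute r q1 := (h.commute_Q hr hq1).2 (h.orth_V hx hvr hv1)
    have hz0e : pi (g⁻¹ * q1 * g) * pi (g⁻¹ * q1 * g) = pi (g⁻¹ * z * g) := by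
      rw [← h.pi_rel_mul hc1 hc1, e1]
    have c4 := cent_four (p := pi (g⁻¹ * q1 * g)) (a := pi (g⁻¹ * q * g)) (b := pi (g⁻¹ * r * g))
      (by rw [hz0e]; exact hz0.ne_one) (by rw [hz0e]; exact hz0.sq)
      (by rw [← h.pi_rel_mul hcq hc1, ← h.pi_rel_mul hc1 hcq, ha1.eq])
      (by rw [← h.pi_rel_mul hcr hc1, ← h.pi_rel_mul hc1 hcr, ha2.eq])
    have e2 := h.comm_Q hq hr
    rw [eB, zp_one] at e2
    have e3 : q * r = z * (r * q) := by
      rw [← mul_assoc, ← (h.commQz hr).eq, ← e2, inv_mul_cancel_right]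
    rw [← h.pi_rel_mul hcq hcr, ← h.pi_rel_mul hcr hcq, e3, h.pi_rel_mul hz (hcr.mul_left hcq)] at c4
    exact hz0.2.2.1 (mul_eq_right.1 c4)
  -- the fixed space in it has dimension at least four
  obtain ⟨r, hr2, hrs⟩ := s6_dt_sqrt _ ht.2.2.2 ht.2.2.1 ht.2.1
  obtain ⟨f, hf, hfγ⟩ := h.pi_surj (1, r) (map_one _) hrs
  have hff : ∀ v, ac f (ac f v) = ac (g * z * g⁻¹) v := fun v => by
    rw [← h.ac_mul hf hf]
    refine h.ac_eq_of_pi (hf.mul_left hf) o.comm ?_ v
    rw [h.pi_mul _ _ hf hf, hfγ]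
    exact Prod.ext (by rw [ht.1]; exact one_mul 1) hr2
  have hN2 : ∀ v : V, (LinearMap.id + ac f : V →ₗ[F2] V) ((LinearMap.id + ac f : V →ₗ[F2] V) v) = v + ac (g * z * g⁻¹) v := fun v => by
    show v + ac f v + ac f (v + ac f v) = _
    rw [map_add, hff, add_assoc, ← add_assoc (ac f v), add_self_eq_zero', zero_add]
  have hfV1 : ∀ v ∈ Base.V1 ac x, ac f v = v := fun v hv =>
    hB.trivial f hf (by rw [hfγ]) (by rw [hfγ]; exact hrs) v hv
  have hrk := QF.rank_sq_le (LinearMap.id + ac f) (Base.V0 ac x) (Base.V1 ac x)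
    (by rw [hB.dim1, h.dim])
    (by
      rintro _ ⟨v, rfl⟩
      obtain ⟨p, hp, b, hb, rfl⟩ :=
        Submodule.mem_sup.1 ((h.sup_V hx).symm ▸ Submodule.mem_top : v ∈ _)
      show p + b + ac f (p + b) ∈ Base.V0 ac x
      rw [map_add, hfV1 b hb, add_add_add_comm, add_self_eq_zero', add_zero]
      exact add_mem hp (h.ac_mem_V0 hx hf hp))
    (fun v hv => by
      show v + ac f v = 0
      rw [hfV1 v hv, add_self_eq_zero'])
    (h.disjoint_V hx)
    (fun v => by
      rw [hN2, hN2, map_add, o.tt h, add_comm (ac _ v) v, add_self_eq_zero'])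
  have hmov : movS (ac (g * z * g⁻¹)) = LinearMap.range ((LinearMap.id + ac f) ∘ₗ (LinearMap.id + ac f)) := by
    unfold movS
    exact congrArg LinearMap.range (LinearMap.ext fun v => (hN2 v).symm)
  rw [← hmov] at hrk
  have hd := o.finrank_fix_mov h
  -- a nonsingular vector in the commutator space
  obtain ⟨y, hy5, hy1, hyinv⟩ := s6_dt_inverts _ ht.2.2.2 ht.2.2.1 ht.2.1
  have hys : sign y = 1 := by
    have h0 := congrArg sign hy5
    simp only [map_mul, map_one] at h0
    rcases Int.units_eq_one_or (sign y) with e | e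
    · exact e
    · rw [e] at h0; exact absurd h0 (by decide)
  let a : alternatingGroup (Fin 6) := ⟨y, Equiv.Perm.mem_alternatingGroup.2 hys⟩
  have ha5 : a ^ 5 = 1 := Subtype.ext (by
    show y ^ 5 = 1
    simpa only [pow_succ, pow_zero, one_mul] using hy5)
  have hfix1 : ∀ v ∈ Base.V1 ac x, h.act a v = v := fun v hv =>
    hB.trivial _ (h.lf_comm a) (by rw [h.lf_pi]) (by rw [h.lf_pi]; exact hys) v hv
  obtain ⟨Y, hYU, hY5, h4, h48, hn', hYmem⟩ := QF.exists_five (Φ := Φ) (U := Base.V0 ac x)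
    (y := (h.act a : V →ₗ[F2] V)) (h.act_mem_V0 hx a) (fun w _ => h.act_five ha5 w) (h.act_bil a)
    (fun v hv e => h.nondeg_V0 hx hv e) (by
      by_contra hcon
      refine hy1 (congrArg Subtype.val (h.act_faithful (a := a) fun v => ?_))
      obtain ⟨p, hp, b, hb, rfl⟩ :=
        Submodule.mem_sup.1 ((h.sup_V hx).symm ▸ Submodule.mem_top : v ∈ _)
      rw [map_add, hfix1 b hb]
      by_cases e : h.act a p = p
      · rw [e]
      · exact absurd ⟨p, hp, e⟩ hcon)
  have hY4 : Module.finrank F2 Y = 4 := by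
    have := Submodule.finrank_mono hYU
    rw [hB.dim0] at this
    rcases h48 (by rw [hB.dim0]; norm_num) with e | e
    · exact e
    · omega
  have htinv : ∀ w, ac (g * z * g⁻¹) (h.act a w) =
      h.act a (h.act a (h.act a (h.act a (ac (g * z * g⁻¹) w)))) := fun w => by
    simp only [← LinearEquiv.mul_apply, ← map_mul]
    simp only [h.act_apply]
    rw [← h.ac_mul o.comm (h.lf_comm _), ← h.ac_mul (h.lf_comm _) o.comm]
    refine h.ac_eq_of_pi (o.comm.mul_left (h.lf_comm _)) ((h.lf_comm _).mul_left o.comm) ?_ w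
    rw [h.pi_mul _ _ o.comm (h.lf_comm _), h.pi_mul _ _ (h.lf_comm _) o.comm, h.lf_pi, h.lf_pi]
    refine Prod.ext (by simp [ht.1]) ?_
    have hp := ht.2.2.2
    generalize hpe : (pi (g * z * g⁻¹)).2 = p at hp hyinv
    simp only [Prod.snd_mul, hpe, a, Subgroup.coe_mul]
    simp only [← mul_assoc]
    rw [← hyinv, mul_assoc _ p, hp, mul_one]
  have htY : ∀ w ∈ Y, ac (g * z * g⁻¹) w ∈ Y :=
    QF.five_mem hYmem (h.act_mem_V0 hx a) (fun w _ => h.act_five ha5 w)
      (fun w hw => h.ac_mem_V0 hx o.comm hw) (Or.inr fun w _ => htinv w)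
  obtain ⟨w, hw, hw1⟩ := QF.exists_moved (Φ := Φ) hY5 htY (h.act_bil a) (fun w _ => htinv w)
    (fun w _ => o.tt h w) hY4 hn'
  have hvm : w + ac (g * z * g⁻¹) w ∈ movS (ac (g * z * g⁻¹)) := ⟨w, rfl⟩
  have hvq : Φ.q (w + ac (g * z * g⁻¹) w) = 1 := by
    rw [Φ.polar, h.ac_q o.comm, CharTwo.add_self_eq_zero, zero_add, hw1]
  have hvK : w + ac (g * z * g⁻¹) w ∉ h.kerS g := fun hk => by
    have := o.mov_q h hvm fun q hq e => o.kerS_commute h hk hq e
    rw [hvq] at this
    exact absurd this (by decide)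
  have hvV0 : w + ac (g * z * g⁻¹) w ∈ Base.V0 ac x :=
    add_mem (hYU hw) (h.ac_mem_V0 hx o.comm (hYU hw))
  -- hence that fixed space is totally isotropic
  let C0 := fixS (ac (g * z * g⁻¹)) ⊓ Base.V0 ac x
  have hsplit : ∀ b ∈ C0, ∃ k, k ∈ h.kerS g ∧ k ∈ Base.V0 ac x ∧
      (b = k ∨ b = k + (w + ac (g * z * g⁻¹) w)) := fun b hb => by
    by_cases hbK : b ∈ h.kerS g
    · exact ⟨b, hbK, hb.2, Or.inl rfl⟩
    · exact ⟨b + (w + ac (g * z * g⁻¹) w), o.add_mem_kerS h hb.1 (o.mov_le h hvm) hbK hvK,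
        add_mem hb.2 hvV0, Or.inr (by rw [add_assoc, add_self_eq_zero', add_zero])⟩
  have hiso : C0 ≤ Φ.perp (C0 ⊔ Base.V1 ac x) := fun b hb c hc => by
    obtain ⟨p, hp, v, hv, rfl⟩ := Submodule.mem_sup.1 hc
    rw [map_add, LinearMap.add_apply, (Φ.bil_comm v b).trans (h.orth_V hx hb.2 hv), add_zero]
    obtain ⟨k, hk, hk0, e⟩ := hsplit p hp
    have hvb : Φ.bil (w + ac (g * z * g⁻¹) w) b = 0 := o.mov_orth h hvm hb.1
    have hkb : Φ.bil k b = 0 := by
      obtain ⟨k', hk', hk0', e'⟩ := hsplit b hb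
      have hkv : Φ.bil k (w + ac (g * z * g⁻¹) w) = 0 :=
        (Φ.bil_comm _ _).trans (o.mov_orth h hvm (o.kerS_le h hk))
      have hkk : Φ.bil k k' = 0 := by
        obtain ⟨q, hq, rfl, hcq⟩ := hk
        obtain ⟨r, hr, rfl, hcr⟩ := hk'
        exact hab q hq r hr hcq hcr hk0 hk0'
      rcases e' with rfl | rfl
      · exact hkk
      · rw [map_add, hkk, hkv, add_zero]
    rcases e with rfl | rfl
    · exact hkb
    · rw [map_add, LinearMap.add_apply, hkb, hvb, add_zero]
  have k1 := Submodule.finrank_mono hiso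
  have k2 := Φ.finrank_perp (C0 ⊔ Base.V1 ac x)
  have k3 := Submodule.finrank_sup_add_finrank_inf_eq C0 (Base.V1 ac x)
  rw [((h.disjoint_V hx).mono_left inf_le_right).eq_bot, finrank_bot, hB.dim1] at k3
  have k4 := Submodule.finrank_sup_add_finrank_inf_eq (fixS (ac (g * z * g⁻¹))) (Base.V0 ac x)
  rw [hB.dim0] at k4
  have k5 := Submodule.finrank_le (fixS (ac (g * z * g⁻¹)) ⊔ Base.V0 ac x)
  rw [h.dim] at k2 k5
  change _ + Module.finrank F2 C0 = _ at k4
  omega

/-- In case B no conjugate outside `Q` centralises the three-element. -/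
theorem false_of_caseB [Finite G] (hs : sign (pi (g * z * g⁻¹)).1 = 1) : False := by
  have d0 := o.dt_of_caseB h hx hB hs
  have d1 := (o.symm h).dt_of_caseB h hx hB (by
    have := d0.par
    rwa [inv_inv])
  rw [inv_inv] at d1
  exact o.false_of_dt h hx hB d1 d0

end Out

end Cfsg.Agent.Lib.ExtraNine31
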