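import Cfsg.Agent.Lib.ExtraNine31.Point
import Cfsg.Agent.Lib.ExtraNine31.OutB

/-!
# Case B: `z` is the only one of its conjugates in `Q`

Owner: helper31.
-/

set_option autoImplicit false
set_option linter.unusedSectionVars false

namespace Cfsg.Agent.Lib.ExtraNine31

open Cfsg.Agent.Lib.LargeExtraspecial.Basic
open Equiv.Perm (sign)

variable {G : Type*} [Group G] {V : Type*} [AddCommGroup V] [Module F2 V] {z : G} {Q : Subgroup G}
  {Φ : QF V} {co : G → V} {ac : G → V →ₗ[F2] V} {pi : G → P36} {x g : G}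

/-- The pairs with trivial sign on the first factor. -/
def evenPart : Subgroup P36 := (Equiv.Perm.sign.comp (MonoidHom.fst (Equiv.Perm (Fin 3)) _)).ker

theorem mem_evenPart {γ : P36} : γ ∈ evenPart ↔ sign γ.1 = 1 := Iff.rfl

/-- The even part has index at most two. -/
theorem card_le_two_mul_even (E : Subgroup P36) : Nat.card E ≤ 2 * Nat.card (E ⊓ evenPart : Subgroup P36) := by
  let f : E →* ℤˣ := (Equiv.Perm.sign.comp (MonoidHom.fst (Equiv.Perm (Fin 3)) _)).comp E.subtype
  have h1 := f.ker.card_eq_card_quotient_mul_card_subgroup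
  rw [Nat.card_congr (QuotientGroup.quotientKerEquivRange f).toEquiv] at h1
  have h2 : Nat.card f.range ≤ 2 := by
    refine le_trans (Nat.card_le_card_of_injective _ Subtype.val_injective) ?_
    simp [Nat.card_eq_fintype_card]
  have h3 : f.ker.map E.subtype = E ⊓ evenPart := by
    ext γ
    constructor
    · rintro ⟨e, he, rfl⟩; exact ⟨e.2, he⟩
    · rintro ⟨hE, he⟩; exact ⟨⟨γ, hE⟩, he, rfl⟩
  rw [← h3, ← Nat.card_congr (Subgroup.equivMapOfInjective _ _ E.subtype_injective).toEquiv, h1]
  exact Nat.mul_le_mul_right _ h2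

namespace Pt

variable (u : Pt z Q g) (h : Base z Q Φ co ac pi)
include u h

theorem card_img_meet [Finite G] :
    Nat.card (h.img g) * 2 ^ Module.finrank F2 (h.meet g) = 128 := by
  have := h.finite
  have h1 := u.card_img h
  rw [u.card_meetG h, Module.natCard_eq_pow_finrank (K := F2) (V := h.meet g), Nat.card_zmod] at h1
  rw [← mul_assoc, mul_comm (Nat.card _) 2, mul_assoc] at h1
  omega

theorem meet_le_four [Finite G] : Module.finrank F2 (h.meet g) ≤ 4 := by
  have := h.finite
  have := (u.meet_TS h).two_finrank_le Φ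
  rw [h.dim] at this
  omega

/-- An element of the conjugate part squares to the identity on `Q/⟨z⟩`. -/
theorem ac_invol [Finite G] {e : G} (he : InC z Q g e) (v : V) : ac e (ac e v) = v := by
  rw [← h.ac_mul he.1 he.1, h.ac_eq_of_pi (he.1.mul_left he.1) (Commute.one_left z) ?_ v, h.ac_one]
  rw [h.pi_mul _ _ he.1 he.1, h.pi_one]
  exact u.img_sq h ⟨e, he, rfl⟩

theorem adjoint [Finite G] {e : G} (he : InC z Q g e) (v w : V) :
    Φ.bil v (w + ac e w) = Φ.bil (v + ac e v) w := by
  rw [map_add, map_add, LinearMap.add_apply]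
  congr 1
  conv_lhs => rw [← u.ac_invol h he v, h.ac_bil he.1]

theorem false_of_caseB [Finite G] (hx : Lift3 z pi x) (hB : CaseB ac pi z x) : False := by
  classical
  have := h.finite
  have h128 := u.card_img_meet h
  have hi4 := u.meet_le_four h
  by_cases hp : co (g * z * g⁻¹) ∈ Base.V0 ac x
  · -- the point is centralised by the three-element
    obtain ⟨a, ha⟩ := h.co_eq u.mem (h.norm x hx.comm _ u.mem)
      (by rw [h.conj x hx.comm _ u.mem, Base.mem_V0.1 hp])
    have hz3 : zp z a = 1 := by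
      have e3 : x ^ 3 * (g * z * g⁻¹) * (x ^ 3)⁻¹ = g * z * g⁻¹ * (zp z a * zp z a * zp z a) := by
        have hc : Commute x (zp z a) := Commute.zp_right hx.comm a
        generalize g * z * g⁻¹ = p at ha
        generalize zp z a = e at ha hc
        calc x ^ 3 * p * (x ^ 3)⁻¹ = x * (x * (x * p * x⁻¹) * x⁻¹) * x⁻¹ := by
              rw [pow_succ, pow_succ, pow_one]; group
          _ = x * (x * p * (e * x⁻¹)) * x⁻¹ := by rw [ha]; group
          _ = x * (x * p * (x⁻¹ * e)) * x⁻¹ := by rw [hc.inv_left.eq]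
          _ = x * (x * p * x⁻¹) * (e * x⁻¹) := by group
          _ = x * (p * e) * (x⁻¹ * e) := by rw [ha, hc.inv_left.eq]
          _ = x * p * (e * x⁻¹) * e := by group
          _ = x * p * (x⁻¹ * e) * e := by rw [hc.inv_left.eq]
          _ = x * p * x⁻¹ * (e * e) := by group
          _ = p * (e * e * e) := by rw [ha]; group
      rw [hx.cube, one_mul, inv_one, mul_one, ← zp_add h.zz, ← zp_add h.zz, CharTwo.add_self_eq_zero,
        zero_add] at e3
      exact mul_eq_left.1 e3.symm
    rw [hz3, mul_one] at ha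
    have hxp : Commute x (g * z * g⁻¹) := mul_inv_eq_iff_eq_mul.1 ha
    have hrx : Commute (g⁻¹ * x * g) z := Base.comm_rel hxp
    have hinv : ∀ v ∈ h.meet g, ac x v ∈ h.meet g := by
      rintro _ ⟨q, hq, hg, rfl⟩
      refine ⟨x * q * x⁻¹, h.norm x hx.comm q hq, ?_, h.conj x hx.comm q hq⟩
      rw [show g⁻¹ * (x * q * x⁻¹) * g = g⁻¹ * x * g * (g⁻¹ * q * g) * (g⁻¹ * x * g)⁻¹ by group]
      exact h.norm _ hrx _ hg
    have hV0 : h.meet g ≤ Base.V0 ac x := fun v hv => by
      by_contra hne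
      have hm : v + ac x v ∈ h.meet g := add_mem hv (hinv v hv)
      have h1 : v + ac x v ∈ Base.V1 ac x := by
        rw [Base.mem_V1, map_add, map_add, h.x_cube hx]
        have := add_self_eq_zero' (v + ac x v + ac x (ac x v))
        rw [← this]
        abel
      have h2 := u.meet_TS h _ hm
      rw [h.q_V1 hx hB h1 (fun e => hne (Base.mem_V0.2 (by
        rw [← zero_add (ac x v), ← add_self_eq_zero' v, add_assoc, e, add_zero])))] at h2
      exact absurd h2 (by decide)
    have k1 : h.meet g ⊔ Base.V1 ac x ≤ Φ.perp (h.meet g) :=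
      sup_le ((u.meet_TS h).le_perp Φ) fun v hv w hw => h.orth_V hx (hV0 hw) hv
    have k2 := Submodule.finrank_mono k1
    have k3 := Φ.finrank_perp (h.meet g)
    have k4 := Submodule.finrank_sup_add_finrank_inf_eq (h.meet g) (Base.V1 ac x)
    rw [((h.disjoint_V hx).mono_left hV0).eq_bot, finrank_bot, hB.dim1] at k4
    rw [h.dim] at k3
    have hi3 : Module.finrank F2 (h.meet g) ≤ 3 := by omega
    have hE : Nat.card (h.img g) ≤ 8 := card_elementary_le (fun γ hγ => u.img_sq h hγ) fun γ hγ => by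
      by_contra hs
      obtain ⟨e, he, rfl⟩ := hγ
      have he' : InC z Q g (x * e * x⁻¹) :=
        ⟨(hx.comm.mul_left he.1).mul_left hx.comm.inv_left, by
          rw [show g⁻¹ * (x * e * x⁻¹) * g = g⁻¹ * x * g * (g⁻¹ * e * g) * (g⁻¹ * x * g)⁻¹ by group]
          exact h.norm _ hrx _ he.2⟩
      have e1 := u.img_sq h (mul_mem (⟨_, he', rfl⟩ : pi (x * e * x⁻¹) ∈ h.img g) ⟨e, he, rfl⟩)
      rw [h.pi_conj hx.comm he.1, hx.image] at e1
      have e2 := u.img_sq h (⟨e, he, rfl⟩ : pi e ∈ h.img g)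
      have i1 := odd_inverts_x3 hs
      have i2 : x3⁻¹ = x3 * x3 := inv_eq_of_mul_eq_one_left x3_cube
      generalize pi e = γ at e1 e2 i1 hs
      have e3 : x3 * γ * x3⁻¹ * γ = x3 * x3 := by
        calc x3 * γ * x3⁻¹ * γ = x3 * (γ * x3) * x3 * γ := by rw [i2]; simp only [mul_assoc]
          _ = x3 * (x3 * x3 * γ) * x3 * γ := by rw [i1]
          _ = x3 * x3 * x3 * (γ * x3) * γ := by simp only [mul_assoc]
          _ = x3 * x3 * (γ * γ) := by rw [x3_cube, one_mul, i1]; simp only [mul_assoc]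
          _ = x3 * x3 := by rw [e2, mul_one]
      rw [e3] at e1
      revert e1
      decide
    generalize Module.finrank F2 (h.meet g) = i at h128 hi3
    interval_cases i <;> omega
  -- the point has a component in the small part
  obtain ⟨b, hb, a, ha, hab⟩ :=
    Submodule.mem_sup.1 ((h.sup_V hx).symm ▸ Submodule.mem_top : co (g * z * g⁻¹) ∈ _)
  have ha0 : a ≠ 0 := fun e => hp (by rw [← hab, e, add_zero]; exact hb)
  have hqa := h.q_V1 hx hB ha ha0
  have hqb : Φ.q b = 1 := by
    have := u.q_co h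
    rw [← hab, Φ.q_add_of_orth (h.orth_V hx hb ha), hqa] at this
    exact CharTwo.add_eq_zero.1 this
  let L : Submodule F2 V := h.meet g ⊓ Base.V0 ac x
  have hL : Φ.TS L := fun v hv => u.meet_TS h v hv.1
  have hL2 : Module.finrank F2 L ≤ 2 := by
    have hbL : b ∉ L := fun hm => by
      have := hL b hm
      rw [hqb] at this
      exact absurd this (by decide)
    let M : Submodule F2 V := L ⊔ Submodule.span F2 {b}
    have hlb : ∀ l ∈ L, Φ.bil l b = 0 := fun l hl => by
      have e := (u.meet_TS h).bil_eq_zero Φ hl.1 (u.co_mem h)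
      rwa [← hab, map_add, h.orth_V hx hl.2 ha, add_zero] at e
    have hlt : L < M := lt_of_le_of_ne le_sup_left fun e => hbL (by
      rw [e]; exact Submodule.mem_sup_right (Submodule.mem_span_singleton_self b))
    have hM0 : M ≤ Base.V0 ac x :=
      sup_le inf_le_right ((Submodule.span_singleton_le_iff_mem _ _).2 hb)
    have hMp : M ⊔ Base.V1 ac x ≤ Φ.perp M := by
      refine sup_le (fun v hv w hw => ?_) fun v hv w hw => h.orth_V hx (hM0 hw) hv
      obtain ⟨l, hl, r, hr, rfl⟩ := Submodule.mem_sup.1 hv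
      obtain ⟨l', hl', r', hr', rfl⟩ := Submodule.mem_sup.1 hw
      obtain ⟨c, rfl⟩ := Submodule.mem_span_singleton.1 hr
      obtain ⟨c', rfl⟩ := Submodule.mem_span_singleton.1 hr'
      simp only [map_add, map_smul, LinearMap.add_apply, LinearMap.smul_apply, hL.bil_eq_zero Φ hl' hl,
        hlb l' hl', (Φ.bil_comm b l).trans (hlb l hl), Φ.bil_self, smul_zero, add_zero]
    have k1 := Submodule.finrank_lt_finrank_of_lt hlt
    have k2 := Submodule.finrank_mono hMp
    have k3 := Φ.finrank_perp M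
    have k4 := Submodule.finrank_sup_add_finrank_inf_eq M (Base.V1 ac x)
    rw [((h.disjoint_V hx).mono_left hM0).eq_bot, finrank_bot, hB.dim1] at k4
    rw [h.dim] at k3
    omega
  let dd : G → V →ₗ[F2] V := fun e => LinearMap.id + ac e
  have hprop : ∀ e, InC z Q g e → sign (pi e).1 = 1 →
      (∀ v, dd e v ∈ L) ∧ (∀ v ∈ Φ.perp L, dd e v = 0) ∧ ∀ v, Φ.q (v + dd e v) = Φ.q v := by
    intro e he hs
    have hfix : ∀ v ∈ Base.V1 ac x, ac e v = v := fun v hv =>
      h.fix_V1 hx hB he.1 hs (u.ac_invol h he) hv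
    have hmem : ∀ v, v + ac e v ∈ L := by
      intro v
      refine ⟨?_, ?_⟩
      · let v' := v + Φ.bil (co (g * z * g⁻¹)) v • ac x a
        have ha' : ac x a ∈ Base.V1 ac x := (h.fpf3_V1 hx).mem a ha
        have e1 : v' + ac e v' = v + ac e v := by
          simp only [v', map_add, map_smul, hfix _ ha']
          rw [add_add_add_comm, add_self_eq_zero', add_zero]
        rw [← e1]
        refine u.comm_perp h he ?_
        have e2 : Φ.bil (co (g * z * g⁻¹)) (ac x a) = 1 := by
          rw [← hab, map_add, LinearMap.add_apply, h.orth_V hx hb ha', zero_add,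
            (h.fpf3_V1 hx).bil_x ha, hqa]
        simp only [v', map_add, map_smul, e2, smul_eq_mul, mul_one, CharTwo.add_self_eq_zero]
      · obtain ⟨p, hp', r, hr, rfl⟩ :=
          Submodule.mem_sup.1 ((h.sup_V hx).symm ▸ Submodule.mem_top : v ∈ _)
        rw [map_add, hfix r hr, add_add_add_comm, add_self_eq_zero', add_zero]
        exact add_mem hp' (h.ac_mem_V0 hx he.1 hp')
    refine ⟨hmem, fun v hv => Φ.eq_zero_of_perp fun w => ?_, fun v => ?_⟩
    · show Φ.bil w (v + ac e v) = 0
      rw [u.adjoint h he]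
      exact hv _ (hmem w)
    · show Φ.q (v + (v + ac e v)) = _
      rw [← add_assoc, add_self_eq_zero', zero_add, h.ac_q he.1]
  have hone : ∀ e, InC z Q g e → dd e = 0 → pi e = 1 := fun e he e0 =>
    (h.pi_ker e he.1).2 (h.faithful e he.1 fun v => by
      have := LinearMap.congr_fun e0 v
      rw [← zero_add (ac e v), ← add_self_eq_zero' v, add_assoc]
      show v + (v + ac e v) = v
      rw [show v + ac e v = 0 from this, add_zero])
  have huniq : ∀ γ ∈ h.img g ⊓ evenPart, ∀ δ ∈ h.img g ⊓ evenPart, γ ≠ 1 → δ ≠ 1 → γ = δ := by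
    rintro _ ⟨⟨e, he, rfl⟩, hs⟩ _ ⟨⟨f, hf, rfl⟩, hs'⟩ h1 h2
    obtain ⟨a1, a2, a3⟩ := hprop e he hs
    obtain ⟨b1, b2, b3⟩ := hprop f hf hs'
    have e0 := QF.siegel_unique (Φ := Φ) hL hL2 a1 b1 a2 b2 a3 b3 (fun e0 => h1 (hone e he e0))
      (fun e0 => h2 (hone f hf e0))
    have e1 : ∀ v, ac e v = ac f v := fun v => add_left_cancel (LinearMap.congr_fun e0 v)
    have hq : f⁻¹ * e ∈ Q := h.faithful _ (hf.1.inv_left.mul_left he.1) fun v => by
      rw [h.ac_mul hf.1.inv_left he.1, e1, h.ac_inv hf.1]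
    have e2 := (h.pi_ker _ (hf.1.inv_left.mul_left he.1)).2 hq
    rw [h.pi_mul _ _ hf.1.inv_left he.1, h.pi_inv hf.1, inv_mul_eq_one] at e2
    exact e2.symm
  have hE2 : Nat.card (h.img g ⊓ evenPart : Subgroup P36) ≤ 2 := by
    refine le_trans (Nat.card_le_card_of_injective (fun γ => decide (γ.1 = 1)) fun γ δ e => ?_) (by simp)
    refine Subtype.ext ?_
    by_cases h1 : γ.1 = 1
    · have e' : δ.1 = 1 := by simpa [h1] using e
      rw [h1, e']
    · exact huniq _ γ.2 _ δ.2 h1 (fun h2 => h1 (by simpa [h2] using e))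
  have hE := card_le_two_mul_even (h.img g)
  generalize Module.finrank F2 (h.meet g) = i at h128 hi4
  interval_cases i <;> omega

end Pt

end Cfsg.Agent.Lib.ExtraNine31
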