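import Cfsg.Agent.Lib.ExtraNine31.PointA

/-!
# Case A: orthogonality of the lines of the points is not transitive

Owner: helper31.
-/

set_option autoImplicit false
set_option linter.unusedSectionVars false

namespace Cfsg.Agent.Lib.ExtraNine31

open Cfsg.Agent.Lib.LargeExtraspecial.Basic
open Equiv.Perm (sign)

variable {G : Type*} [Group G] {V : Type*} [AddCommGroup V] [Module F2 V] {z : G} {Q : Subgroup G}
  {Φ : QF V} {co : G → V} {ac : G → V →ₗ[F2] V} {pi : G → P36} {x g : G}

/-- The lines of two vectors are orthogonal. -/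
def Orth (Φ : QF V) (f : V →ₗ[F2] V) (p q : V) : Prop := Φ.bil p q = 0 ∧ Φ.bil (f p) q = 0

namespace Base

variable (h : Base z Q Φ co ac pi) (hx : Lift3 z pi x) (hA : CaseA ac x)
include h hx hA

theorem xx_bil (a b : V) : Φ.bil a (ac x b) = Φ.bil a b + Φ.bil (ac x a) b := by
  have hF := h.fpf3_top hx hA
  have e1 : ac x (ac x (ac x a)) = a := hF.cube Submodule.mem_top
  calc Φ.bil a (ac x b) = Φ.bil (ac x (ac x (ac x a))) (ac x b) := by rw [e1]
    _ = Φ.bil (ac x (ac x a)) b := h.ac_bil hx.comm _ _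
    _ = _ := by rw [hF.sq_eq Submodule.mem_top, map_add, LinearMap.add_apply]

theorem orth_comm {p q : V} (e : Orth Φ (ac x) p q) : Orth Φ (ac x) q p := by
  refine ⟨(Φ.bil_comm _ _).trans e.1, ?_⟩
  rw [Φ.bil_comm, h.xx_bil hx hA, e.1, e.2, add_zero]

theorem orth_x {p q : V} (e : Orth Φ (ac x) p q) : Orth Φ (ac x) p (ac x q) :=
  ⟨by rw [h.xx_bil hx hA, e.1, e.2, add_zero], by rw [h.ac_bil hx.comm, e.1]⟩

theorem orth_ac {c : G} (hc : Commute c z) {p q : V} (e : Orth Φ (ac x) p q) :
    Orth Φ (ac x) (ac c p) (ac c q) := by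
  refine ⟨by rw [h.ac_bil hc, e.1], ?_⟩
  by_cases hs : sign (pi c).1 = 1
  · rw [← h.ac_x_comm hx hc hs, h.ac_bil hc, e.2]
  · have e1 : ac x (ac c p) = ac c (ac x (ac x p)) := by
      rw [h.ac_x_inv hx hc hs, h.ac_x_inv hx hc hs, h.x_cube hx]
    rw [e1, h.ac_bil hc, (h.fpf3_top hx hA).sq_eq Submodule.mem_top, map_add, LinearMap.add_apply, e.1,
      e.2, add_zero]

theorem ac_injective {c : G} (hc : Commute c z) : Function.Injective (ac c) := fun a b e => by
  have := congrArg (ac c⁻¹) e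
  rwa [h.ac_inv hc, h.ac_inv hc] at this

/-- A five-element has no fixed vector. -/
theorem act_five_free {a : alternatingGroup (Fin 6)} (ha : a ^ 5 = 1) (h1 : a ≠ 1) {v : V}
    (hv : h.act a v = v) : v = 0 := by
  have hF := h.five_free hx hA (c := h.lf a) (h.lf_comm a) (by rw [h.lf_pi])
    (by rw [h.lf_pi]; exact congrArg Subtype.val ha)
    (by rw [h.lf_pi]; exact fun e => h1 (Subtype.ext e))
  exact hF.free v Submodule.mem_top hv

/-- The alternating factor fixes no small set lying in the span of two lines. -/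
theorem false_of_invariant [Finite G] (K : Finset V) {p q : V} (hp : p ∈ K) (hq : q ∈ K) (hp0 : p ≠ 0)
    (hK : K.card ≤ 15) (hinv : ∀ a, ∀ v ∈ K, h.act a v ∈ K)
    (hspan : ∀ v ∈ K, v ∈ Submodule.span F2 ({p, ac x p, q, ac x q} : Set V)) : False := by
  have := alternatingGroup.isSimpleGroup (α := Fin 6) (by simp)
  have hall : ∀ a, h.act a p = p → h.act a q = q → ∀ v ∈ K, h.act a v = v := fun a e1 e2 v hv => by
    refine Submodule.span_induction ?_ ?_ ?_ ?_ (hspan v hv)
    · rintro w (rfl | rfl | rfl | rfl)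
      exacts [e1, by rw [h.act_x hx, e1], e2, by rw [h.act_x hx, e2]]
    · exact map_zero _
    · intro s t _ _ hs ht; rw [map_add, hs, ht]
    · intro c s _ hs; rw [map_smul, hs]
  let N : Subgroup (alternatingGroup (Fin 6)) :=
    { carrier := {a | ∀ v ∈ K, h.act a v = v}
      one_mem' := fun v _ => by rw [map_one]; rfl
      mul_mem' := fun {a b} ha hb v hv => by rw [map_mul, LinearEquiv.mul_apply, hb v hv, ha v hv]
      inv_mem' := fun {a} ha v hv => by
        conv_lhs => rw [← ha v hv, ← LinearEquiv.mul_apply, ← map_mul, inv_mul_cancel, map_one]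
        rfl }
  have hN : N.Normal := ⟨fun a ha b v hv => by
    rw [map_mul, map_mul, LinearEquiv.mul_apply, LinearEquiv.mul_apply, ha _ (hinv _ v hv),
      ← LinearEquiv.mul_apply, ← map_mul, mul_inv_cancel, map_one]
    rfl⟩
  rcases hN.eq_bot_or_eq_top with e | e
  · have hinj : Function.Injective
        (fun a : alternatingGroup (Fin 6) => ((⟨h.act a p, hinv a p hp⟩, ⟨h.act a q, hinv a q hq⟩) : K × K)) := by
      intro a b e'
      simp only [Prod.mk.injEq, Subtype.mk.injEq] at e'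
      have hab : b⁻¹ * a ∈ N := hall _
        (by rw [map_mul, LinearEquiv.mul_apply, e'.1, ← LinearEquiv.mul_apply, ← map_mul, inv_mul_cancel,
              map_one]; rfl)
        (by rw [map_mul, LinearEquiv.mul_apply, e'.2, ← LinearEquiv.mul_apply, ← map_mul, inv_mul_cancel,
              map_one]; rfl)
      rw [e, Subgroup.mem_bot, inv_mul_eq_one] at hab
      exact hab.symm
    have h1 := Nat.card_le_card_of_injective _ hinj
    have h2 : Nat.card (alternatingGroup (Fin 6)) = 360 := by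
      rw [nat_card_alternatingGroup, Nat.card_eq_fintype_card, Fintype.card_fin]; rfl
    rw [h2, Nat.card_prod, Nat.card_eq_fintype_card, Fintype.card_coe] at h1
    have := Nat.mul_le_mul hK hK
    omega
  · let a : alternatingGroup (Fin 6) := ⟨five6, Equiv.Perm.mem_alternatingGroup.2 five6_sign⟩
    refine hp0 (h.act_five_free hx hA (a := a) (Subtype.ext five6_pow)
      (fun e' => five6_ne (congrArg Subtype.val e')) ((e ▸ Subgroup.mem_top a : a ∈ N) p hp))

end Base

namespace Pt

variable (u : Pt z Q g) (h : Base z Q Φ co ac pi) (hx : Lift3 z pi x) (hA : CaseA ac x)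
include u h

theorem translate {c : G} (hc : Commute c z) :
    Pt z Q (c * g) ∧ co (c * g * z * (c * g)⁻¹) = ac c (co (g * z * g⁻¹)) := by
  have e : c * g * z * (c * g)⁻¹ = c * (g * z * g⁻¹) * c⁻¹ := by group
  refine ⟨⟨by rw [e]; exact h.norm c hc _ u.mem, fun e' => u.ne ?_⟩, by rw [e, h.conj c hc _ u.mem]⟩
  rw [e] at e'
  calc g * z * g⁻¹ = c⁻¹ * (c * (g * z * g⁻¹) * c⁻¹) * c := by group
    _ = c⁻¹ * z * c := by rw [e']
    _ = z := by rw [mul_assoc, ← hc.eq, inv_mul_cancel_left]

include hx hA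

theorem orth_self : Orth Φ (ac x) (co (g * z * g⁻¹)) (co (g * z * g⁻¹)) :=
  ⟨Φ.bil_self _, (Φ.bil_comm _ _).trans (u.bil_p_xp h hx hA)⟩

theorem orth_iff {v : V} : Orth Φ (ac x) (co (g * z * g⁻¹)) v ↔ v ∈ u.Lperp h x :=
  (u.mem_Lperp h hx hA).symm

theorem orth_of_meet [Finite G] {v : V} (hv : v ∈ h.meet g) : Orth Φ (ac x) (co (g * z * g⁻¹)) v :=
  (u.orth_iff h hx hA).2 (u.meet_le_Lperp h hx hA hv)

/-- The rest of the orbit, relative to a point with no other orthogonal line. -/
theorem four_bound [Finite G] {w : V} (hw0 : Φ.bil (co (g * z * g⁻¹)) w = 0)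
    (hw1 : Φ.bil (co (g * z * g⁻¹)) (ac x w) = 1) (hqw : Φ.q w = 0)
    (S : Set V) (hS : ∀ e, InC z Q g e → ac e w ∈ S)
    (horth : ∀ p ∈ S, ∀ q ∈ S, Orth Φ (ac x) p q → q = p ∨ q = ac x p ∨ q = ac x (ac x p))
    (hwS : w ∈ S) {v : V} (hv : v ∈ S) (hq : Φ.q v = 0) (hv0 : Φ.bil (co (g * z * g⁻¹)) v = 0)
    (hv1 : Φ.bil (co (g * z * g⁻¹)) (ac x v) = 1) :
    ∃ r ∈ h.real g x w, v = w + r ∧ r = 0 ∨ v = w + r + co (g * z * g⁻¹) ∧ r ≠ 0 := by
  have := h.finite
  have hF := h.fpf3_top hx hA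
  set p := co (g * z * g⁻¹) with hp
  have hxw : Φ.bil (ac x p) w = 1 := u.bil_xp_w h hx hA hw0 hw1
  have hxv : Φ.bil (ac x p) v = 1 := u.bil_xp_w h hx hA hv0 hv1
  have uniq : ∀ b ∈ S, Φ.bil p b = 0 → Φ.bil p (ac x b) = 1 → Orth Φ (ac x) b v → v = b := by
    intro b hb b0 b1 ho
    rcases horth b hb v hv ho with e | e | e
    · exact e
    · rw [e, b1] at hv0; exact absurd hv0 one_ne_zero
    · rw [e, hF.sq_eq Submodule.mem_top, map_add, b0, b1, zero_add] at hv0; exact absurd hv0 one_ne_zero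
  have horb : ∀ r ∈ h.real g x w, r ≠ 0 → w + r + p ∈ S := by
    intro r hr hr0
    obtain ⟨e, he, hs, ⟨c, e1⟩, -⟩ := u.frame h hx hA hw0 hw1 hr
    have hm := hS e he
    rw [e1] at hm
    rcases f2_cases c with rfl | rfl
    · exfalso
      rw [zero_smul, add_zero] at hm
      obtain ⟨hrm, hr1, hr2⟩ := h.mem_real.1 hr
      have h0 : Φ.bil p (w + r) = 0 := by
        rw [map_add, hw0, (u.meet_TS h).bil_eq_zero Φ (u.co_mem h) hrm, add_zero]
      have ho : Orth Φ (ac x) w (w + r) := ⟨by rw [map_add, Φ.bil_self, hr1, add_zero], by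
        rw [map_add, Φ.bil_comm, hF.bil_x Submodule.mem_top, hqw, hr2, add_zero]⟩
      rcases horth w hwS _ hm ho with e' | e' | e'
      · exact hr0 (add_eq_left.1 e')
      · rw [e', hw1] at h0; exact one_ne_zero h0
      · rw [e', hF.sq_eq Submodule.mem_top, map_add, hw0, hw1, zero_add] at h0; exact one_ne_zero h0
    · rwa [one_smul] at hm
  -- coordinates
  have hn : v + w ∈ u.Lperp h x := (u.mem_Lperp h hx hA).2
    ⟨by rw [map_add, hv0, hw0, add_zero],
      by rw [map_add, hxv, hxw]; rfl⟩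
  rw [← u.sup_Lperp h hx hA] at hn
  obtain ⟨j, hj, _, ⟨k, hk, rfl⟩, hjk⟩ := Submodule.mem_sup.1 hn
  obtain ⟨r₀, hr₀, a₀, b₀, rfl⟩ := u.split_meet h hx hA hw0 hw1 hj
  obtain ⟨a, ha, a₁, b₁, rfl⟩ := u.split_meet h hx hA hw0 hw1 hk
  let α := a₀ + b₁
  let β := b₀ + a₁ + b₁
  have hv' : v = w + r₀ + ac x a + α • p + β • ac x p := by
    have e1 : v = w + (r₀ + a₀ • p + b₀ • ac x p + ac x (a + a₁ • p + b₁ • ac x p)) := by
      rw [hjk, add_left_comm, add_self_eq_zero', add_zero]
    rw [e1, map_add, map_add, map_smul, map_smul, hF.sq_eq Submodule.mem_top]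
    simp only [α, β, add_smul, smul_add]
    abel
  obtain ⟨hr₀m, hr₀1, hr₀2⟩ := h.mem_real.1 hr₀
  obtain ⟨ham, ha1, ha2⟩ := h.mem_real.1 ha
  have lp : ∀ {r : V}, r ∈ h.meet g → Φ.bil p r = 0 ∧ Φ.bil (ac x p) r = 0 ∧ Φ.bil r p = 0 ∧
      Φ.bil r (ac x p) = 0 ∧ Φ.bil p (ac x r) = 0 ∧ Φ.bil (ac x r) p = 0 ∧ Φ.bil (ac x p) (ac x r) = 0 ∧
      Φ.bil (ac x r) (ac x p) = 0 := fun {r} hr => by
    obtain ⟨l1, l2⟩ := (u.mem_Lperp h hx hA).1 (u.meet_le_Lperp h hx hA hr)
    obtain ⟨l3, l4⟩ := (u.mem_Lperp h hx hA).1 (u.x_Lperp h hx hA (u.meet_le_Lperp h hx hA hr))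
    exact ⟨l1, l2, (Φ.bil_comm _ _).trans l1, (Φ.bil_comm _ _).trans l2, l3, (Φ.bil_comm _ _).trans l3,
      l4, (Φ.bil_comm _ _).trans l4⟩
  obtain ⟨p1, p2, p3, p4, p5, p6, p7, p8⟩ := lp hr₀m
  obtain ⟨q1, q2, q3, q4, q5, q6, q7, q8⟩ := lp ham
  have pp : Φ.bil p p = 0 := Φ.bil_self p
  have pxp : Φ.bil p (ac x p) = 0 := u.bil_p_xp h hx hA
  have xpp : Φ.bil (ac x p) p = 0 := (Φ.bil_comm _ _).trans pxp
  have wp : Φ.bil w p = 0 := (Φ.bil_comm _ _).trans hw0
  have wxp : Φ.bil w (ac x p) = 1 := (Φ.bil_comm _ _).trans hxw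
  have xwp : Φ.bil (ac x w) p = 1 := (Φ.bil_comm _ _).trans hw1
  have xwxp : Φ.bil (ac x w) (ac x p) = 0 := by rw [h.ac_bil hx.comm, wp]
  have wxa : Φ.bil w (ac x a) = 0 := by rw [h.xx_bil hx hA, ha1, ha2, add_zero]
  have xwxa : Φ.bil (ac x w) (ac x a) = 0 := by rw [h.ac_bil hx.comm, ha1]
  have hβ : β = Φ.bil r₀ (ac x a) := by
    have e := hq
    rw [hv'] at e
    simp only [Φ.polar, map_add, map_smul, LinearMap.add_apply, smul_eq_mul, hqw, u.meet_TS h _ hr₀m,
      h.ac_q hx.comm, u.meet_TS h _ ham, hr₀1, wxa, wp, wxp, p3, p4, q6, q8, pxp] at e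
    have qp : Φ.q p = 0 := u.q_co h
    rcases f2_cases α with hα | hα <;> rcases f2_cases β with hb | hb <;>
      simp [hα, hb, Φ.q_zero, qp, pxp, h.ac_q hx.comm] at e ⊢ <;>
      first | exact e.symm | exact e | (rw [CharTwo.add_eq_zero] at e; exact e.symm) |
        (rw [CharTwo.add_eq_zero] at e; exact e)
  -- the two pairings with the orbit
  have hFG : ∀ r ∈ h.real g x w, ∀ c : F2,
      Φ.bil (w + r + c • p) v = β + Φ.bil r (ac x a) ∧
      Φ.bil (ac x (w + r + c • p)) v = c + α + Φ.bil r (ac x r₀) + Φ.bil r a := by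
    intro r hr c
    obtain ⟨hrm, hr1, hr2⟩ := h.mem_real.1 hr
    obtain ⟨s1, s2, s3, s4, s5, s6, s7, s8⟩ := lp hrm
    have t1 : Φ.bil r w = 0 := (Φ.bil_comm _ _).trans hr1
    have t2 : Φ.bil (ac x r) w = 0 := by
      rw [Φ.bil_comm, h.xx_bil hx hA, hr1, hr2, add_zero]
    have t3 : Φ.bil r r₀ = 0 := (u.meet_TS h).bil_eq_zero Φ hrm hr₀m
    have t4 : Φ.bil (ac x r) (ac x a) = Φ.bil r a := h.ac_bil hx.comm _ _
    have t5 : Φ.bil (ac x r) r₀ = Φ.bil r (ac x r₀) := by
      rw [h.xx_bil hx hA, t3, zero_add]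
    have t6 : Φ.bil (ac x w) w = 0 := by rw [Φ.bil_comm, hF.bil_x Submodule.mem_top, hqw]
    rw [hv']
    constructor <;>
      simp only [map_add, map_smul, LinearMap.add_apply, LinearMap.smul_apply, smul_eq_mul, Φ.bil_self,
        hr₀1, hr₀2, wxa, wp, wxp, xwp, xwxp, xwxa, hw0, hxw, p1, p2, q5, q7, pxp, xpp, pp, s3, s4, s6, s8,
        t1, t2, t3, t4, t5, t6, h.ac_bil hx.comm, mul_zero, mul_one, add_zero, zero_add] <;>
      ring
  have hρ : ∀ {r r' : V}, r ∈ h.real g x w → r' ∈ h.real g x w → r ≠ 0 → r' ≠ 0 → r ≠ r' →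
      Φ.bil r (ac x r') = 1 := fun hr hr' a1 a2 a3 => u.real_rho h hx hA hw0 hw1 hr hr' a1 a2 a3
  have hρ0 : ∀ {r : V}, r ∈ h.real g x w → Φ.bil r (ac x r) = 0 := fun hr =>
    (hF.bil_x Submodule.mem_top).trans (u.meet_TS h _ (h.mem_real.1 hr).1)
  have hra : ∀ {r : V}, r ∈ h.real g x w → Φ.bil r a = 0 := fun hr =>
    (u.meet_TS h).bil_eq_zero Φ (h.mem_real.1 hr).1 ham
  have hpair : ∀ r ∈ h.real g x w, ∀ c : F2, w + r + c • p ∈ S →
      β + Φ.bil r (ac x a) = 0 → c + α + Φ.bil r (ac x r₀) + Φ.bil r a = 0 → v = w + r + c • p := by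
    intro r hr c hm e1 e2
    obtain ⟨hrm, -, -⟩ := h.mem_real.1 hr
    obtain ⟨s1, -, -, -, s5, -, -, -⟩ := lp hrm
    refine uniq _ hm ?_ ?_ ⟨(hFG r hr c).1.trans e1, (hFG r hr c).2.trans e2⟩
    · rw [map_add, map_add, map_smul, hw0, s1, pp, smul_zero, add_zero, add_zero]
    · rw [map_add, map_add, map_smul, map_add, map_add, map_smul, hw1, s5, pxp, smul_zero, add_zero,
        add_zero]
  have hw' : w + 0 + (0 : F2) • p ∈ S := by rw [add_zero, zero_smul, add_zero]; exact hwS
  have hone : ∀ r ∈ h.real g x w, r ≠ 0 → w + r + (1 : F2) • p ∈ S := fun r hr hr0 => by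
    rw [one_smul]; exact horb r hr hr0
  by_cases ha0 : a = 0
  · subst ha0
    rw [map_zero, map_zero] at hβ
    have hFG0 : ∀ {r : V}, r ∈ h.real g x w → β + Φ.bil r (ac x (0 : V)) = 0 := fun hr => by
      rw [map_zero, map_zero, hβ, add_zero]
    by_cases hr00 : r₀ = 0
    · subst hr00
      rcases f2_cases α with hα | hα
      · refine ⟨0, zero_mem _, Or.inl ⟨?_, rfl⟩⟩
        rw [hv']
        simp [hα, hβ]
      · -- any orbit vector is then orthogonal
        exfalso
        obtain ⟨r, hr, hr0⟩ := Submodule.exists_mem_ne_zero_of_ne_bot (p := h.real g x w) fun e => by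
          have := u.finrank_real h hx hA hw0 hw1
          rw [e, finrank_bot] at this
          omega
        have e := hpair r hr 1 (hone r hr hr0) (hFG0 hr)
          (by simp [hα, CharTwo.add_self_eq_zero])
        rw [hv', hα, hβ, map_zero, zero_smul, add_zero, add_zero, add_zero] at e
        exact hr0 (add_eq_left.1 (add_right_cancel e).symm)
    · rcases f2_cases α with hα | hα
      · exfalso
        have e := hpair 0 (zero_mem _) 0 hw' (hFG0 (zero_mem _))
          (by rw [hα]; simp)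
        rw [hv', hα, hβ, map_zero, zero_smul, zero_smul, add_zero, add_zero, add_zero, add_zero] at e
        exact hr00 (add_left_cancel e)
      · refine ⟨r₀, hr₀, Or.inr ⟨?_, hr00⟩⟩
        rw [hv', hα, hβ, map_zero, zero_smul, one_smul, add_zero, add_zero]
  · exfalso
    -- two orbit vectors with first pairing zero
    have hnA : ∀ r ∈ h.real g x w, ∀ c : F2, v ≠ w + r + c • p := by
      intro r hr c e
      rw [hv'] at e
      refine ha0 (u.real_x_disjoint h hx hA hw0 hw1 ha ?_)
      have e' : ac x a = r + r₀ + (c + α) • p + β • ac x p := by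
        have e2 := congrArg (fun b => b + (w + r₀ + α • p + β • ac x p)) e
        beta_reduce at e2
        calc ac x a = ac x a + ((w + r₀ + α • p + β • ac x p) + (w + r₀ + α • p + β • ac x p)) := by
              rw [add_self_eq_zero', add_zero]
          _ = w + r₀ + ac x a + α • p + β • ac x p + (w + r₀ + α • p + β • ac x p) := by abel
          _ = w + r + c • p + (w + r₀ + α • p + β • ac x p) := e2
          _ = w + w + (r + r₀ + (c + α) • p + β • ac x p) := by rw [add_smul c α p]; abel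
          _ = _ := by rw [add_self_eq_zero', zero_add]
      rw [e']
      exact add_mem (add_mem (add_mem (h.mem_real.1 hr).1 hr₀m) (Submodule.smul_mem _ _ (u.co_mem h)))
        (Submodule.smul_mem _ _ (u.xp_mem h hx hA))
    have hsum : r₀ + a ∈ h.real g x w := add_mem hr₀ ha
    have F1 : β + Φ.bil r₀ (ac x a) = 0 := by rw [hβ, CharTwo.add_self_eq_zero]
    have F2' : β + Φ.bil (r₀ + a) (ac x a) = 0 := by
      rw [map_add, LinearMap.add_apply, hρ0 ha, add_zero]; exact F1
    by_cases hr00 : r₀ = 0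
    · -- the vectors `w` and `w + a + p`
      subst hr00
      rw [zero_add] at F2' hsum
      rcases f2_cases α with hα | hα
      · exact hnA 0 (zero_mem _) 0 (hpair 0 (zero_mem _) 0 hw' F1 (by rw [hα]; simp))
      · exact hnA a ha 1 (hpair a ha 1 (hone a ha ha0) F2'
          (by rw [hα, map_zero, map_zero, hra ha]; rfl))
    · by_cases hra0 : r₀ = a
      · subst hra0
        rw [add_self_eq_zero'] at F2'
        rcases f2_cases α with hα | hα
        · exact hnA 0 (zero_mem _) 0 (hpair 0 (zero_mem _) 0 hw' F2' (by rw [hα]; simp))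
        · exact hnA r₀ hr₀ 1 (hpair r₀ hr₀ 1 (hone r₀ hr₀ hr00) F1
            (by rw [hα, hρ0 hr₀, hra hr₀]; rfl))
      · have hne : r₀ + a ≠ 0 := fun e => hra0 (eq_of_add_eq_zero' e).symm
        rcases f2_cases α with hα | hα
        · exact hnA (r₀ + a) hsum 1 (hpair _ hsum 1 (hone _ hsum hne) F2'
            (by
              rw [hα, map_add, LinearMap.add_apply, LinearMap.add_apply, hρ0 hr₀,
                hρ ha hr₀ ha0 hr00 (Ne.symm hra0), hra hr₀, hra ha]
              rfl))
        · exact hnA r₀ hr₀ 1 (hpair r₀ hr₀ 1 (hone r₀ hr₀ hr00) F1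
            (by rw [hα, hρ0 hr₀, hra hr₀]; rfl))

theorem pair_span [Finite G] {q : V} (hq : Φ.q q = 0) (ho : Orth Φ (ac x) (co (g * z * g⁻¹)) q)
    (hq' : q ≠ co (g * z * g⁻¹) ∧ q ≠ ac x (co (g * z * g⁻¹)) ∧ q ≠ ac x (ac x (co (g * z * g⁻¹))))
    (hq0 : q ≠ 0) :
    Φ.TS (Submodule.span F2 ({co (g * z * g⁻¹), ac x (co (g * z * g⁻¹)), q, ac x q} : Set V)) ∧
      Module.finrank F2
        (Submodule.span F2 ({co (g * z * g⁻¹), ac x (co (g * z * g⁻¹)), q, ac x q} : Set V)) = 4 := by
  have := h.finite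
  have := h.finiteV
  have hF := h.fpf3_top hx hA
  set p := co (g * z * g⁻¹) with hp
  let S := Submodule.span F2 ({p, ac x p, q, ac x q} : Set V)
  have hqp : Φ.q p = 0 := u.q_co h
  have hpxp : Φ.bil p (ac x p) = 0 := u.bil_p_xp h hx hA
  have hqxq : Φ.bil q (ac x q) = 0 := (hF.bil_x Submodule.mem_top).trans hq
  have hpq : Φ.bil p q = 0 := ho.1
  have hxpq : Φ.bil (ac x p) q = 0 := ho.2
  have hpxq : Φ.bil p (ac x q) = 0 := (h.orth_x hx hA ho).1
  have hgen : ∀ a ∈ ({p, ac x p, q, ac x q} : Set V), ∀ b ∈ ({p, ac x p, q, ac x q} : Set V),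
      Φ.bil a b = 0 := by
    rintro a (rfl | rfl | rfl | rfl) b (rfl | rfl | rfl | rfl) <;>
      first
        | exact Φ.bil_self _
        | assumption
        | exact (Φ.bil_comm _ _).trans (by assumption)
        | exact (h.ac_bil hx.comm _ _).trans (by assumption)
        | exact (h.ac_bil hx.comm _ _).trans ((Φ.bil_comm _ _).trans (by assumption))
  have hperp : ∀ a ∈ S, ∀ b ∈ S, Φ.bil a b = 0 := by
    intro a ha b hb
    induction ha using Submodule.span_induction with
    | mem a ha =>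
      induction hb using Submodule.span_induction with
      | mem b hb => exact hgen a ha b hb
      | zero => simp
      | add c d _ _ hc hd => rw [map_add, hc, hd, add_zero]
      | smul c d _ hd => rw [map_smul, hd, smul_zero]
    | zero => simp
    | add c d _ _ hc hd => rw [map_add, LinearMap.add_apply, hc, hd, add_zero]
    | smul c d _ hd => rw [map_smul, LinearMap.smul_apply, hd, smul_zero]
  have hTS : Φ.TS S := by
    intro a ha
    have hxS : ∀ b ∈ S, ac x b ∈ S := fun b hb => by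
      induction hb using Submodule.span_induction with
      | mem b hb =>
        rcases hb with rfl | rfl | rfl | rfl
        · exact Submodule.subset_span (Or.inr (Or.inl rfl))
        · rw [hF.sq_eq Submodule.mem_top]
          exact add_mem (Submodule.subset_span (Or.inl rfl)) (Submodule.subset_span (Or.inr (Or.inl rfl)))
        · exact Submodule.subset_span (Or.inr (Or.inr (Or.inr rfl)))
        · rw [hF.sq_eq Submodule.mem_top]
          exact add_mem (Submodule.subset_span (Or.inr (Or.inr (Or.inl rfl))))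
            (Submodule.subset_span (Or.inr (Or.inr (Or.inr rfl))))
      | zero => rw [map_zero]; exact zero_mem _
      | add c d _ _ hc hd => rw [map_add]; exact add_mem hc hd
      | smul c d _ hd => rw [map_smul]; exact Submodule.smul_mem _ c hd
    exact hF.ts_of_isotropic le_top hxS hperp a ha
  refine ⟨hTS, ?_⟩
  have hLS : Submodule.span F2 ({p, ac x p} : Set V) < S := by
    refine lt_of_le_of_ne (Submodule.span_mono (by intro a ha; rcases ha with rfl | rfl <;> simp))
      fun e => ?_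
    have hm : q ∈ Submodule.span F2 ({p, ac x p} : Set V) := by
      rw [e]; exact Submodule.subset_span (Or.inr (Or.inr (Or.inl rfl)))
    obtain ⟨a, b, e'⟩ := Submodule.mem_span_pair.1 hm
    rcases f2_cases a with rfl | rfl <;> rcases f2_cases b with rfl | rfl <;>
      simp only [zero_smul, one_smul, zero_add, add_zero] at e'
    · exact hq0 e'.symm
    · exact hq'.2.1 e'.symm
    · exact hq'.1 e'.symm
    · exact hq'.2.2 (by rw [← e', hF.sq_eq Submodule.mem_top])
  have k1 := Submodule.finrank_lt_finrank_of_lt hLS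
  rw [u.finrank_line h hx hA] at k1
  have hxS : ∀ b ∈ S, ac x b ∈ S := fun b hb => by
    induction hb using Submodule.span_induction with
    | mem b hb =>
      rcases hb with rfl | rfl | rfl | rfl
      · exact Submodule.subset_span (Or.inr (Or.inl rfl))
      · rw [hF.sq_eq Submodule.mem_top]
        exact add_mem (Submodule.subset_span (Or.inl rfl)) (Submodule.subset_span (Or.inr (Or.inl rfl)))
      · exact Submodule.subset_span (Or.inr (Or.inr (Or.inr rfl)))
      · rw [hF.sq_eq Submodule.mem_top]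
        exact add_mem (Submodule.subset_span (Or.inr (Or.inr (Or.inl rfl))))
          (Submodule.subset_span (Or.inr (Or.inr (Or.inr rfl))))
    | zero => rw [map_zero]; exact zero_mem _
    | add c d _ _ hc hd => rw [map_add]; exact add_mem hc hd
    | smul c d _ hd => rw [map_smul]; exact Submodule.smul_mem _ c hd
  obtain ⟨k, hk⟩ := hF.even (W := S) le_top hxS
  have k2 := hTS.two_finrank_le Φ
  rw [h.dim] at k2
  show Module.finrank F2 S = 4
  omega

/-- The points outside the class of a point, when it has a second line. -/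
theorem sixteen_bound [Finite G] {q : V} (ho : Orth Φ (ac x) (co (g * z * g⁻¹)) q)
    (hq : q ∉ Submodule.span F2 ({co (g * z * g⁻¹), ac x (co (g * z * g⁻¹))} : Set V)) (T : Finset V)
    (hT : ∀ v ∈ T, Φ.q v = 0 ∧ Φ.bil (co (g * z * g⁻¹)) v = 0 ∧
      Φ.bil (ac x (co (g * z * g⁻¹))) v = 1 ∧ Φ.bil q v = 1) : T.card ≤ 16 := by
  classical
  have := h.finite
  have := h.finiteV
  have := Fintype.ofFinite V
  set p := co (g * z * g⁻¹) with hp
  rcases Finset.eq_empty_or_nonempty T with rfl | ⟨v₀, hv₀⟩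
  · simp
  let L := Submodule.span F2 ({p, ac x p} : Set V)
  let W := Φ.perp (L ⊔ Submodule.span F2 {q})
  have hW : Module.finrank F2 W ≤ 5 := by
    have hlt : L < L ⊔ Submodule.span F2 {q} := lt_of_le_of_ne le_sup_left fun e => hq (by
      show q ∈ L
      rw [e]; exact Submodule.mem_sup_right (Submodule.mem_span_singleton_self q))
    have k1 := Submodule.finrank_lt_finrank_of_lt hlt
    have k2 := Φ.finrank_perp (L ⊔ Submodule.span F2 {q})
    rw [h.dim] at k2
    rw [u.finrank_line h hx hA] at k1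
    change Module.finrank F2 (Φ.perp _) ≤ 5
    omega
  have hmem : ∀ v, Φ.bil p v = 0 → Φ.bil (ac x p) v = 0 → Φ.bil q v = 0 → v ∈ W := fun v a1 a2 a3 w hw => by
    obtain ⟨l, hl, s, hs, rfl⟩ := Submodule.mem_sup.1 hw
    obtain ⟨a, b, rfl⟩ := Submodule.mem_span_pair.1 hl
    obtain ⟨c, rfl⟩ := Submodule.mem_span_singleton.1 hs
    simp only [map_add, map_smul, LinearMap.add_apply, LinearMap.smul_apply, a1, a2, a3, smul_zero,
      add_zero]
  let Wf : Finset V := Finset.univ.filter fun v => v ∈ W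
  have hWc : Wf.card ≤ 32 := by
    rw [← Fintype.card_subtype, ← Nat.card_eq_fintype_card]
    change Nat.card W ≤ 32
    rw [Module.natCard_eq_pow_finrank (K := F2) (V := W), Nat.card_zmod]
    exact le_trans (Nat.pow_le_pow_right (by norm_num) hW) (by norm_num)
  obtain ⟨-, a1, a2, a3⟩ := hT v₀ hv₀
  have hsub : T.image (fun v => v + v₀) ∪ T.image (fun v => v + v₀ + ac x p) ⊆ Wf := by
    intro b hb
    simp only [Finset.mem_union, Finset.mem_image] at hb
    refine Finset.mem_filter.2 ⟨Finset.mem_univ _, ?_⟩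
    rcases hb with ⟨v, hv, rfl⟩ | ⟨v, hv, rfl⟩ <;> obtain ⟨-, b1, b2, b3⟩ := hT v hv
    · exact hmem _ (by rw [map_add, a1, b1, add_zero]) (by rw [map_add, a2, b2]; rfl)
        (by rw [map_add, a3, b3]; rfl)
    · have hxp : Φ.bil p (ac x p) = 0 := u.bil_p_xp h hx hA
      have hqxp : Φ.bil q (ac x p) = 0 := (Φ.bil_comm _ _).trans ho.2
      exact hmem _ (by rw [map_add, map_add, a1, b1, hxp]; rfl)
        (by rw [map_add, map_add, a2, b2, Φ.bil_self]; rfl) (by rw [map_add, map_add, a3, b3, hqxp]; rfl)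
  have hdis : Disjoint (T.image fun v => v + v₀) (T.image fun v => v + v₀ + ac x p) := by
    rw [Finset.disjoint_left]
    intro b hb hb'
    obtain ⟨v, hv, rfl⟩ := Finset.mem_image.1 hb
    obtain ⟨w, hw, e⟩ := Finset.mem_image.1 hb'
    obtain ⟨v1, -⟩ := hT v hv
    obtain ⟨w1, -, w3, -⟩ := hT w hw
    have e' : v = w + ac x p := add_right_cancel (e.symm.trans (add_right_comm _ _ _))
    rw [e', Φ.polar, w1, h.ac_q hx.comm, u.q_co h, Φ.bil_comm, w3] at v1
    exact absurd v1 (by decide)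
  have h1 := Finset.card_le_card hsub
  rw [Finset.card_union_of_disjoint hdis, Finset.card_image_of_injective _ (add_left_injective v₀),
    Finset.card_image_of_injective _ (fun a b e => add_right_cancel (add_right_cancel e))] at h1
  omega

/-- There are points `s`, `u`, `w` with `u, w` in the conjugate of `Q` at `s` and lines not orthogonal. -/
theorem exists_triple [Finite G] :
    ∃ ks ku kw : G, Pt z Q ks ∧ Pt z Q ku ∧ Pt z Q kw ∧
      co (ku * z * ku⁻¹) ∈ h.meet ks ∧ co (kw * z * kw⁻¹) ∈ h.meet ks ∧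
      Φ.bil (co (ku * z * ku⁻¹)) (co (kw * z * kw⁻¹)) = 0 ∧
      Φ.bil (co (ku * z * ku⁻¹)) (ac x (co (kw * z * kw⁻¹))) = 1 := by
  classical
  by_contra hcon
  have := h.finite
  have := h.finiteV
  have := Fintype.ofFinite V
  have hF := h.fpf3_top hx hA
  set p := co (g * z * g⁻¹) with hp
  let O : Finset V := Finset.univ.filter fun v => ∃ c, Commute c z ∧ ac c p = v
  have hO : ∀ {v}, v ∈ O ↔ ∃ c, Commute c z ∧ ac c p = v := fun {v} => by simp [O]
  have hpO : p ∈ O := hO.2 ⟨1, Commute.one_left z, h.ac_one p⟩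
  have hOc : ∀ {c}, Commute c z → ∀ {v}, v ∈ O → ac c v ∈ O := fun {c} hc {v} hv => by
    obtain ⟨d, hd, rfl⟩ := hO.1 hv
    exact hO.2 ⟨c * d, hc.mul_left hd, h.ac_mul hc hd p⟩
  have hOpt : ∀ {v}, v ∈ O → ∃ k, Pt z Q k ∧ co (k * z * k⁻¹) = v := fun {v} hv => by
    obtain ⟨c, hc, rfl⟩ := hO.1 hv
    exact ⟨c * g, (u.translate h hc).1, (u.translate h hc).2⟩
  have hOq : ∀ {v}, v ∈ O → Φ.q v = 0 ∧ v ≠ 0 := fun {v} hv => by
    obtain ⟨k, hk, rfl⟩ := hOpt hv
    exact ⟨hk.q_co h, hk.co_ne h⟩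
  have horefl : ∀ {v}, v ∈ O → Orth Φ (ac x) v v := fun {v} hv => by
    obtain ⟨k, hk, rfl⟩ := hOpt hv
    exact hk.orth_self h hx hA
  -- transitivity
  have htr : ∀ {s a b}, s ∈ O → a ∈ O → b ∈ O → Orth Φ (ac x) s a → Orth Φ (ac x) s b →
      Orth Φ (ac x) a b := by
    intro s a b hs ha hb hsa hsb
    by_contra hno
    obtain ⟨ks, hks, rfl⟩ := hOpt hs
    have pick : ∀ a, a ∈ O → Orth Φ (ac x) (co (ks * z * ks⁻¹)) a → ∃ a', a' ∈ O ∧ a' ∈ h.meet ks ∧
        ∀ b, Orth Φ (ac x) b a' → Orth Φ (ac x) b a := by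
      intro a ha hsa
      rcases hks.exists_collinear h hx hA ((hks.orth_iff h hx hA).1 hsa) (hOq ha).1 with e | e | e
      · exact ⟨a, ha, e, fun _ o => o⟩
      · refine ⟨_, hOc hx.comm ha, e, fun b o => ?_⟩
        have := h.orth_x hx hA (h.orth_x hx hA o)
        rwa [h.x_cube hx] at this
      · refine ⟨_, hOc hx.comm (hOc hx.comm ha), e, fun b o => ?_⟩
        have := h.orth_x hx hA o
        rwa [h.x_cube hx] at this
    obtain ⟨a', ha', ham, hatr⟩ := pick a ha hsa
    obtain ⟨b', hb', hbm, hbtr⟩ := pick b hb hsb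
    obtain ⟨ku, hku, rfl⟩ := hOpt ha'
    obtain ⟨kw, hkw, rfl⟩ := hOpt hb'
    have h0 := (hks.meet_TS h).bil_eq_zero Φ ham hbm
    refine hcon ⟨ks, ku, kw, hks, hku, hkw, ham, hbm, h0, (f2_cases _).resolve_left fun e1 => hno ?_⟩
    refine hbtr _ (h.orth_comm hx hA (hatr _ (h.orth_comm hx hA ⟨h0, ?_⟩)))
    rw [h.xx_bil hx hA, h0, zero_add] at e1
    exact e1
  -- the classes
  let K : V → Finset V := fun v => O.filter fun w => Orth Φ (ac x) v w
  have hKmem : ∀ {v w}, w ∈ K v ↔ w ∈ O ∧ Orth Φ (ac x) v w := fun {v w} => Finset.mem_filter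
  have hKeq : ∀ {v w}, v ∈ O → w ∈ O → Orth Φ (ac x) v w → K v = K w := fun {v w} hv hw o => by
    ext a
    rw [hKmem, hKmem]
    exact and_congr_right fun ha => ⟨fun o' => htr hv hw ha o o',
      fun o' => htr hw hv ha (h.orth_comm hx hA o) o'⟩
  have hKac : ∀ {c}, Commute c z → ∀ {v}, v ∈ O → K (ac c v) = (K v).image (ac c) := fun {c} hc {v} hv => by
    ext a
    rw [hKmem, Finset.mem_image]
    constructor
    · rintro ⟨ha, o⟩
      refine ⟨ac c⁻¹ a, hKmem.2 ⟨hOc hc.inv_left ha, ?_⟩, ?_⟩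
      · have := h.orth_ac hx hA hc.inv_left o
        rwa [h.ac_inv hc] at this
      · have := h.ac_inv hc.inv_left a
        rwa [inv_inv] at this
    · rintro ⟨b, hb, rfl⟩
      obtain ⟨hb', o⟩ := hKmem.1 hb
      exact ⟨hOc hc hb', h.orth_ac hx hA hc o⟩
  let m := (K p).card
  have hKm : ∀ {v}, v ∈ O → (K v).card = m := fun {v} hv => by
    obtain ⟨c, hc, rfl⟩ := hO.1 hv
    rw [hKac hc hpO, Finset.card_image_of_injective _ (h.ac_injective hx hA hc)]
  let 𝒦 : Finset (Finset V) := O.image K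
  have hcardO : O.card = 𝒦.card * m := by
    rw [Finset.card_eq_sum_card_image K O]
    refine Finset.sum_const_nat fun C hC => ?_
    obtain ⟨v, hv, rfl⟩ := Finset.mem_image.1 hC
    rw [← hKm hv]
    refine congrArg Finset.card ?_
    ext a
    rw [Finset.mem_filter, hKmem]
    refine and_congr_right fun ha => ⟨fun e => ?_, fun o => (hKeq hv ha o).symm⟩
    exact (hKmem.1 (e ▸ (hKmem.2 ⟨ha, horefl ha⟩ : a ∈ K a))).2
  -- the vectors outside the class of the point
  let T : Finset V := O.filter fun v => Φ.bil p v = 0 ∧ Φ.bil (ac x p) v = 1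
  have hout : O.card ≤ m + 3 * T.card := by
    have hsub : O ⊆ K p ∪ (T ∪ T.image (ac x) ∪ T.image (fun w => ac x (ac x w))) := by
      intro v hv
      by_cases o : Orth Φ (ac x) p v
      · exact Finset.mem_union_left _ (hKmem.2 ⟨hv, o⟩)
      refine Finset.mem_union_right _ ?_
      simp only [Finset.mem_union, Finset.mem_image]
      have b1 : Φ.bil p (ac x v) = Φ.bil p v + Φ.bil (ac x p) v := h.xx_bil hx hA p v
      have b2 : Φ.bil (ac x p) (ac x v) = Φ.bil p v := h.ac_bil hx.comm _ _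
      rcases f2_cases (Φ.bil p v) with e1 | e1 <;> rcases f2_cases (Φ.bil (ac x p) v) with e2 | e2
      · exact absurd ⟨e1, e2⟩ o
      · exact Or.inl (Or.inl (Finset.mem_filter.2 ⟨hv, e1, e2⟩))
      · -- the image under the square
        refine Or.inl (Or.inr ⟨ac x (ac x v),
          Finset.mem_filter.2 ⟨hOc hx.comm (hOc hx.comm hv), ?_, ?_⟩, h.x_cube hx v⟩)
        · rw [h.xx_bil hx hA, b1, b2, e1, e2]; rfl
        · rw [h.ac_bil hx.comm, b1, e1, e2]; rfl
      · refine Or.inr ⟨ac x v, Finset.mem_filter.2 ⟨hOc hx.comm hv, ?_, ?_⟩, h.x_cube hx v⟩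
        · rw [b1, e1, e2]; rfl
        · rw [b2, e1]
    refine le_trans (Finset.card_le_card hsub) (le_trans (Finset.card_union_le _ _) ?_)
    refine Nat.add_le_add_left (le_trans (Finset.card_union_le _ _) ?_) _
    have i1 := Finset.card_union_le T (T.image (ac x))
    have i2 := Finset.card_image_le (s := T) (f := ac x)
    have i3 := Finset.card_image_le (s := T) (f := fun w => ac x (ac x w))
    omega
  have hTbil : ∀ {v}, v ∈ T → Φ.bil p (ac x v) = 1 := fun {v} hv => by
    obtain ⟨-, a1, a2⟩ := Finset.mem_filter.1 hv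
    rw [h.xx_bil hx hA, a1, a2, zero_add]
  have h3 : ac x p ≠ p ∧ ac x (ac x p) ≠ p ∧ ac x (ac x p) ≠ ac x p :=
    ⟨u.xp_ne h hx hA, fun e => u.xp_ne h hx hA (by
      have := congrArg (ac x) e
      rw [h.x_cube hx] at this
      exact this.symm), fun e => u.xp_ne h hx hA (h.ac_injective hx hA hx.comm e)⟩
  have hlineK : ({p, ac x p, ac x (ac x p)} : Finset V) ⊆ K p := by
    intro v hv
    simp only [Finset.mem_insert, Finset.mem_singleton] at hv
    rcases hv with rfl | rfl | rfl
    · exact hKmem.2 ⟨hpO, horefl hpO⟩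
    · exact hKmem.2 ⟨hOc hx.comm hpO, h.orth_x hx hA (horefl hpO)⟩
    · exact hKmem.2 ⟨hOc hx.comm (hOc hx.comm hpO), h.orth_x hx hA (h.orth_x hx hA (horefl hpO))⟩
  have hm3 : 3 ≤ m := by
    refine le_trans (le_of_eq ?_) (Finset.card_le_card hlineK)
    rw [Finset.card_eq_three.2 ⟨p, ac x p, ac x (ac x p), h3.1.symm, h3.2.1.symm, h3.2.2.symm, rfl⟩]
  -- the alternating factor permutes the classes
  have hA6 : ∀ a, ∀ v ∈ O, h.act a v ∈ O := fun a v hv => hOc (h.lf_comm a) hv
  have hKcl : ∀ a, ∀ C ∈ 𝒦, C.image (h.act a) ∈ 𝒦 := fun a C hC => by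
    obtain ⟨v, hv, rfl⟩ := Finset.mem_image.1 hC
    exact Finset.mem_image.2 ⟨_, hA6 a v hv, (hKac (h.lf_comm a) hv)⟩
  let ρ : alternatingGroup (Fin 6) →* Equiv.Perm 𝒦 :=
    MonoidHom.toHomPerm
      { toFun := fun a C => ⟨C.1.image (h.act a), hKcl a _ C.2⟩
        map_one' := funext fun C => Subtype.ext (by
          show C.1.image (h.act 1) = C.1
          rw [map_one]; exact Finset.image_id)
        map_mul' := fun a b => funext fun C => Subtype.ext (by
          show C.1.image (h.act (a * b)) = (C.1.image (h.act b)).image (h.act a)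
          rw [map_mul, Finset.image_image]; rfl) }
  have hρ : ∀ a (C : 𝒦), (ρ a C).1 = C.1.image (h.act a) := fun _ _ => rfl
  -- few classes: the class of the point is invariant
  have hfew : (∀ v ∈ K p, v = p ∨ v = ac x p ∨ v = ac x (ac x p)) ∨
      ∃ q ∈ K p, q ≠ p ∧ q ≠ ac x p ∧ q ≠ ac x (ac x p) := by
    by_cases e : ∃ q ∈ K p, q ≠ p ∧ q ≠ ac x p ∧ q ≠ ac x (ac x p)
    · exact Or.inr e
    · refine Or.inl fun v hv => ?_
      by_contra hv'
      simp only [not_or] at hv'
      exact e ⟨v, hv, hv'⟩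
  have hinv_of : 𝒦.card ≤ 5 → ∀ a, ∀ v ∈ K p, h.act a v ∈ K p := by
    intro hk a v hv
    have := alternatingGroup.isSimpleGroup (α := Fin 6) (by simp)
    rcases (MonoidHom.normal_ker ρ).eq_bot_or_eq_top with e | e
    · exfalso
      have h1 := Nat.card_le_card_of_injective _ ((MonoidHom.ker_eq_bot_iff ρ).1 e)
      rw [nat_card_alternatingGroup, Nat.card_eq_fintype_card (α := Fin 6), Fintype.card_fin,
        Nat.card_perm, Nat.card_eq_fintype_card, Fintype.card_coe] at h1
      have h2 := Nat.factorial_le hk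
      have h3' : (5 : ℕ).factorial = 120 := rfl
      have h4 : (6 : ℕ).factorial / 2 = 360 := rfl
      omega
    · have h1 : ρ a ⟨K p, Finset.mem_image_of_mem K hpO⟩ = ⟨K p, Finset.mem_image_of_mem K hpO⟩ := by
        rw [MonoidHom.mem_ker.1 (e ▸ Subgroup.mem_top a : a ∈ ρ.ker)]; rfl
      have h2 : (K p).image (h.act a) = K p := congrArg Subtype.val h1
      rw [← h2]
      exact Finset.mem_image_of_mem _ hv
  rcases hfew with hline | ⟨q, hq, hqne⟩
  · -- the classes are the lines
    have hmle : m ≤ 3 := by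
      refine le_trans (Finset.card_le_card (t := {p, ac x p, ac x (ac x p)}) fun v hv => ?_) Finset.card_le_three
      simpa using hline v hv
    have horth : ∀ a ∈ (O : Set V), ∀ b ∈ (O : Set V), Orth Φ (ac x) a b →
        b = a ∨ b = ac x a ∨ b = ac x (ac x a) := by
      intro a ha b hb o
      obtain ⟨c, hc, rfl⟩ := hO.1 ha
      have hb' : b ∈ (K p).image (ac c) := by rw [← hKac hc hpO]; exact hKmem.2 ⟨hb, o⟩
      obtain ⟨v, hv, rfl⟩ := Finset.mem_image.1 hb'
      rcases hline v hv with rfl | rfl | rfl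
      · exact Or.inl rfl
      · by_cases hs : sign (pi c).1 = 1
        · exact Or.inr (Or.inl (h.ac_x_comm hx hc hs _))
        · exact Or.inr (Or.inr (h.ac_x_inv hx hc hs _))
      · by_cases hs : sign (pi c).1 = 1
        · exact Or.inr (Or.inr (by rw [h.ac_x_comm hx hc hs, h.ac_x_comm hx hc hs]))
        · exact Or.inr (Or.inl (by rw [h.ac_x_inv hx hc hs, h.ac_x_inv hx hc hs, h.x_cube hx]))
    have hT4 : T.card ≤ 4 := by
      rcases Finset.eq_empty_or_nonempty T with e | ⟨w, hw⟩
      · rw [e]; simp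
      obtain ⟨hwO, w0, -⟩ := Finset.mem_filter.1 hw
      let R : Finset V := Finset.univ.filter fun r => r ∈ h.real g x w
      have hR : R.card = 4 := by
        rw [← Fintype.card_subtype, ← Nat.card_eq_fintype_card]
        change Nat.card (h.real g x w) = 4
        rw [Module.natCard_eq_pow_finrank (K := F2) (V := h.real g x w),
          u.finrank_real h hx hA w0 (hTbil hw), Nat.card_zmod]
        rfl
      refine hR ▸ le_trans (Finset.card_le_card (t := R.image fun r => if r = 0 then w else w + r + p)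
        fun v hv => ?_) Finset.card_image_le
      obtain ⟨hvO, v0, -⟩ := Finset.mem_filter.1 hv
      obtain ⟨r, hr, e⟩ := u.four_bound h hx hA w0 (hTbil hw) (hOq hwO).1 (O : Set V)
        (fun e he => hOc he.1 hwO) horth hwO hvO (hOq hvO).1 v0 (hTbil hv)
      refine Finset.mem_image.2 ⟨r, Finset.mem_filter.2 ⟨Finset.mem_univ _, hr⟩, ?_⟩
      rcases e with ⟨e, hr0⟩ | ⟨e, hr0⟩
      · rw [if_pos hr0, e, hr0, add_zero]
      · rw [if_neg hr0, e]
    have hk : 𝒦.card ≤ 5 := by
      have : 𝒦.card * m ≤ m + 12 := by rw [← hcardO]; omega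
      have := Nat.mul_le_mul_left 𝒦.card hm3
      omega
    refine h.false_of_invariant hx hA (K p) (p := p) (q := p) (hlineK (by simp)) (hlineK (by simp))
      (u.co_ne h) (show m ≤ 15 by omega) (hinv_of hk) fun v hv => ?_
    rcases hline v hv with rfl | rfl | rfl
    · exact Submodule.subset_span (Or.inl rfl)
    · exact Submodule.subset_span (Or.inr (Or.inl rfl))
    · rw [hF.sq_eq Submodule.mem_top]
      exact add_mem (Submodule.subset_span (Or.inl rfl)) (Submodule.subset_span (Or.inr (Or.inl rfl)))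
  · -- two lines in the class
    obtain ⟨hqO, hqo⟩ := hKmem.1 hq
    obtain ⟨hTS, h4⟩ := u.pair_span h hx hA (hOq hqO).1 hqo hqne (hOq hqO).2
    set S := Submodule.span F2 ({p, ac x p, q, ac x q} : Set V) with hS
    have hSperp : S = Φ.perp S := by
      refine Submodule.eq_of_le_of_finrank_le (hTS.le_perp Φ) ?_
      have := Φ.finrank_perp S
      rw [h.dim, h4] at this
      rw [h4]
      omega
    have hKS : ∀ v ∈ K p, v ∈ S := fun v hv => by
      obtain ⟨hvO, hvo⟩ := hKmem.1 hv
      have hvq : Orth Φ (ac x) q v := htr hpO hqO hvO hqo hvo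
      rw [hSperp]
      intro a ha
      induction ha using Submodule.span_induction with
      | mem a ha =>
        rcases ha with rfl | rfl | rfl | rfl
        exacts [hvo.1, hvo.2, hvq.1, hvq.2]
      | zero => simp
      | add c d _ _ hc hd => rw [map_add, LinearMap.add_apply, hc, hd, add_zero]
      | smul c d _ hd => rw [map_smul, LinearMap.smul_apply, hd, smul_zero]
    have hm15 : m ≤ 15 := by
      have hsub : K p ⊆ (Finset.univ.filter fun v => v ∈ S).erase 0 := fun v hv =>
        Finset.mem_erase.2 ⟨(hOq (hKmem.1 hv).1).2, Finset.mem_filter.2 ⟨Finset.mem_univ _, hKS v hv⟩⟩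
      refine le_trans (Finset.card_le_card hsub) ?_
      rw [Finset.card_erase_of_mem (by simp), ← Fintype.card_subtype, ← Nat.card_eq_fintype_card]
      change Nat.card S - 1 ≤ 15
      rw [Module.natCard_eq_pow_finrank (K := F2) (V := S), h4, Nat.card_zmod]
      norm_num
    -- a representative in the meet
    obtain ⟨s, hsK, hsne, hsm⟩ : ∃ s ∈ K p, (s ≠ p ∧ s ≠ ac x p ∧ s ≠ ac x (ac x p)) ∧ s ∈ h.meet g := by
      have hxq : ac x q ≠ p ∧ ac x q ≠ ac x p ∧ ac x q ≠ ac x (ac x p) :=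
        ⟨fun e => hqne.2.2 (by rw [← e, h.x_cube hx]), fun e => hqne.1 (h.ac_injective hx hA hx.comm e),
          fun e => hqne.2.1 (h.ac_injective hx hA hx.comm e)⟩
      have hxxq : ac x (ac x q) ≠ p ∧ ac x (ac x q) ≠ ac x p ∧ ac x (ac x q) ≠ ac x (ac x p) :=
        ⟨fun e => hxq.2.2 (by
            have := congrArg (ac x) e
            rw [h.x_cube hx] at this
            rw [this]),
          fun e => hxq.1 (h.ac_injective hx hA hx.comm e),
          fun e => hxq.2.1 (h.ac_injective hx hA hx.comm e)⟩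
      have oxq := h.orth_x hx hA hqo
      rcases u.exists_collinear h hx hA ((u.orth_iff h hx hA).1 hqo) (hOq hqO).1 with e | e | e
      · exact ⟨q, hq, hqne, e⟩
      · exact ⟨_, hKmem.2 ⟨hOc hx.comm hqO, oxq⟩, hxq, e⟩
      · exact ⟨_, hKmem.2 ⟨hOc hx.comm (hOc hx.comm hqO), h.orth_x hx hA oxq⟩, hxxq, e⟩
    obtain ⟨hsO, hso⟩ := hKmem.1 hsK
    obtain ⟨e₀, he₀, he₀s⟩ : ∃ e, InC z Q g e ∧ ac e s = s + p := by
      by_contra hc
      rcases u.separate h hsm (fun e he => (u.meet_cases h he hsm).resolve_right fun e' =>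
        hc ⟨e, he, e'⟩) with e' | e'
      · exact (hOq hsO).2 e'
      · exact hsne.1 e'
    have hspO : s + p ∈ O := he₀s ▸ hOc he₀.1 hsO
    have hspo : Orth Φ (ac x) p (s + p) :=
      ⟨by rw [map_add, hso.1, Φ.bil_self, add_zero],
        by rw [map_add, hso.2, (horefl hpO).2, add_zero]⟩
    have hT16 : T.card ≤ 16 := by
      refine u.sixteen_bound h hx hA hso (fun hm => ?_) T fun v hv => ?_
      · obtain ⟨a, b, e'⟩ := Submodule.mem_span_pair.1 hm
        rcases f2_cases a with rfl | rfl <;> rcases f2_cases b with rfl | rfl <;>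
          simp only [zero_smul, one_smul, zero_add, add_zero] at e'
        · exact (hOq hsO).2 e'.symm
        · exact hsne.2.1 e'.symm
        · exact hsne.1 e'.symm
        · exact hsne.2.2 (by rw [← e', hF.sq_eq Submodule.mem_top])
      obtain ⟨hvO, v0, v1⟩ := Finset.mem_filter.1 hv
      refine ⟨(hOq hvO).1, v0, v1, (f2_cases _).resolve_left fun e0 => ?_⟩
      have hno : ¬ Orth Φ (ac x) p v := fun o => one_ne_zero (v1.symm.trans o.2)
      rcases f2_cases (Φ.bil (ac x s) v) with e1 | e1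
      · exact hno (htr hsO hpO hvO (h.orth_comm hx hA hso) ⟨e0, e1⟩)
      · exact hno (htr hspO hpO hvO (h.orth_comm hx hA hspo)
          ⟨by rw [map_add, LinearMap.add_apply, e0, v0, add_zero],
            by rw [map_add, map_add, LinearMap.add_apply, e1, v1]; rfl⟩)
    have hm6 : 6 ≤ m := by
      have hsub2 : ({p, ac x p, ac x (ac x p)} : Finset V) ∪ {q, ac x q, ac x (ac x q)} ⊆ K p := by
        refine Finset.union_subset hlineK fun v hv => ?_
        simp only [Finset.mem_insert, Finset.mem_singleton] at hv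
        rcases hv with rfl | rfl | rfl
        · exact hq
        · exact hKmem.2 ⟨hOc hx.comm hqO, h.orth_x hx hA hqo⟩
        · exact hKmem.2 ⟨hOc hx.comm (hOc hx.comm hqO), h.orth_x hx hA (h.orth_x hx hA hqo)⟩
      refine le_trans (le_of_eq ?_) (Finset.card_le_card hsub2)
      have hq0 := (hOq hqO).2
      have q1 : ac x q ≠ q := fun e => hq0 (hF.fixed Submodule.mem_top e)
      have q2 : ac x (ac x q) ≠ ac x q := fun e => q1 (h.ac_injective hx hA hx.comm e)
      have q3 : ac x (ac x q) ≠ q := fun e => q1 (by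
        have := congrArg (ac x) e
        rw [h.x_cube hx] at this
        exact this.symm)
      rw [Finset.card_union_of_disjoint, Finset.card_eq_three.2 ⟨_, _, _, h3.1.symm, h3.2.1.symm,
        h3.2.2.symm, rfl⟩, Finset.card_eq_three.2 ⟨_, _, _, q1.symm, q3.symm, q2.symm, rfl⟩]
      rw [Finset.disjoint_left]
      intro v hv hv'
      simp only [Finset.mem_insert, Finset.mem_singleton] at hv hv'
      have inj := h.ac_injective hx hA hx.comm
      have c3 := h.x_cube hx
      rcases hv with rfl | rfl | rfl <;> rcases hv' with e | e | e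
      · exact hqne.1 e.symm
      · exact hqne.2.2 (by rw [e, c3])
      · exact hqne.2.1 (by rw [e, c3])
      · exact hqne.2.1 e.symm
      · exact hqne.1 (inj e).symm
      · exact hqne.2.2 (by rw [inj e, c3])
      · exact hqne.2.2 e.symm
      · exact hqne.2.1 (inj e).symm
      · exact hqne.1 (inj (inj e)).symm
    have hk9 : 𝒦.card * m ≤ m + 48 := by rw [← hcardO]; omega
    by_cases hk : 𝒦.card ≤ 5
    · exact h.false_of_invariant hx hA (K p) (p := p) (q := q) (hlineK (by simp)) hq (u.co_ne h) hm15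
        (hinv_of hk) fun v hv => hKS v hv
    -- a five-element fixes a class
    let a : alternatingGroup (Fin 6) := ⟨five6, Equiv.Perm.mem_alternatingGroup.2 five6_sign⟩
    have ha5 : a ^ 5 = 1 := Subtype.ext five6_pow
    have ha1 : a ≠ 1 := fun e => five6_ne (congrArg Subtype.val e)
    have : Fact (Nat.Prime 5) := ⟨by norm_num⟩
    have hk' : 𝒦.card ≤ 9 := by
      have := Nat.mul_le_mul_left 𝒦.card hm6
      rcases Nat.lt_or_ge 9 𝒦.card with hlt | hge
      · have := Nat.mul_le_mul hlt hm6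
        nlinarith
      · exact hge
    obtain ⟨C, hC⟩ := Equiv.Perm.exists_fixed_point_of_prime (p := 5) (n := 1) (σ := ρ a)
      (by rw [Fintype.card_coe]; omega) (by rw [pow_one, ← map_pow, ha5, map_one])
    obtain ⟨v, hv, hvC⟩ := Finset.mem_image.1 C.2
    have hCinv : ∀ w ∈ C.1, h.act a w ∈ C.1 := fun w hw => by
      rw [← congrArg Subtype.val hC]
      exact Finset.mem_image_of_mem _ hw
    let σ : Equiv.Perm C.1 :=
      { toFun := fun w => ⟨h.act a w.1, hCinv _ w.2⟩
        invFun := fun w => ⟨h.act a (h.act a (h.act a (h.act a w.1))),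
          hCinv _ (hCinv _ (hCinv _ (hCinv _ w.2)))⟩
        left_inv := fun w => Subtype.ext (h.act_five ha5 _)
        right_inv := fun w => Subtype.ext (h.act_five ha5 _) }
    have hσ : σ ^ 5 ^ 1 = 1 := by ext w; exact h.act_five ha5 _
    have hcC : C.1.card = m := by rw [← hvC]; exact hKm hv
    have hd5 : 5 ∣ m := by
      by_contra hnd
      obtain ⟨w, hw⟩ := Equiv.Perm.exists_fixed_point_of_prime (p := 5) (σ := σ)
        (by rw [Fintype.card_coe, hcC]; exact hnd) hσ
      have hwO : w.1 ∈ O := (hKmem.1 (show w.1 ∈ K v by rw [hvC]; exact w.2)).1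
      exact (hOq hwO).2 (h.act_five_free hx hA ha5 ha1 (congrArg Subtype.val hw))
    obtain ⟨d, hd⟩ := hd5
    have hd2 : 2 ≤ d := by omega
    have := Nat.mul_le_mul (Nat.lt_of_not_le hk : 6 ≤ 𝒦.card) hd2
    nlinarith

end Pt

end Cfsg.Agent.Lib.ExtraNine31
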