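import Cfsg.Agent.Lib.ExtraNine31.OutA
import Cfsg.Agent.Lib.ExtraNine31.OutB

/-!
# No conjugate outside `Q`: the conjugates inverting the first three-element

Owner: helper31.
-/

set_option autoImplicit false
set_option linter.unusedSectionVars false

namespace Cfsg.Agent.Lib.ExtraNine31

open Cfsg.Agent.Lib.LargeExtraspecial.Basic
open Equiv.Perm (sign)

variable {G : Type*} [Group G] {V : Type*} [AddCommGroup V] [Module F2 V] {z : G} {Q : Subgroup G}
  {Φ : QF V} {co : G → V} {ac : G → V →ₗ[F2] V} {pi : G → P36} {x g : G}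

/-- A functional cannot be one on all nonzero vectors of a three-space but one. -/
theorem QF.false_of_bil_one [Module.Finite F2 V] (Φ : QF V) {W : Submodule F2 V} {a v : V} (ha : a ∈ W)
    (ha0 : a ≠ 0) (hd : 3 ≤ Module.finrank F2 W) (h : ∀ b ∈ W, b ≠ 0 → b ≠ a → Φ.bil v b = 1) :
    False := by
  obtain ⟨b, hb, hb'⟩ : ∃ b ∈ W, b ∉ Submodule.span F2 ({a} : Set V) := by
    refine SetLike.not_le_iff_exists.1 fun hle2 => ?_
    have := Submodule.finrank_mono hle2
    rw [finrank_span_singleton ha0] at this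
    omega
  obtain ⟨c, hc, hc'⟩ : ∃ c ∈ W, c ∉ Submodule.span F2 ({a, b} : Set V) := by
    refine SetLike.not_le_iff_exists.1 fun hle2 => ?_
    have h1 := Submodule.finrank_mono hle2
    have h2 : Module.finrank F2 (Submodule.span F2 ({a, b} : Set V)) ≤ 2 := by
      classical
      exact le_trans (finrank_span_le_card _)
        (by simp only [Set.toFinset_insert, Set.toFinset_singleton]; exact Finset.card_le_two)
    omega
  have ham : a ∈ Submodule.span F2 ({a, b} : Set V) := Submodule.subset_span (Or.inl rfl)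
  have hbm : b ∈ Submodule.span F2 ({a, b} : Set V) := Submodule.subset_span (Or.inr rfl)
  have e1 := h b hb (fun e => hb' (e ▸ zero_mem _))
    (fun e => hb' (e ▸ Submodule.mem_span_singleton_self _))
  have e2 := h c hc (fun e => hc' (e ▸ zero_mem _)) (fun e => hc' (e ▸ ham))
  have e3 := h (b + c) (add_mem hb hc)
    (fun e => hc' (by rw [← zero_add c, ← add_self_eq_zero' b, add_assoc, e, add_zero]; exact hbm))
    (fun e => hc' (by
      rw [← zero_add c, ← add_self_eq_zero' b, add_assoc, e]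
      exact add_mem hbm ham))
  rw [map_add, e1, e2] at e3
  exact absurd e3 (by decide)

namespace Out

variable (o : Out z Q g) (h : Base z Q Φ co ac pi)
include o h

theorem false_of_inv [Finite G] (hiso : ∀ a : G, a * z * a⁻¹ ∈ Q → a * z * a⁻¹ = z)
    (hodd : ∀ b : G, Out z Q b → sign (pi (b * z * b⁻¹)).1 ≠ 1) : False := by
  have := h.finite
  have hz : Commute z (g * z * g⁻¹) := o.comm.symm
  have hz0 : sign (pi (g⁻¹ * z * g)).1 ≠ 1 := by
    have := hodd _ (o.symm h)
    rwa [inv_inv] at this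
  have hTS : Φ.TS (h.kerS g) := fun v ⟨q, hq, e, hc⟩ => by
    refine (f2_cases _).resolve_right fun e1 => hz0 (o.dt_partner h hq hc ?_).par
    rw [h.sq q hq, e, e1, zp_one]
  have k1 := hTS.two_finrank_le Φ
  have k2 := o.finrank_kerS h
  have k3 := o.finrank_fix_mov h
  have k4 := Submodule.finrank_mono (o.mov_le h)
  rw [h.dim] at k1
  -- the singular part of the commutator space
  have hS : 3 ≤ Module.finrank F2 (movS (ac (g * z * g⁻¹)) ⊓ h.kerS g : Submodule F2 V) := by
    by_cases h5 : Module.finrank F2 (fixS (ac (g * z * g⁻¹))) = 5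
    · have hle : movS (ac (g * z * g⁻¹)) ≤ h.kerS g := by
        intro v hv
        by_contra hvK
        have hiso' : fixS (ac (g * z * g⁻¹)) ≤ Φ.perp (fixS (ac (g * z * g⁻¹))) := fun b hb c hc => by
          have hsplit : ∀ d ∈ fixS (ac (g * z * g⁻¹)), d ∈ h.kerS g ∨ d + v ∈ h.kerS g := fun d hd => by
            by_cases hdK : d ∈ h.kerS g
            · exact Or.inl hdK
            · exact Or.inr (o.add_mem_kerS h hd (o.mov_le h hv) hdK hvK)
          have hv0 : ∀ d ∈ fixS (ac (g * z * g⁻¹)), Φ.bil v d = 0 := fun d hd => o.mov_orth h hv hd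
          rcases hsplit c hc with e | e <;> rcases hsplit b hb with e' | e'
          · exact hTS.bil_eq_zero Φ e e'
          · have := hTS.bil_eq_zero Φ e e'
            rwa [map_add, Φ.bil_comm c v, hv0 c hc, add_zero] at this
          · have := hTS.bil_eq_zero Φ e e'
            rwa [map_add, LinearMap.add_apply, hv0 b hb, add_zero] at this
          · have := hTS.bil_eq_zero Φ e e'
            rwa [map_add, map_add, LinearMap.add_apply, LinearMap.add_apply, hv0 b hb,
              Φ.bil_comm c v, hv0 c hc, Φ.bil_self, add_zero, add_zero, add_zero] at this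
        have k5 := Submodule.finrank_mono hiso'
        have k6 := Φ.finrank_perp (fixS (ac (g * z * g⁻¹)))
        rw [h.dim] at k6
        omega
      rw [inf_of_le_left hle]
      omega
    · have hle : fixS (ac (g * z * g⁻¹)) ≤ movS (ac (g * z * g⁻¹)) :=
        (Submodule.eq_of_le_of_finrank_le (o.mov_le h) (by omega)).ge
      rw [inf_of_le_right ((o.kerS_le h).trans hle)]
      omega
  -- each of its vectors gives an odd element
  have key : ∀ q ∈ Q, co (ii (g * z * g⁻¹) q) ∈ h.kerS g → co (ii (g * z * g⁻¹) q) ≠ 0 →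
      Commute (ii (g * z * g⁻¹) q) (g * z * g⁻¹) ∧
        sign (pi (g⁻¹ * ii (g * z * g⁻¹) q * g)).1 = -1 := by
    intro q hq hK hne
    have hit : Commute (ii (g * z * g⁻¹) q) (g * z * g⁻¹) := o.commute_ii h hq (hTS _ hK)
    refine ⟨hit, ?_⟩
    have e1 : g⁻¹ * q * g * z * (g⁻¹ * q * g)⁻¹ = g⁻¹ * (g * z * g⁻¹ * ii (g * z * g⁻¹) q) * g := by
      rw [o.t_ii h q]; group
    have e1' : g⁻¹ * (g * z * g⁻¹ * ii (g * z * g⁻¹) q) * g =
        z * (g⁻¹ * ii (g * z * g⁻¹) q * g) := by group
    have hcz : Commute (g⁻¹ * q * g * z * (g⁻¹ * q * g)⁻¹) z := by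
      rw [e1]; exact Base.comm_rel ((Commute.refl _).mul_left hit)
    have o' : Out z Q (g⁻¹ * q * g) := ⟨hcz, fun hm => by
      have e2 := hiso _ hm
      rw [e1, e1', mul_eq_left] at e2
      have e4 : ii (g * z * g⁻¹) q = 1 := by
        calc ii (g * z * g⁻¹) q = g * (g⁻¹ * ii (g * z * g⁻¹) q * g) * g⁻¹ := by group
          _ = 1 := by rw [e2, mul_one, mul_inv_cancel]
      exact hne (by rw [e4, h.co_one])⟩
    have hp := hodd _ o'
    rw [e1, e1', h.pi_mul _ _ (Commute.refl z) (Base.comm_rel hit),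
      (h.pi_ker z (Commute.refl z)).2 h.zQ, one_mul] at hp
    exact (Int.units_eq_one_or _).resolve_left hp
  have hz1 : sign (pi (g⁻¹ * z * g)).1 = -1 := (Int.units_eq_one_or _).resolve_left hz0
  obtain ⟨a, ha, ha0⟩ := Submodule.exists_mem_ne_zero_of_ne_bot
    (p := movS (ac (g * z * g⁻¹)) ⊓ h.kerS g) fun e => by rw [e, finrank_bot] at hS; omega
  obtain ⟨qa, hqa, rfl⟩ := o.mov_eq_co_ii h ha.1
  refine Φ.false_of_bil_one (v := co qa) ha ha0 hS fun b hb hb0 hba => ?_
  obtain ⟨qb, hqb, rfl⟩ := o.mov_eq_co_ii h hb.1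
  have hab : co (ii (g * z * g⁻¹) (qa * qb)) =
      co (ii (g * z * g⁻¹) qa) + co (ii (g * z * g⁻¹) qb) := by
    rw [o.co_ii h (mul_mem hqa hqb), o.co_ii h hqa, o.co_ii h hqb, h.co_mul qa hqa qb hqb, map_add]
    abel
  obtain ⟨ca, sa⟩ := key qa hqa ha.2 ha0
  obtain ⟨cb, sb⟩ := key qb hqb hb.2 hb0
  obtain ⟨-, sab⟩ := key (qa * qb) (mul_mem hqa hqb) (by rw [hab]; exact add_mem ha.2 hb.2)
    (by
      rw [hab]
      intro e
      exact hba (by
        rw [← zero_add (co (ii (g * z * g⁻¹) qb)), ← add_self_eq_zero' (co (ii (g * z * g⁻¹) qa)),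
          add_assoc, e, add_zero]))
  refine (f2_cases _).resolve_left fun eB => ?_
  rw [o.ii_mul h hqa hqb, eB, zp_zero, mul_one, h.pi_rel_mul ca cb, Prod.fst_mul, map_mul, sa, sb] at sab
  exact absurd sab (by decide)

end Out

/-- If `z` is the only one of its conjugates in `Q`, it is the only one in its centraliser. -/
theorem Base.isolated [Finite G] (h : Base z Q Φ co ac pi)
    (hiso : ∀ a : G, a * z * a⁻¹ ∈ Q → a * z * a⁻¹ = z) :
    ∀ a : G, Commute (a * z * a⁻¹) z → a * z * a⁻¹ = z := by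
  intro a ha
  by_contra hne
  obtain ⟨x, hx⟩ := h.exists_lift3
  have o : Out z Q a := ⟨ha, fun hm => hne (hiso a hm)⟩
  refine o.false_of_inv h hiso fun b ob hs => ?_
  rcases h.dichotomy hx with hA | hB
  · exact ob.false_of_caseA h hx hA hiso hs
  · exact ob.false_of_caseB h hx hB hs

end Cfsg.Agent.Lib.ExtraNine31
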