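import Cfsg.Agent.Lib.ExtraNine31.Tau
import Cfsg.Agent.Lib.ExtraNine31.OutInv
import Cfsg.Agent.Lib.ExtraNine31.InB
import Cfsg.Agent.Lib.ZStar.UniqueCase

/-!
# `2^{1+8}.(S₃ × A₆)`: the group is not simple

Owner: helper31.
-/

set_option autoImplicit false

namespace Cfsg.Agent.Lib.ExtraNine31

open Cfsg.Agent.Lib.LargeExtraspecial.Basic

universe u

variable {G : Type u} [Group G] [Finite G] {V : Type*} [AddCommGroup V] [Module F2 V] {z : G}
  {Q : Subgroup G} {Φ : QF V} {co : G → V} {ac : G → V →ₗ[F2] V} {pi : G → P36}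

namespace Base

variable (h : Base z Q Φ co ac pi)
include h

/-- `z` is the only one of its conjugates in `Q`. -/
theorem unique_in_Q (a : G) (ha : a * z * a⁻¹ ∈ Q) : a * z * a⁻¹ = z := by
  by_contra hne
  obtain ⟨x, hx⟩ := h.exists_lift3
  have hp : Pt z Q a := ⟨ha, hne⟩
  rcases h.dichotomy hx with hA | hB
  · exact hp.false_of_caseA h hx hA
  · exact hp.false_of_caseB h hx hB

/-- A Sylow group of the centraliser is one of the group. -/
theorem exists_sylow_le : ∃ T : Sylow 2 G, z ∈ T ∧ ∀ t ∈ T, Commute t z := by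
  have : Fact (Nat.Prime 2) := ⟨Nat.prime_two⟩
  set C := Subgroup.centralizer ({z} : Set G) with hC
  obtain ⟨S⟩ : Nonempty (Sylow 2 C) := inferInstance
  set T₀ := (S : Subgroup C).map C.subtype with hT₀
  have hT₀C : T₀ ≤ C := Subgroup.map_subtype_le _
  have hT₀p : IsPGroup 2 T₀ := S.2.map _
  obtain ⟨T, hT⟩ := hT₀p.exists_le_sylow
  have hQC : Q ≤ C := fun q hq => Subgroup.mem_centralizer_singleton_iff.2 (h.commQz hq).eq
  have hcomm : ∀ c ∈ C, Commute c z := fun c hc => Subgroup.mem_centralizer_singleton_iff.1 hc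
  have hQT : Q ≤ T₀ := by
    have hn : (Q.subgroupOf C).Normal := ⟨fun q hq c => h.norm c.1 (hcomm c.1 c.2) q.1 hq⟩
    have hQp : IsPGroup 2 Q := IsPGroup.of_card (n := 9) (by rw [h.cardQ]; norm_num)
    have hp : IsPGroup 2 (Q.subgroupOf C) := hQp.of_equiv (Subgroup.subgroupOfEquivOfLe hQC).symm
    intro q hq
    exact ⟨⟨q, hQC hq⟩, hp.le_sylow_of_normal S hq, rfl⟩
  refine ⟨T, hT (hQT h.zQ), fun t ht => hcomm t ?_⟩
  have hTC : (T : Subgroup G) ≤ C := by
    have : Group.IsNilpotent (T : Subgroup G) := T.2.isNilpotent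
    by_contra hne
    have hlt : T₀.subgroupOf (T : Subgroup G) < ⊤ := by
      refine lt_top_iff_ne_top.2 fun e => hne ?_
      rw [Subgroup.subgroupOf_eq_top] at e
      exact e.trans hT₀C
    obtain ⟨y, hyN, hy⟩ :=
      SetLike.exists_of_lt (normalizerCondition_of_isNilpotent (T₀.subgroupOf (T : Subgroup G)) hlt)
    have hyinv : ∀ a ∈ T₀, (y : G)⁻¹ * a * (y : G) ∈ T₀ := fun a ha => by
      have := (Subgroup.mem_normalizer_iff.1 (inv_mem hyN) ⟨a, hT ha⟩).1 ha
      rw [inv_inv, Subgroup.mem_subgroupOf] at this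
      simpa only [Subgroup.coe_mul, Subgroup.coe_inv] using this
    set w := (y : G) * z * (y : G)⁻¹ with hw
    have hwc : ∀ q ∈ Q, Commute w q := fun q hq => by
      have h1 : Commute z ((y : G)⁻¹ * q * (y : G)) := (hcomm _ (hT₀C (hyinv q (hQT hq)))).symm
      have h2 := h1.map (MulAut.conj (y : G))
      simpa [hw, mul_assoc] using h2
    have hwz : w = z := (h.cent w hwc).resolve_left fun e => h.es.ne (by simpa [hw] using e)
    have hyC : (y : G) ∈ C := Subgroup.mem_centralizer_singleton_iff.2 (mul_inv_eq_iff_eq_mul.1 hwz)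
    have hle : (S : Subgroup C) ≤ ((T : Subgroup G) ⊓ C).subgroupOf C := fun a ha =>
      ⟨hT ⟨a, ha, rfl⟩, a.2⟩
    have hp : IsPGroup 2 (((T : Subgroup G) ⊓ C).subgroupOf C) :=
      (T.2.to_le inf_le_left).comap_of_injective _ C.subtype_injective
    have he := S.3 hp hle
    refine hy ?_
    exact ⟨⟨y, hyC⟩, he ▸ (⟨y.2, hyC⟩ : (⟨y, hyC⟩ : C) ∈ ((T : Subgroup G) ⊓ C).subgroupOf C), rfl⟩
  exact hTC ht

theorem not_simple : ¬ IsSimpleGroup G := by
  intro hG
  have := h.finite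
  obtain ⟨T, hzT, hT⟩ := h.exists_sylow_le
  obtain ⟨N, hN, hodd, hc⟩ := Cfsg.Agent.Lib.ZStar.UniqueCase.zstar T z h.ord hzT
    (fun g hg => h.isolated h.unique_in_Q g (hT _ hg))
  rcases hN.eq_bot_or_eq_top with e | e
  · have hcen : z ∈ Subgroup.center G := Subgroup.mem_center_iff.2 fun g => by
      have := hc g
      rw [e, Subgroup.mem_bot, mul_inv_eq_one, mul_inv_eq_iff_eq_mul] at this
      exact this.symm
    rcases (inferInstance : (Subgroup.center G).Normal).eq_bot_or_eq_top with e' | e'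
    · rw [e', Subgroup.mem_bot] at hcen
      exact h.es.ne hcen
    · have : Nontrivial V := Module.nontrivial_of_finrank_pos (R := F2) (by rw [h.dim]; norm_num)
      obtain ⟨v, hv⟩ := exists_ne (0 : V)
      obtain ⟨w, hw⟩ := Φ.exists_bil_one hv
      obtain ⟨q, hq, rfl⟩ := h.co_surj w
      obtain ⟨r, hr, rfl⟩ := h.co_surj v
      have hqr : Commute q r := Subgroup.mem_center_iff.1 (e' ▸ Subgroup.mem_top r) q
      rw [(h.commute_Q hq hr).1 hqr] at hw
      exact zero_ne_one hw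
  · have h2 : orderOf z ∣ Nat.card G := orderOf_dvd_natCard z
    rw [h.ord] at h2
    rw [e, Subgroup.card_top] at hodd
    exact (Nat.not_even_iff_odd.2 hodd) (even_iff_two_dvd.2 h2)

end Base

end Cfsg.Agent.Lib.ExtraNine31
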