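import Cfsg.Agent.Lib.ExtraNine31.Pairs

/-!
# Case A: no conjugate outside `Q` centralises the first three-element modulo `Q`

Owner: helper31.
-/

set_option autoImplicit false
set_option linter.unusedSectionVars false

namespace Cfsg.Agent.Lib.ExtraNine31

open Cfsg.Agent.Lib.LargeExtraspecial.Basic
open Equiv.Perm (sign)

variable {G : Type*} [Group G]

/-- The product over the orbit of the three-element. -/
def tri3 (x d : G) : G := d * (x * d * x⁻¹) * (x * x * d * (x * x)⁻¹)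

theorem sign_of_cube {α : Type*} [DecidableEq α] [Fintype α] {a b c : Equiv.Perm α}
    (h : sign a * (sign b * sign a * (sign b)⁻¹) * (sign c * sign a * (sign c)⁻¹) = 1) : sign a = 1 := by
  revert h
  generalize sign a = p
  generalize sign b = q
  generalize sign c = r
  revert p q r
  decide

variable {V : Type*} [AddCommGroup V] [Module F2 V] {z : G} {Q : Subgroup G}
  {Φ : QF V} {co : G → V} {ac : G → V →ₗ[F2] V} {pi : G → P36} {x g : G}

namespace Base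

variable (h : Base z Q Φ co ac pi) (hx : Lift3 z pi x) (hA : CaseA ac x)
include h hx hA

theorem fpf3_top : Φ.Fpf3 ⊤ (ac x) :=
  ⟨fun v _ => hA v, fun v _ => h.ac_q hx.comm v, fun _ _ => Submodule.mem_top⟩

theorem co_tri3 {d : G} (hd : d ∈ Q) : co (tri3 x d) = 0 := by
  unfold tri3
  rw [h.co_mul _ (mul_mem hd (h.norm x hx.comm d hd)) _ (h.norm _ (hx.comm.mul_left hx.comm) d hd),
    h.co_mul d hd _ (h.norm x hx.comm d hd), h.conj x hx.comm d hd,
    h.conj _ (hx.comm.mul_left hx.comm) d hd, h.ac_mul hx.comm hx.comm]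
  exact hA _

theorem tri3_cases {d : G} (hd : d ∈ Q) : tri3 x d = 1 ∨ tri3 x d = z :=
  h.co_zero _ (mul_mem (mul_mem hd (h.norm x hx.comm d hd))
    (h.norm _ (hx.comm.mul_left hx.comm) d hd)) (h.co_tri3 hx hA hd)

theorem tri3_zp (e : F2) : tri3 x (zp z e) = zp z e := by
  unfold tri3
  rw [(Commute.zp_right hx.comm e).eq, mul_inv_cancel_right,
    (Commute.zp_right (hx.comm.mul_left hx.comm) e).eq, mul_inv_cancel_right]
  rcases zp_cases z e with e1 | e1 <;> rw [e1]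
  · simp
  · rw [h.zz, one_mul]

theorem tri3_mul {W : Submodule F2 V} (hW : ∀ a ∈ W, ∀ b ∈ W, Φ.bil a b = 0)
    (hxW : ∀ a ∈ W, ac x a ∈ W) {d e : G} (hd : d ∈ Q) (he : e ∈ Q) (hdW : co d ∈ W) (heW : co e ∈ W) :
    tri3 x (d * e) = tri3 x d * tri3 x e := by
  have hcom : ∀ {p r : G}, p ∈ Q → r ∈ Q → co p ∈ W → co r ∈ W → Commute p r :=
    fun hp hr hpW hrW => (h.commute_Q hp hr).2 (hW _ hpW _ hrW)
  have d1 : x * d * x⁻¹ ∈ Q := h.norm x hx.comm d hd
  have d1W : co (x * d * x⁻¹) ∈ W := by rw [h.conj x hx.comm d hd]; exact hxW _ hdW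
  have d2 : x * x * d * (x * x)⁻¹ ∈ Q := h.norm _ (hx.comm.mul_left hx.comm) d hd
  have d2W : co (x * x * d * (x * x)⁻¹) ∈ W := by
    rw [h.conj _ (hx.comm.mul_left hx.comm) d hd, h.ac_mul hx.comm hx.comm]; exact hxW _ (hxW _ hdW)
  have e1 : x * e * x⁻¹ ∈ Q := h.norm x hx.comm e he
  have e1W : co (x * e * x⁻¹) ∈ W := by rw [h.conj x hx.comm e he]; exact hxW _ heW
  have k1 : Commute e (x * d * x⁻¹) := hcom he d1 heW d1W
  have k2 : Commute (e * (x * e * x⁻¹)) (x * x * d * (x * x)⁻¹) :=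
    (hcom he d2 heW d2W).mul_left (hcom e1 d2 e1W d2W)
  calc tri3 x (d * e)
      = d * e * (x * d * x⁻¹ * (x * e * x⁻¹)) * (x * x * d * (x * x)⁻¹ * (x * x * e * (x * x)⁻¹)) := by
        unfold tri3; group
    _ = d * (e * (x * d * x⁻¹)) * (x * e * x⁻¹) * (x * x * d * (x * x)⁻¹) * (x * x * e * (x * x)⁻¹) := by
        simp only [mul_assoc]
    _ = d * (x * d * x⁻¹) * (e * (x * e * x⁻¹) * (x * x * d * (x * x)⁻¹)) *
          (x * x * e * (x * x)⁻¹) := by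
        rw [k1.eq]; simp only [mul_assoc]
    _ = tri3 x d * tri3 x e := by
        rw [k2.eq]; unfold tri3; simp only [mul_assoc]

end Base

namespace Out

variable (o : Out z Q g) (h : Base z Q Φ co ac pi)
include o h

theorem fix_le_mov_iff_dim : fixS (ac (g * z * g⁻¹)) ≤ movS (ac (g * z * g⁻¹)) →
    Module.finrank F2 (fixS (ac (g * z * g⁻¹))) = 4 := fun hle => by
  have := h.finite
  have h1 := Submodule.finrank_mono hle
  have h2 := Submodule.finrank_mono (o.mov_le h)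
  have h3 := o.finrank_fix_mov h
  omega

theorem q_fix (hx : Lift3 z pi x) (hA : CaseA ac x) (hs : sign (pi (g * z * g⁻¹)).1 = 1)
    (hle : fixS (ac (g * z * g⁻¹)) ≤ movS (ac (g * z * g⁻¹))) :
    (∀ v ∈ fixS (ac (g * z * g⁻¹)), Φ.q v = 0) ∧ fixS (ac (g * z * g⁻¹)) ≤ h.kerS g := by
  have hTS : Φ.TS (fixS (ac (g * z * g⁻¹))) := (h.fpf3_top hx hA).ts_of_isotropic le_top
    (fun w hw => mem_fixS.2 (by rw [h.ac_x_comm hx o.comm hs, mem_fixS.1 hw]))
    (fun v hv w hw => o.mov_orth h (hle hv) hw)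
  refine ⟨hTS, fun v hv => ?_⟩
  obtain ⟨q, hq, rfl⟩ := o.mov_eq_co_ii h (hle hv)
  exact ⟨_, o.ii_mem h hq, rfl, o.commute_ii h hq (hTS _ hv)⟩

theorem fix_le_of_dt (hx : Lift3 z pi x) (hA : CaseA ac x) (ht : Dt (pi (g * z * g⁻¹))) :
    fixS (ac (g * z * g⁻¹)) ≤ movS (ac (g * z * g⁻¹)) := by
  have := h.finite
  obtain ⟨y, hy5, hy1, hyinv⟩ := s6_dt_inverts _ ht.2.2.2 ht.2.2.1 ht.2.1
  have hy5' : y ^ 5 = 1 := by simpa only [pow_succ, pow_zero, one_mul] using hy5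
  have hys : sign y = 1 := by
    have h0 := congrArg sign hy5'
    rw [map_pow, map_one] at h0
    rcases Int.units_eq_one_or (sign y) with e | e
    · exact e
    · rw [e] at h0; exact absurd h0 (by decide)
  obtain ⟨c, hc, hcy⟩ := h.pi_surj (1, y) (map_one _) hys
  have hF := h.five_free hx hA hc (by rw [hcy]) (by rw [hcy]; exact hy5') (by rw [hcy]; exact hy1)
  have htc : ∀ v, ac (g * z * g⁻¹) (ac c v) =
      ac c (ac c (ac c (ac c (ac (g * z * g⁻¹) v)))) := fun v => by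
    rw [← h.ac_mul o.comm hc, ← h.ac_mul hc o.comm, ← h.ac_mul hc (hc.mul_left o.comm),
      ← h.ac_mul hc (hc.mul_left (hc.mul_left o.comm)),
      ← h.ac_mul hc (hc.mul_left (hc.mul_left (hc.mul_left o.comm)))]
    refine h.ac_eq_of_pi (o.comm.mul_left hc)
      (hc.mul_left (hc.mul_left (hc.mul_left (hc.mul_left o.comm)))) ?_ v
    rw [h.pi_mul _ _ o.comm hc, h.pi_mul _ _ hc (hc.mul_left (hc.mul_left (hc.mul_left o.comm))),
      h.pi_mul _ _ hc (hc.mul_left (hc.mul_left o.comm)), h.pi_mul _ _ hc (hc.mul_left o.comm),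
      h.pi_mul _ _ hc o.comm, hcy]
    have hp := ht.2.2.2
    have h1 := ht.1
    generalize pi (g * z * g⁻¹) = τ at hp h1 hyinv
    refine Prod.ext (by simp [h1]) ?_
    simp only [Prod.snd_mul, ← mul_assoc]
    rw [← hyinv, mul_assoc _ τ.2, hp, mul_one]
  have hdis : Disjoint (fixS (ac (g * z * g⁻¹))) ((fixS (ac (g * z * g⁻¹))).map (ac c)) := by
    rw [Submodule.disjoint_def]
    rintro v hv ⟨w, hw, rfl⟩
    have e := (htc w).symm.trans (mem_fixS.1 hv)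
    rw [mem_fixS.1 hw] at e
    have e2 := congrArg (fun a => ac c (ac c (ac c (ac c a)))) e
    simp only [hF.pow _ Submodule.mem_top] at e2
    rw [show w = 0 from hF.eq_zero_of_iterate Submodule.mem_top (n := 3) (by norm_num) e2, map_zero]
  have hinj : Function.Injective (ac c) := fun a b e => by
    have := congrArg (ac c⁻¹) e
    rwa [h.ac_inv hc, h.ac_inv hc] at this
  have k1 : Module.finrank F2 ((fixS (ac (g * z * g⁻¹))).map (ac c)) =
      Module.finrank F2 (fixS (ac (g * z * g⁻¹))) :=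
    (Submodule.equivMapOfInjective (ac c) hinj _).finrank_eq.symm
  have k2 := Submodule.finrank_sup_add_finrank_inf_eq (fixS (ac (g * z * g⁻¹)))
    ((fixS (ac (g * z * g⁻¹))).map (ac c))
  have k3 := Submodule.finrank_le (fixS (ac (g * z * g⁻¹)) ⊔ (fixS (ac (g * z * g⁻¹))).map (ac c))
  have k4 := o.finrank_fix_mov h
  rw [hdis.eq_bot, finrank_bot] at k2
  rw [h.dim] at k3
  exact (Submodule.eq_of_le_of_finrank_le (o.mov_le h) (by omega)).ge

/-- The image of an element of the commutator part. -/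
theorem tri3_image [Finite G] (hx : Lift3 z pi x) (hxt : Commute x (g * z * g⁻¹)) {d : G}
    (hd : d ∈ Q) (hdt : Commute d (g * z * g⁻¹)) (h0 : Φ.q (co d) = 0) (h3 : tri3 x d = 1) :
    (pi (g⁻¹ * d * g)).1 = 1 ∧ sign (pi (g⁻¹ * d * g)).2 = 1 ∧
      pi (g⁻¹ * d * g) * pi (g⁻¹ * d * g) = 1 ∧
      pi (g⁻¹ * d * g) * (pi (g⁻¹ * x * g) * pi (g⁻¹ * d * g) * (pi (g⁻¹ * x * g))⁻¹) *
        (pi (g⁻¹ * x * g) * pi (g⁻¹ * x * g) * pi (g⁻¹ * d * g) *
          (pi (g⁻¹ * x * g) * pi (g⁻¹ * x * g))⁻¹) = 1 := by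
  have hz : Commute z (g * z * g⁻¹) := o.comm.symm
  have hsq : d * d = 1 := by rw [h.sq d hd, h0, zp_zero]
  have e1 : pi (g⁻¹ * 1 * g) = 1 := by rw [mul_one, inv_mul_cancel, h.pi_one]
  have a2 : pi (g⁻¹ * d * g) * pi (g⁻¹ * d * g) = 1 := by rw [← h.pi_rel_mul hdt hdt, hsq, e1]
  have c1 : Commute (x * d * x⁻¹) (g * z * g⁻¹) := (hxt.mul_left hdt).mul_left hxt.inv_left
  have c2 : Commute (x * x * d * (x * x)⁻¹) (g * z * g⁻¹) :=
    ((hxt.mul_left hxt).mul_left hdt).mul_left (hxt.mul_left hxt).inv_left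
  have a3 := congrArg (fun b => pi (g⁻¹ * b * g)) h3
  simp only [tri3] at a3
  rw [h.pi_rel_mul (hdt.mul_left c1) c2, h.pi_rel_mul hdt c1, h.pi_rel_conj hxt hdt,
    h.pi_rel_conj (hxt.mul_left hxt) hdt, h.pi_rel_mul hxt hxt, e1] at a3
  refine ⟨?_, ?_, a2, a3⟩
  · refine s3_even_two _ (congrArg Prod.fst a2) (sign_of_cube (b := (pi (g⁻¹ * x * g)).1)
      (c := (pi (g⁻¹ * x * g)).1 * (pi (g⁻¹ * x * g)).1) ?_)
    have := congrArg (fun b : P36 => sign b.1) a3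
    simpa only [Prod.fst_mul, Prod.fst_inv, map_mul, map_inv, Prod.fst_one, map_one] using this
  · refine sign_of_cube (b := (pi (g⁻¹ * x * g)).2)
      (c := (pi (g⁻¹ * x * g)).2 * (pi (g⁻¹ * x * g)).2) ?_
    have := congrArg (fun b : P36 => sign b.2) a3
    simpa only [Prod.snd_mul, Prod.snd_inv, map_mul, map_inv, Prod.snd_one, map_one] using this

theorem exists_x_commute (hx : Lift3 z pi x) (hA : CaseA ac x) (hs : sign (pi (g * z * g⁻¹)).1 = 1)
    (hle : fixS (ac (g * z * g⁻¹)) ≤ movS (ac (g * z * g⁻¹))) :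
    ∃ x', Lift3 z pi x' ∧ CaseA ac x' ∧ Commute x' (g * z * g⁻¹) := by
  obtain ⟨c, hcz, hct, hcγ⟩ := o.exists_lift_commute h hle (o.q_fix h hx hA hs hle).2 (γ := x3) (k := 1)
    (by rw [pow_succ, pow_succ, pow_one]; exact x3_cube) Base.x3_sign.1 Base.x3_sign.2
    (((commute_x3_iff _).2 hs).symm)
  have hq : c ^ 3 ∈ Q := (h.pi_ker _ (hcz.pow_left 3)).1 (by
    rw [h.pi_pow hcz, hcγ, pow_succ, pow_succ, pow_one]; exact x3_cube)
  have h4 : pi (c ^ 4) = x3 := by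
    rw [h.pi_pow hcz, hcγ, pow_succ, pow_succ, pow_succ, pow_one, x3_cube, one_mul]
  refine ⟨c ^ 4, ⟨hcz.pow_left 4, h4, ?_⟩, fun v => ?_, hct.pow_left 4⟩
  · rw [← pow_mul, show 4 * 3 = 3 * 4 from rfl, pow_mul, h.pow_four hq]
  · simp only [h.ac_eq_of_pi (hcz.pow_left 4) hx.comm (h4.trans hx.image.symm)]
    exact hA v

/-- The contradiction once the commutator part is known to lie in the other conjugate. -/
theorem false_core [Finite G] (hx : Lift3 z pi x) (hA : CaseA ac x) (hxt : Commute x (g * z * g⁻¹))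
    (hiso : ∀ a : G, a * z * a⁻¹ ∈ Q → a * z * a⁻¹ = z) (hs : sign (pi (g * z * g⁻¹)).1 = 1)
    (hle : fixS (ac (g * z * g⁻¹)) ≤ movS (ac (g * z * g⁻¹)))
    (hdd : ∀ q ∈ Q, tri3 x (ii (g * z * g⁻¹) q) = 1 → co (ii (g * z * g⁻¹) q) ≠ 0 →
      pi (g⁻¹ * ii (g * z * g⁻¹) q * g) = 1) : False := by
  have := h.finite
  have hd4 := o.fix_le_mov_iff_dim h hle
  have hW : ∀ a ∈ fixS (ac (g * z * g⁻¹)), ∀ b ∈ fixS (ac (g * z * g⁻¹)), Φ.bil a b = 0 :=
    fun a ha b hb => o.mov_orth h (hle ha) hb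
  have hxW : ∀ a ∈ fixS (ac (g * z * g⁻¹)), ac x a ∈ fixS (ac (g * z * g⁻¹)) := fun a ha =>
    mem_fixS.2 (by rw [h.ac_x_comm hx o.comm hs, mem_fixS.1 ha])
  have hiW : ∀ q ∈ Q, co (ii (g * z * g⁻¹) q) ∈ fixS (ac (g * z * g⁻¹)) :=
    fun q hq => o.mov_le h (o.co_ii_mov h hq)
  have key : ∀ q ∈ Q, co (ii (g * z * g⁻¹) q) ≠ 0 → tri3 x (ii (g * z * g⁻¹) q) = z := by
    intro q hq hne
    refine (h.tri3_cases hx hA (o.ii_mem h hq)).resolve_left fun e3 => ?_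
    have hit : Commute (ii (g * z * g⁻¹) q) (g * z * g⁻¹) :=
      o.commute_ii h hq ((o.q_fix h hx hA hs hle).1 _ (hiW q hq))
    have hQi := (h.pi_ker _ (Base.comm_rel hit)).1 (hdd q hq e3 hne)
    -- a conjugate of `z` in `Q`
    have e1 : g⁻¹ * q * g * z * (g⁻¹ * q * g)⁻¹ = z * (g⁻¹ * ii (g * z * g⁻¹) q * g) := by
      calc g⁻¹ * q * g * z * (g⁻¹ * q * g)⁻¹ = g⁻¹ * (q * (g * z * g⁻¹) * q⁻¹) * g := by group
        _ = g⁻¹ * (g * z * g⁻¹ * ii (g * z * g⁻¹) q) * g := by rw [o.t_ii h q]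
        _ = z * (g⁻¹ * ii (g * z * g⁻¹) q * g) := by group
    have e2 := hiso (g⁻¹ * q * g) (by rw [e1]; exact mul_mem h.zQ hQi)
    rw [e1, mul_eq_left] at e2
    have e4 : ii (g * z * g⁻¹) q = 1 := by
      calc ii (g * z * g⁻¹) q = g * (g⁻¹ * ii (g * z * g⁻¹) q * g) * g⁻¹ := by group
        _ = 1 := by rw [e2, mul_one, mul_inv_cancel]
    exact hne (by rw [e4, h.co_one])
  have hadd : ∀ q ∈ Q, ∀ r ∈ Q, co (ii (g * z * g⁻¹) (q * r)) =
      co (ii (g * z * g⁻¹) q) + co (ii (g * z * g⁻¹) r) := fun q hq r hr => by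
    rw [o.co_ii h (mul_mem hq hr), o.co_ii h hq, o.co_ii h hr, h.co_mul q hq r hr, map_add]
    abel
  have hB1 : ∀ q ∈ Q, ∀ r ∈ Q, co (ii (g * z * g⁻¹) q) ≠ 0 → co (ii (g * z * g⁻¹) r) ≠ 0 →
      co (ii (g * z * g⁻¹) q) + co (ii (g * z * g⁻¹) r) ≠ 0 →
      Φ.bil (co q) (co (ii (g * z * g⁻¹) r)) = 1 := by
    intro q hq r hr h1 h2 h12
    have e := key (q * r) (mul_mem hq hr) (by rw [hadd q hq r hr]; exact h12)
    rw [o.ii_mul h hq hr, h.tri3_mul hx hA hW hxW (mul_mem (o.ii_mem h hq) (o.ii_mem h hr)) (h.zp_mem _)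
        (by rw [h.co_mul _ (o.ii_mem h hq) _ (o.ii_mem h hr)]; exact add_mem (hiW q hq) (hiW r hr))
        (by rw [h.co_zp]; exact zero_mem _),
      h.tri3_mul hx hA hW hxW (o.ii_mem h hq) (o.ii_mem h hr) (hiW q hq) (hiW r hr), key q hq h1,
      key r hr h2, h.tri3_zp hx hA, h.zz, one_mul] at e
    rcases f2_cases (Φ.bil (co q) (co (ii (g * z * g⁻¹) r))) with e' | e'
    · rw [e', zp_zero] at e
      exact absurd e.symm h.es.ne
    · exact e'
  -- three independent vectors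
  obtain ⟨a, ha, ha0⟩ := Submodule.exists_mem_ne_zero_of_ne_bot (p := fixS (ac (g * z * g⁻¹)))
    fun e => by rw [e, finrank_bot] at hd4; omega
  obtain ⟨b, hb, hb'⟩ : ∃ b ∈ fixS (ac (g * z * g⁻¹)), b ∉ Submodule.span F2 ({a} : Set V) := by
    refine SetLike.not_le_iff_exists.1 fun hle2 => ?_
    have := Submodule.finrank_mono hle2
    rw [finrank_span_singleton ha0] at this
    omega
  obtain ⟨c, hc, hc'⟩ : ∃ c ∈ fixS (ac (g * z * g⁻¹)), c ∉ Submodule.span F2 ({a, b} : Set V) := by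
    refine SetLike.not_le_iff_exists.1 fun hle2 => ?_
    have h1 := Submodule.finrank_mono hle2
    have h2 : Module.finrank F2 (Submodule.span F2 ({a, b} : Set V)) ≤ 2 := by
      classical
      exact le_trans (finrank_span_le_card _) (by simp only [Set.toFinset_insert, Set.toFinset_singleton]; exact Finset.card_le_two)
    omega
  have ham : a ∈ Submodule.span F2 ({a, b} : Set V) := Submodule.subset_span (Or.inl rfl)
  have hbm : b ∈ Submodule.span F2 ({a, b} : Set V) := Submodule.subset_span (Or.inr rfl)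
  have cancel : ∀ {p r : V}, p + r = 0 → r = p := fun {p r} e => by
    rw [← zero_add r, ← add_self_eq_zero' p, add_assoc, e, add_zero]
  obtain ⟨qa, hqa, rfl⟩ := o.mov_eq_co_ii h (hle ha)
  obtain ⟨qb, hqb, rfl⟩ := o.mov_eq_co_ii h (hle hb)
  obtain ⟨qc, hqc, rfl⟩ := o.mov_eq_co_ii h (hle hc)
  have hb0 : co (ii (g * z * g⁻¹) qb) ≠ 0 := fun e => hb' (e ▸ zero_mem _)
  have hc0 : co (ii (g * z * g⁻¹) qc) ≠ 0 := fun e => hc' (e ▸ zero_mem _)
  have hbc : co (ii (g * z * g⁻¹) qb) + co (ii (g * z * g⁻¹) qc) ≠ 0 := fun e => hc' (cancel e ▸ hbm)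
  have habc : co (ii (g * z * g⁻¹) qa) + (co (ii (g * z * g⁻¹) qb) + co (ii (g * z * g⁻¹) qc)) ≠ 0 :=
    fun e => hc' (by
      rw [← add_assoc] at e
      rw [cancel e]
      exact add_mem ham hbm)
  have e1 := hB1 qa hqa qb hqb ha0 hb0
    (fun e => hb' (cancel e ▸ Submodule.mem_span_singleton_self _))
  have e2 := hB1 qa hqa qc hqc ha0 hc0 (fun e => hc' (cancel e ▸ ham))
  have e3 := hB1 qa hqa (qb * qc) (mul_mem hqb hqc) ha0 (by rw [hadd qb hqb qc hqc]; exact hbc)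
    (by rw [hadd qb hqb qc hqc]; exact habc)
  rw [hadd qb hqb qc hqc, map_add, e1, e2] at e3
  exact absurd e3 (by decide)

theorem false_of_dt_dt [Finite G] (hx : Lift3 z pi x) (hA : CaseA ac x)
    (hiso : ∀ a : G, a * z * a⁻¹ ∈ Q → a * z * a⁻¹ = z)
    (ht : Dt (pi (g * z * g⁻¹))) (hz0 : Dt (pi (g⁻¹ * z * g))) : False := by
  have hle := o.fix_le_of_dt h hx hA ht
  obtain ⟨x', hx', hA', hxt⟩ := o.exists_x_commute h hx hA ht.par hle
  refine o.false_core h hx' hA' hxt hiso ht.par hle fun q hq e3 _ => ?_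
  have hv : co (ii (g * z * g⁻¹) q) ∈ fixS (ac (g * z * g⁻¹)) := o.mov_le h (o.co_ii_mov h hq)
  have h0 := (o.q_fix h hx' hA' ht.par hle).1 _ hv
  obtain ⟨a1, -, a2, a3⟩ := o.tri3_image h hx' hxt (o.ii_mem h hq) (o.commute_ii h hq h0) h0 e3
  have hz : Commute z (g * z * g⁻¹) := o.comm.symm
  have hγ : pi (g⁻¹ * x' * g) * pi (g⁻¹ * x' * g) * pi (g⁻¹ * x' * g) = 1 := by
    rw [← h.pi_rel_mul hxt hxt, ← h.pi_rel_mul (hxt.mul_left hxt) hxt,
      show x' * x' * x' = x' ^ 3 by rw [pow_succ, pow_succ, pow_one], hx'.cube, mul_one, inv_mul_cancel,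
      h.pi_one]
  have hcom : pi (g⁻¹ * x' * g) * pi (g⁻¹ * z * g) = pi (g⁻¹ * z * g) * pi (g⁻¹ * x' * g) := by
    rw [← h.pi_rel_mul hxt hz, ← h.pi_rel_mul hz hxt, hx'.comm.eq]
  generalize pi (g⁻¹ * ii (g * z * g⁻¹) q * g) = a at a1 a2 a3 ⊢
  have hca : pi (g⁻¹ * x' * g) * a = a * pi (g⁻¹ * x' * g) := by
    have hax : a * x3 = x3 * a := (commute_x3_iff a).2 (by rw [a1, map_one])
    rcases hz0.three hγ hcom with e | e | e <;> rw [e]
    · simp
    · exact hax.symm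
    · rw [mul_assoc, ← hax, ← mul_assoc, ← hax, mul_assoc]
  rw [hca, mul_inv_cancel_right, mul_assoc (pi (g⁻¹ * x' * g)), hca, ← mul_assoc (pi (g⁻¹ * x' * g)),
    hca, mul_assoc a (pi (g⁻¹ * x' * g)), mul_inv_cancel_right, a2, one_mul] at a3
  exact a3

theorem false_of_fix_le [Finite G] (hx : Lift3 z pi x) (hA : CaseA ac x)
    (hiso : ∀ a : G, a * z * a⁻¹ ∈ Q → a * z * a⁻¹ = z) (hs : sign (pi (g * z * g⁻¹)).1 = 1)
    (hle : fixS (ac (g * z * g⁻¹)) ≤ movS (ac (g * z * g⁻¹))) : False := by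
  obtain ⟨x', hx', hA', hxt⟩ := o.exists_x_commute h hx hA hs hle
  refine o.false_core h hx' hA' hxt hiso hs hle fun q hq e3 _ => ?_
  by_contra hne
  have h0 := (o.q_fix h hx' hA' hs hle).1 _ (o.mov_le h (o.co_ii_mov h hq))
  have hit := o.commute_ii h hq h0
  obtain ⟨a1, a1', a2, -⟩ := o.tri3_image h hx' hxt (o.ii_mem h hq) hit h0 e3
  have hD : Dt (pi (g⁻¹ * ii (g * z * g⁻¹) q * g)) :=
    ⟨a1, a1', fun e => hne (Prod.ext a1 e), congrArg Prod.snd a2⟩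
  -- the pair of the two conjugates
  have hct : Commute (g * z * g⁻¹ * ii (g * z * g⁻¹) q) (g * z * g⁻¹) :=
    (Commute.refl _).mul_left hit
  have e1 : g⁻¹ * q * g * z * (g⁻¹ * q * g)⁻¹ = g⁻¹ * (g * z * g⁻¹ * ii (g * z * g⁻¹) q) * g := by
    rw [o.t_ii h q]; group
  have e2 : pi (g⁻¹ * q * g * z * (g⁻¹ * q * g)⁻¹) = pi (g⁻¹ * ii (g * z * g⁻¹) q * g) := by
    rw [e1, h.pi_rel_mul (Commute.refl _) hit, show g⁻¹ * (g * z * g⁻¹) * g = z by group,
      (h.pi_ker z (Commute.refl z)).2 h.zQ, one_mul]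
  have o' : Out z Q (g⁻¹ * q * g) :=
    ⟨by rw [e1]; exact Base.comm_rel hct, fun hm => hne (by
      rw [← e2]
      exact (h.pi_ker _ (by rw [e1]; exact Base.comm_rel hct)).2 hm)⟩
  have e3' : (g⁻¹ * q * g)⁻¹ * z * (g⁻¹ * q * g) = g⁻¹ * q * g * z * (g⁻¹ * q * g)⁻¹ := by
    have hq' : q⁻¹ = q * zp z (Φ.q (co q)) := by
      refine inv_eq_of_mul_eq_one_right ?_
      rw [← mul_assoc, h.sq q hq, ← zp_add h.zz, CharTwo.add_self_eq_zero, zp_zero]
    have hc : Commute (zp z (Φ.q (co q))) (g * z * g⁻¹) := (Commute.zp_right o.comm _).symm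
    calc (g⁻¹ * q * g)⁻¹ * z * (g⁻¹ * q * g) = g⁻¹ * (q⁻¹ * (g * z * g⁻¹) * q) * g := by group
      _ = g⁻¹ * (q * (zp z (Φ.q (co q)) * (g * z * g⁻¹)) * q) * g := by
        rw [hq']; simp only [mul_assoc]
      _ = g⁻¹ * (q * (g * z * g⁻¹) * (zp z (Φ.q (co q)) * q)) * g := by
        rw [hc.eq]; simp only [mul_assoc]
      _ = g⁻¹ * (q * (g * z * g⁻¹) * q⁻¹) * g := by
        rw [((Commute.zp_right (h.commQz hq) _).symm).eq, ← hq']
      _ = g⁻¹ * q * g * z * (g⁻¹ * q * g)⁻¹ := by group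
  exact o'.false_of_dt_dt h hx hA hiso (e2.symm ▸ hD) (by rw [e3', e2]; exact hD)

/-- In case A no conjugate outside `Q` centralises the three-element modulo `Q`. -/
theorem false_of_caseA [Finite G] (hx : Lift3 z pi x) (hA : CaseA ac x)
    (hiso : ∀ a : G, a * z * a⁻¹ ∈ Q → a * z * a⁻¹ = z) (hs : sign (pi (g * z * g⁻¹)).1 = 1) :
    False := by
  have := h.finite
  have := h.finiteV
  by_cases hle : fixS (ac (g * z * g⁻¹)) ≤ movS (ac (g * z * g⁻¹))
  · exact o.false_of_fix_le h hx hA hiso hs hle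
  have hF := h.fpf3_top hx hA
  have hev := hF.even (W := movS (ac (g * z * g⁻¹))) le_top (fun w hw => by
    obtain ⟨a, rfl⟩ := hw
    refine ⟨ac x a, ?_⟩
    show ac x a + ac (g * z * g⁻¹) (ac x a) = ac x (a + ac (g * z * g⁻¹) a)
    rw [map_add, h.ac_x_comm hx o.comm hs])
  obtain ⟨k, hk⟩ := hev
  have hlt : movS (ac (g * z * g⁻¹)) < fixS (ac (g * z * g⁻¹)) :=
    lt_of_le_of_ne (o.mov_le h) fun e => hle (le_of_eq e.symm)
  have k1 := Submodule.finrank_lt_finrank_of_lt hlt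
  have k2 := o.finrank_fix_mov h
  have k3 := o.finrank_kerS h
  have hk0 : k ≠ 0 := fun e => o.notQ (h.faithful _ o.comm fun v => by
    subst e
    have hb : movS (ac (g * z * g⁻¹)) = ⊥ := Submodule.finrank_eq_zero.1 hk
    have hv : v + ac (g * z * g⁻¹) v ∈ movS (ac (g * z * g⁻¹)) := ⟨v, rfl⟩
    rw [hb, Submodule.mem_bot] at hv
    rw [← zero_add (ac _ v), ← add_self_eq_zero' v, add_assoc, hv, add_zero])
  obtain ⟨v, hv, hv1⟩ : ∃ v ∈ h.kerS g, Φ.q v = 1 := by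
    by_contra hcon
    have hTS : Φ.TS (h.kerS g) := fun v hv => (f2_cases _).resolve_right fun e => hcon ⟨v, hv, e⟩
    have := hTS.two_finrank_le Φ
    rw [h.dim] at this
    omega
  obtain ⟨q, hq, rfl, hc⟩ := hv
  have d0 := o.dt_partner h hq hc (by rw [h.sq q hq, hv1, zp_one])
  have o' := o.symm h
  have d0' : Dt (pi (g⁻¹ * z * g⁻¹⁻¹)) := by rwa [inv_inv]
  exact o'.false_of_fix_le h hx hA hiso d0'.par (o'.fix_le_of_dt h hx hA d0')

end Out

end Cfsg.Agent.Lib.ExtraNine31
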