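import Cfsg.Agent.Lib.ExtraNine31.Split

/-!
# A conjugate of the involution commuting with it

Owner: helper31.
-/

set_option autoImplicit false
set_option linter.unusedSectionVars false

namespace Cfsg.Agent.Lib.ExtraNine31

open Cfsg.Agent.Lib.LargeExtraspecial.Basic
open Equiv.Perm (sign)

variable {G : Type*} [Group G]

/-- A conjugate of `z` in `C(z)` outside `Q`. -/
structure Out (z : G) (Q : Subgroup G) (g : G) : Prop where
  comm : Commute (g * z * g⁻¹) z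
  notQ : g * z * g⁻¹ ∉ Q

/-- The commutator of `q` with an involution `t`. -/
def ii (t q : G) : G := t * q * t * q⁻¹

namespace Base

variable {V : Type*} [AddCommGroup V] [Module F2 V] {z : G} {Q : Subgroup G} {Φ : QF V}
  {co : G → V} {ac : G → V →ₗ[F2] V} {pi : G → P36}
  (h : Base z Q Φ co ac pi)
include h

/-- Membership in the conjugates of `Q` is symmetric. -/
theorem mem_symm [Finite G] {g : G} (hg : g * z * g⁻¹ ∈ Q) : g⁻¹ * z * g ∈ Q := by
  by_cases e : g * z * g⁻¹ = z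
  · have : g⁻¹ * z * g = z := by
      calc g⁻¹ * z * g = g⁻¹ * (g * z * g⁻¹) * g := by rw [e]
        _ = z := by group
    rw [this]
    exact h.zQ
  · exact LargeExtra.TwoConjugate.mem_conj.1 (LargeExtra.TwoConjugate.z_mem
      (⟨h.es, h.cent, h.norm, hg, e, by rw [h.cardQ]; norm_num⟩ : LargeExtra.TwoConjugate.Setting Q z g))

theorem conj_sq (g : G) : g * z * g⁻¹ * (g * z * g⁻¹) = 1 := by
  rw [conj_mul, h.zz, mul_one, mul_inv_cancel]

omit h in
theorem comm_rel {g q : G} (hq : Commute q (g * z * g⁻¹)) : Commute (g⁻¹ * q * g) z := by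
  have e := hq.map (MulAut.conj g⁻¹).toMonoidHom
  simpa [mul_assoc] using e

omit h in
theorem rel_mul (g a b : G) : g⁻¹ * (a * b) * g = g⁻¹ * a * g * (g⁻¹ * b * g) := by group

theorem pi_rel_mul {g a b : G} (ha : Commute a (g * z * g⁻¹)) (hb : Commute b (g * z * g⁻¹)) :
    pi (g⁻¹ * (a * b) * g) = pi (g⁻¹ * a * g) * pi (g⁻¹ * b * g) := by
  rw [rel_mul, h.pi_mul _ _ (comm_rel ha) (comm_rel hb)]

theorem pi_rel_conj {g a b : G} (ha : Commute a (g * z * g⁻¹)) (hb : Commute b (g * z * g⁻¹)) :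
    pi (g⁻¹ * (a * b * a⁻¹) * g) = pi (g⁻¹ * a * g) * pi (g⁻¹ * b * g) * (pi (g⁻¹ * a * g))⁻¹ := by
  rw [← h.pi_conj (comm_rel ha) (comm_rel hb)]
  congr 1
  group

/-- The fixed vectors with a centralised lift. -/
def kerS (g : G) : Submodule F2 V where
  carrier := {v | ∃ q ∈ Q, co q = v ∧ Commute q (g * z * g⁻¹)}
  zero_mem' := ⟨1, one_mem Q, h.co_one, Commute.one_left _⟩
  add_mem' := fun ⟨q, hq, e, hc⟩ ⟨r, hr, e', hc'⟩ =>
    ⟨q * r, mul_mem hq hr, by rw [h.co_mul q hq r hr, e, e'], hc.mul_left hc'⟩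
  smul_mem' := fun c v hv => by
    rcases f2_cases c with rfl | rfl
    · rw [zero_smul]; exact ⟨1, one_mem Q, h.co_one, Commute.one_left _⟩
    · rw [one_smul]; exact hv

end Base

namespace Out

variable {V : Type*} [AddCommGroup V] [Module F2 V] {z : G} {Q : Subgroup G} {Φ : QF V}
  {co : G → V} {ac : G → V →ₗ[F2] V} {pi : G → P36} {g : G}
  (o : Out z Q g) (h : Base z Q Φ co ac pi)
include o h

theorem symm [Finite G] : Out z Q g⁻¹ := by
  refine ⟨?_, fun hm => o.notQ ?_⟩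
  · have := Base.comm_rel (z := z) o.comm.symm
    rw [inv_inv]
    exact this
  · have := h.mem_symm hm
    simpa using this

theorem z_notQ [Finite G] : g⁻¹ * z * g ∉ Q := by
  have := (o.symm h).notQ
  rwa [inv_inv] at this

theorem ne_z : g * z * g⁻¹ ≠ z := fun e => o.notQ (e.symm ▸ h.zQ)

theorem tau_ne : pi (g * z * g⁻¹) ≠ 1 := fun e => o.notQ ((h.pi_ker _ o.comm).1 e)

theorem tau_sq : pi (g * z * g⁻¹) * pi (g * z * g⁻¹) = 1 := by
  rw [← h.pi_mul _ _ o.comm o.comm, h.conj_sq, h.pi_one]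

theorem tau_fst (hs : sign (pi (g * z * g⁻¹)).1 = 1) : (pi (g * z * g⁻¹)).1 = 1 :=
  s3_even_two _ (congrArg Prod.fst (o.tau_sq h)) hs

theorem tt (v : V) : ac (g * z * g⁻¹) (ac (g * z * g⁻¹) v) = v := by
  rw [← h.ac_mul o.comm o.comm, h.conj_sq, h.ac_one]

/-- An element of `Q` lying in the other conjugate squares to one. -/
theorem sq_one [Finite G] {q : G} (hq : q ∈ Q) (hI : g⁻¹ * q * g ∈ Q) : q * q = 1 := by
  rcases h.sqQ hq with e | e
  · exact e
  · exfalso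
    refine o.z_notQ h ?_
    rw [← e, Base.rel_mul]
    exact mul_mem hI hI

/-- An element of order four of `Q` centralising the conjugate makes the partner an involution of `A₆`. -/
theorem dt_partner [Finite G] {q : G} (hq : q ∈ Q) (hc : Commute q (g * z * g⁻¹)) (e : q * q = z) :
    Dt (pi (g⁻¹ * z * g)) := by
  have hz : Commute z (g * z * g⁻¹) := o.comm.symm
  have e1 : pi (g⁻¹ * q * g) * pi (g⁻¹ * q * g) = pi (g⁻¹ * z * g) := by
    rw [← h.pi_rel_mul hc hc, e]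
  rw [← e1]
  refine dt_of_sq ?_ ?_
  · rw [e1, ← h.pi_rel_mul hz hz, h.zz, mul_one, inv_mul_cancel, h.pi_one]
  · rw [e1]
    exact fun e2 => o.z_notQ h ((h.pi_ker _ (Base.comm_rel hz)).1 e2)

theorem co_conj_t {q : G} (hq : q ∈ Q) :
    co (g * z * g⁻¹ * q * (g * z * g⁻¹)) = ac (g * z * g⁻¹) (co q) := by
  rw [← h.conj _ o.comm q hq, inv_eq_of_mul_eq_one_left (h.conj_sq g)]

theorem conj_t_mem {q : G} (hq : q ∈ Q) : g * z * g⁻¹ * q * (g * z * g⁻¹) ∈ Q := by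
  have := h.norm _ o.comm q hq
  rwa [inv_eq_of_mul_eq_one_left (h.conj_sq g)] at this

theorem ii_mem {q : G} (hq : q ∈ Q) : ii (g * z * g⁻¹) q ∈ Q := mul_mem (o.conj_t_mem h hq) (inv_mem hq)

theorem co_ii {q : G} (hq : q ∈ Q) :
    co (ii (g * z * g⁻¹) q) = ac (g * z * g⁻¹) (co q) + co q := by
  rw [ii, h.co_mul _ (o.conj_t_mem h hq) _ (inv_mem hq), o.co_conj_t h hq, h.co_inv hq]

theorem t_ii (q : G) : g * z * g⁻¹ * ii (g * z * g⁻¹) q = q * (g * z * g⁻¹) * q⁻¹ := by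
  have e := h.conj_sq g
  unfold ii
  generalize g * z * g⁻¹ = t at e ⊢
  calc t * (t * q * t * q⁻¹) = t * t * (q * t * q⁻¹) := by group
    _ = q * t * q⁻¹ := by rw [e, one_mul]

theorem t_ii_t (q : G) :
    g * z * g⁻¹ * ii (g * z * g⁻¹) q * (g * z * g⁻¹) = (ii (g * z * g⁻¹) q)⁻¹ := by
  have e := h.conj_sq g
  rw [o.t_ii h q]
  unfold ii
  generalize g * z * g⁻¹ = t at e ⊢
  rw [mul_inv_rev, mul_inv_rev, mul_inv_rev, inv_inv, inv_eq_of_mul_eq_one_left e]
  group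

theorem commute_ii {q : G} (hq : q ∈ Q) (h0 : Φ.q (co (ii (g * z * g⁻¹) q)) = 0) :
    Commute (ii (g * z * g⁻¹) q) (g * z * g⁻¹) := by
  have e := h.sq _ (o.ii_mem h hq)
  rw [h0, zp_zero] at e
  have e1 := o.t_ii_t h q
  rw [inv_eq_of_mul_eq_one_left e] at e1
  show _ * _ = _ * _
  calc ii (g * z * g⁻¹) q * (g * z * g⁻¹)
      = g * z * g⁻¹ * (g * z * g⁻¹) * (ii (g * z * g⁻¹) q * (g * z * g⁻¹)) := by rw [h.conj_sq, one_mul]
    _ = g * z * g⁻¹ * (g * z * g⁻¹ * ii (g * z * g⁻¹) q * (g * z * g⁻¹)) := by simp only [mul_assoc]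
    _ = g * z * g⁻¹ * ii (g * z * g⁻¹) q := by rw [e1]

/-- Multiplicativity of the commutators up to the form. -/
theorem ii_mul {q r : G} (hq : q ∈ Q) (hr : r ∈ Q) :
    ii (g * z * g⁻¹) (q * r) = ii (g * z * g⁻¹) q * ii (g * z * g⁻¹) r *
      zp z (Φ.bil (co q) (co (ii (g * z * g⁻¹) r))) := by
  rw [mul_assoc (ii (g * z * g⁻¹) q), ← h.comm_Q hq (o.ii_mem h hr)]
  have e : g * z * g⁻¹ * (g * z * g⁻¹) = 1 := h.conj_sq g
  unfold ii
  generalize g * z * g⁻¹ = t at e ⊢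
  calc t * (q * r) * t * (q * r)⁻¹ = t * q * (t * t) * r * t * r⁻¹ * q⁻¹ := by rw [e]; group
    _ = t * q * t * q⁻¹ * (q * (t * r * t * r⁻¹) * q⁻¹) := by group

/-- A vector fixed by the conjugate: its lifts commute or are moved by `z`. -/
theorem fixed_cases {q : G} (hq : q ∈ Q) (hv : ac (g * z * g⁻¹) (co q) = co q) :
    Commute q (g * z * g⁻¹) ∨ g * z * g⁻¹ * q * (g * z * g⁻¹) = q * z := by
  obtain ⟨a, ha⟩ := h.co_eq hq (o.conj_t_mem h hq) (by rw [o.co_conj_t h hq, hv])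
  rcases zp_cases z a with e | e <;> rw [e] at ha
  · left
    rw [mul_one] at ha
    show q * (g * z * g⁻¹) = g * z * g⁻¹ * q
    conv_lhs => rw [← ha, mul_assoc, h.conj_sq, mul_one]
  · exact Or.inr ha

end Out

/-- The fixed space of an element. -/
def fixS {V : Type*} [AddCommGroup V] [Module F2 V] (a : V →ₗ[F2] V) : Submodule F2 V :=
  LinearMap.ker (LinearMap.id + a)

/-- The commutator space of an element. -/
def movS {V : Type*} [AddCommGroup V] [Module F2 V] (a : V →ₗ[F2] V) : Submodule F2 V :=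
  LinearMap.range (LinearMap.id + a)

theorem mem_fixS {V : Type*} [AddCommGroup V] [Module F2 V] {a : V →ₗ[F2] V} {v : V} :
    v ∈ fixS a ↔ a v = v := by
  show v + a v = 0 ↔ _
  constructor
  · intro e
    rw [← zero_add (a v), ← add_self_eq_zero' v, add_assoc, e, add_zero]
  · intro e
    rw [e, add_self_eq_zero']

namespace Out

variable {V : Type*} [AddCommGroup V] [Module F2 V] {z : G} {Q : Subgroup G} {Φ : QF V}
  {co : G → V} {ac : G → V →ₗ[F2] V} {pi : G → P36} {g : G}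
  (o : Out z Q g) (h : Base z Q Φ co ac pi)
include o h

theorem finrank_fix_mov : Module.finrank F2 (movS (ac (g * z * g⁻¹))) +
    Module.finrank F2 (fixS (ac (g * z * g⁻¹))) = 8 := by
  have := h.finite
  rw [← h.dim]
  exact LinearMap.finrank_range_add_finrank_ker _

theorem mov_le : movS (ac (g * z * g⁻¹)) ≤ fixS (ac (g * z * g⁻¹)) := by
  rintro _ ⟨v, rfl⟩
  rw [mem_fixS]
  show ac (g * z * g⁻¹) (v + ac (g * z * g⁻¹) v) = v + ac (g * z * g⁻¹) v
  rw [map_add, o.tt h, add_comm]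

theorem mov_orth {v w : V} (hv : v ∈ movS (ac (g * z * g⁻¹))) (hw : w ∈ fixS (ac (g * z * g⁻¹))) :
    Φ.bil v w = 0 := by
  obtain ⟨a, rfl⟩ := hv
  show Φ.bil (a + ac (g * z * g⁻¹) a) w = 0
  rw [map_add, LinearMap.add_apply]
  conv_lhs => arg 2; rw [← mem_fixS.1 hw, h.ac_bil o.comm]
  exact CharTwo.add_self_eq_zero _

theorem mov_eq_co_ii {v : V} (hv : v ∈ movS (ac (g * z * g⁻¹))) :
    ∃ q ∈ Q, co (ii (g * z * g⁻¹) q) = v := by
  obtain ⟨a, rfl⟩ := hv
  obtain ⟨q, hq, rfl⟩ := h.co_surj a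
  exact ⟨q, hq, by rw [o.co_ii h hq, add_comm]; rfl⟩

theorem co_ii_mov {q : G} (hq : q ∈ Q) :
    co (ii (g * z * g⁻¹) q) ∈ movS (ac (g * z * g⁻¹)) :=
  ⟨co q, by rw [o.co_ii h hq, add_comm]; rfl⟩

theorem mov_q {v : V} (hv : v ∈ movS (ac (g * z * g⁻¹))) (hw : ∀ q ∈ Q, co q = v →
    Commute q (g * z * g⁻¹)) : Φ.q v = 0 := by
  obtain ⟨q, hq, rfl⟩ := o.mov_eq_co_ii h hv
  have e1 := o.t_ii_t h q
  rw [← (hw _ (o.ii_mem h hq) rfl).eq, mul_assoc, h.conj_sq, mul_one] at e1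
  have e := h.sq _ (o.ii_mem h hq)
  rw [eq_inv_iff_mul_eq_one.1 e1] at e
  exact h.zp_inj (e.symm.trans (zp_zero z).symm)

theorem kerS_commute {v : V} (hv : v ∈ h.kerS g) {q : G} (hq : q ∈ Q) (e : co q = v) :
    Commute q (g * z * g⁻¹) := by
  obtain ⟨r, hr, e', hc⟩ := hv
  obtain ⟨a, ha⟩ := h.co_eq hr hq (e'.trans e.symm)
  rw [ha]
  exact hc.mul_left (Commute.zp_right o.comm a).symm

theorem kerS_le : h.kerS g ≤ fixS (ac (g * z * g⁻¹)) := by
  rintro _ ⟨q, hq, rfl, hc⟩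
  rw [mem_fixS, ← o.co_conj_t h hq, ← hc.eq, mul_assoc, h.conj_sq, mul_one]

theorem add_mem_kerS {v w : V} (hv : v ∈ fixS (ac (g * z * g⁻¹))) (hw : w ∈ fixS (ac (g * z * g⁻¹)))
    (hvK : v ∉ h.kerS g) (hwK : w ∉ h.kerS g) : v + w ∈ h.kerS g := by
  obtain ⟨q, hq, rfl⟩ := h.co_surj v
  obtain ⟨r, hr, rfl⟩ := h.co_surj w
  refine ⟨q * r, mul_mem hq hr, h.co_mul q hq r hr, ?_⟩
  rcases o.fixed_cases h hq (mem_fixS.1 hv) with e | e
  · exact absurd ⟨q, hq, rfl, e⟩ hvK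
  rcases o.fixed_cases h hr (mem_fixS.1 hw) with e' | e'
  · exact absurd ⟨r, hr, rfl, e'⟩ hwK
  have et := h.conj_sq g
  generalize g * z * g⁻¹ = t at e e' et ⊢
  have e2 : t * (q * r) * t = q * r := by
    calc t * (q * r) * t = t * q * (t * t) * r * t := by rw [et]; group
      _ = t * q * t * (t * r * t) := by group
      _ = q * z * (r * z) := by rw [e, e']
      _ = q * r * (z * z) := by rw [mul_assoc q z, ← mul_assoc z r, ← (h.commQz hr).eq]; group
      _ = q * r := by rw [h.zz, mul_one]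
  show q * r * t = t * (q * r)
  conv_lhs => rw [← e2, mul_assoc, et, mul_one]

theorem finrank_kerS : Module.finrank F2 (fixS (ac (g * z * g⁻¹))) ≤
    Module.finrank F2 (h.kerS g) + 1 := by
  have := h.finite
  by_cases hle : fixS (ac (g * z * g⁻¹)) ≤ h.kerS g
  · exact le_trans (Submodule.finrank_mono hle) (Nat.le_succ _)
  obtain ⟨v, hv, hvK⟩ := SetLike.not_le_iff_exists.1 hle
  have key : fixS (ac (g * z * g⁻¹)) ≤ h.kerS g ⊔ Submodule.span F2 {v} := by
    intro w hw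
    by_cases hwK : w ∈ h.kerS g
    · exact Submodule.mem_sup_left hwK
    refine Submodule.mem_sup.2 ⟨v + w, o.add_mem_kerS h hv hw hvK hwK, v,
      Submodule.mem_span_singleton_self v, ?_⟩
    rw [add_comm v, add_assoc, add_self_eq_zero', add_zero]
  refine le_trans (Submodule.finrank_mono key) (le_trans (Submodule.finrank_add_le_finrank_add_finrank _ _) ?_)
  exact Nat.add_le_add_left (finrank_span_le_card ({v} : Set V) |>.trans (by simp)) _

/-- An element of odd order of the image centralising the conjugate lifts into its centraliser. -/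
theorem exists_lift_commute (hCW : fixS (ac (g * z * g⁻¹)) ≤ movS (ac (g * z * g⁻¹)))
    (hK : fixS (ac (g * z * g⁻¹)) ≤ h.kerS g) {γ : P36} {k : ℕ} (hγ : γ ^ (2 * k + 1) = 1)
    (h1 : sign γ.1 = 1) (h2 : sign γ.2 = 1)
    (hc : γ * pi (g * z * g⁻¹) = pi (g * z * g⁻¹) * γ) :
    ∃ c, Commute c z ∧ Commute c (g * z * g⁻¹) ∧ pi c = γ := by
  obtain ⟨c, hcz, hcγ⟩ := h.pi_surj γ h1 h2
  have hct : Commute (c * (g * z * g⁻¹) * c⁻¹) z := (hcz.mul_left o.comm).mul_left hcz.inv_left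
  -- the difference lies in `Q`
  have hr : g * z * g⁻¹ * (c * (g * z * g⁻¹) * c⁻¹) ∈ Q := by
    rw [← h.pi_ker _ (o.comm.mul_left hct), h.pi_mul _ _ o.comm hct, h.pi_conj hcz o.comm, hcγ, hc,
      mul_inv_cancel_right]
    exact o.tau_sq h
  have hfix : ac (g * z * g⁻¹) (co (g * z * g⁻¹ * (c * (g * z * g⁻¹) * c⁻¹))) =
      co (g * z * g⁻¹ * (c * (g * z * g⁻¹) * c⁻¹)) := by
    conv_rhs => rw [← h.co_inv hr]
    rw [← o.co_conj_t h hr]
    congr 1
    have et := h.conj_sq g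
    generalize g * z * g⁻¹ = t at et ⊢
    rw [mul_inv_rev, mul_inv_rev, mul_inv_rev, inv_inv, inv_eq_of_mul_eq_one_left et]
    calc t * (t * (c * t * c⁻¹)) * t = t * t * (c * t * c⁻¹ * t) := by group
      _ = c * t * c⁻¹ * t := by rw [et, one_mul]
      _ = c * (t * c⁻¹) * t := by group
  obtain ⟨q, hq, hqv⟩ := o.mov_eq_co_ii h (hCW (mem_fixS.2 hfix))
  obtain ⟨a, ha⟩ := h.co_eq (o.ii_mem h hq) hr hqv
  have hcq : Commute (q⁻¹ * c) z := (h.commQz hq).inv_left.mul_left hcz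
  have hconj : q⁻¹ * c * (g * z * g⁻¹) * (q⁻¹ * c)⁻¹ = g * z * g⁻¹ * zp z a := by
    have e1 : c * (g * z * g⁻¹) * c⁻¹ = q * (g * z * g⁻¹) * q⁻¹ * zp z a := by
      rw [← o.t_ii h q, mul_assoc (g * z * g⁻¹) (ii _ _), ← ha, ← mul_assoc (g * z * g⁻¹) (g * z * g⁻¹),
        h.conj_sq, one_mul]
    have e2 : Commute q (zp z a) := Commute.zp_right (h.commQz hq) a
    calc q⁻¹ * c * (g * z * g⁻¹) * (q⁻¹ * c)⁻¹ = q⁻¹ * (c * (g * z * g⁻¹) * c⁻¹) * q := by group
      _ = q⁻¹ * (q * (g * z * g⁻¹) * q⁻¹ * zp z a) * q := by rw [e1]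
      _ = g * z * g⁻¹ * q⁻¹ * (zp z a * q) := by group
      _ = g * z * g⁻¹ * q⁻¹ * (q * zp z a) := by rw [e2.eq]
      _ = g * z * g⁻¹ * zp z a := by group
  have hpow : ∀ n, (q⁻¹ * c) ^ n * (g * z * g⁻¹) * ((q⁻¹ * c) ^ n)⁻¹ = g * z * g⁻¹ * zp z a ^ n := by
    intro n
    have hcm := Commute.zp_right hcq a
    generalize q⁻¹ * c = d at hconj hcm ⊢
    generalize g * z * g⁻¹ = t at hconj ⊢
    generalize zp z a = e at hconj hcm ⊢
    induction n with
    | zero => simp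
    | succ n ih =>
      rw [pow_succ']
      calc d * d ^ n * t * (d * d ^ n)⁻¹ = d * (d ^ n * t * (d ^ n)⁻¹) * d⁻¹ := by
            simp only [mul_inv_rev, mul_assoc]
        _ = d * (t * e ^ n) * d⁻¹ := by rw [ih]
        _ = d * t * (e ^ n * d⁻¹) := by simp only [mul_assoc]
        _ = d * t * (d⁻¹ * e ^ n) := by rw [((hcm.pow_right n).inv_left).eq]
        _ = d * t * d⁻¹ * e ^ n := by simp only [mul_assoc]
        _ = t * e * e ^ n := by rw [hconj]
        _ = t * e ^ (n + 1) := by rw [mul_assoc, ← pow_succ']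
  have hpiq : pi (q⁻¹ * c) = γ := by
    rw [h.pi_mul _ _ (h.commQz hq).inv_left hcz, (h.pi_ker _ (h.commQz hq).inv_left).2 (inv_mem hq),
      one_mul, hcγ]
  have ha1 : zp z a = 1 := by
    rcases zp_cases z a with e | e
    · exact e
    exfalso
    have hn := hpow (2 * k + 1)
    rw [e, pow_succ z, pow_mul, sq, h.zz, one_pow, one_mul] at hn
    have hN : (q⁻¹ * c) ^ (2 * k + 1) ∈ Q := (h.pi_ker _ (hcq.pow_left _)).1 (by
      rw [h.pi_pow hcq, hpiq, hγ])
    generalize (q⁻¹ * c) ^ (2 * k + 1) = r at hn hN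
    have hv : ac (g * z * g⁻¹) (co r) = co r := by
      have e1 := congrArg (fun b => g * z * g⁻¹ * b * r) hn
      have e2 : g * z * g⁻¹ * r * (g * z * g⁻¹) = z * r := by
        calc g * z * g⁻¹ * r * (g * z * g⁻¹) = g * z * g⁻¹ * (r * (g * z * g⁻¹) * r⁻¹) * r := by group
          _ = g * z * g⁻¹ * (g * z * g⁻¹ * z) * r := e1
          _ = z * r := by rw [← mul_assoc, h.conj_sq, one_mul]
      rw [← o.co_conj_t h hN, e2, h.co_mul z h.zQ r hN, h.co_z, zero_add]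
    have hcr := o.kerS_commute h (hK (mem_fixS.2 hv)) hN rfl
    rw [hcr.eq, mul_inv_cancel_right] at hn
    exact h.es.ne (mul_eq_left.1 hn.symm)
  refine ⟨q⁻¹ * c, hcq, ?_, hpiq⟩
  rw [ha1, mul_one] at hconj
  exact mul_inv_eq_iff_eq_mul.1 hconj

end Out

end Cfsg.Agent.Lib.ExtraNine31
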