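import Cfsg.Agent.Lib.ExtraNine31.Pairs

/-!
# A conjugate of the involution inside `Q`

Owner: helper31.
-/

set_option autoImplicit false
set_option linter.unusedSectionVars false

namespace Cfsg.Agent.Lib.ExtraNine31

open Cfsg.Agent.Lib.LargeExtraspecial.Basic
open Equiv.Perm (sign)

variable {G : Type*} [Group G]

/-- A conjugate of `z` in `Q`, different from `z`. -/
structure Pt (z : G) (Q : Subgroup G) (g : G) : Prop where
  mem : g * z * g⁻¹ ∈ Q
  ne : g * z * g⁻¹ ≠ z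

/-- The part centralising `z` of the conjugate of `Q`. -/
def InC (z : G) (Q : Subgroup G) (g e : G) : Prop := Commute e z ∧ g⁻¹ * e * g ∈ Q

namespace Base

variable {V : Type*} [AddCommGroup V] [Module F2 V] {z : G} {Q : Subgroup G} {Φ : QF V}
  {co : G → V} {ac : G → V →ₗ[F2] V} {pi : G → P36}
  (h : Base z Q Φ co ac pi)

/-- The image of `Q ∩ gQg⁻¹`. -/
def meet (g : G) : Submodule F2 V where
  carrier := {v | ∃ q ∈ Q, g⁻¹ * q * g ∈ Q ∧ co q = v}
  zero_mem' := ⟨1, one_mem Q, by rw [mul_one, inv_mul_cancel]; exact one_mem Q, h.co_one⟩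
  add_mem' := fun ⟨q, hq, hg, e⟩ ⟨r, hr, hg', e'⟩ =>
    ⟨q * r, mul_mem hq hr, by rw [rel_mul]; exact mul_mem hg hg', by rw [h.co_mul q hq r hr, e, e']⟩
  smul_mem' := fun c v hv => by
    rcases f2_cases c with rfl | rfl
    · rw [zero_smul]; exact ⟨1, one_mem Q, by rw [mul_one, inv_mul_cancel]; exact one_mem Q, h.co_one⟩
    · rw [one_smul]; exact hv

/-- `Q ∩ gQg⁻¹`. -/
def meetG (_h : Base z Q Φ co ac pi) (g : G) : Subgroup G := Q ⊓ Q.map (MulAut.conj g).toMonoidHom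

/-- The image in the quotient of the part centralising `z` of the conjugate of `Q`. -/
def img (g : G) : Subgroup P36 where
  carrier := {γ | ∃ e, InC z Q g e ∧ pi e = γ}
  one_mem' := ⟨1, ⟨Commute.one_left z, by rw [mul_one, inv_mul_cancel]; exact one_mem Q⟩, h.pi_one⟩
  mul_mem' := fun ⟨e, he, e1⟩ ⟨f, hf, e2⟩ =>
    ⟨e * f, ⟨he.1.mul_left hf.1, by rw [rel_mul]; exact mul_mem he.2 hf.2⟩,
      by rw [h.pi_mul _ _ he.1 hf.1, e1, e2]⟩
  inv_mem' := fun ⟨e, he, e1⟩ =>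
    ⟨e⁻¹, ⟨he.1.inv_left, by
      rw [show g⁻¹ * e⁻¹ * g = (g⁻¹ * e * g)⁻¹ by group]; exact inv_mem he.2⟩, by rw [h.pi_inv he.1, e1]⟩

include h

theorem comm_point {g e : G} (he : g⁻¹ * e * g ∈ Q) : Commute e (g * z * g⁻¹) := by
  have := (h.commQz he).map (MulAut.conj g).toMonoidHom
  simpa [mul_assoc] using this

end Base

namespace Pt

variable {V : Type*} [AddCommGroup V] [Module F2 V] {z : G} {Q : Subgroup G} {Φ : QF V}
  {co : G → V} {ac : G → V →ₗ[F2] V} {pi : G → P36} {g : G}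
  (u : Pt z Q g) (h : Base z Q Φ co ac pi)
include u h

theorem setting : LargeExtra.TwoConjugate.Setting Q z g :=
  ⟨h.es, h.cent, h.norm, u.mem, u.ne, by rw [h.cardQ]; norm_num⟩

theorem p_sq : g * z * g⁻¹ * (g * z * g⁻¹) = 1 := h.conj_sq g

theorem co_ne : co (g * z * g⁻¹) ≠ 0 := fun e => by
  rcases h.co_zero _ u.mem e with e1 | e1
  · exact h.es.ne (conj_eq_one_iff.1 e1)
  · exact u.ne e1

theorem q_co : Φ.q (co (g * z * g⁻¹)) = 0 :=
  h.zp_inj (((h.sq _ u.mem).symm.trans (u.p_sq h)).trans (zp_zero z).symm)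

theorem z_rel [Finite G] : g⁻¹ * z * g ∈ Q := h.mem_symm u.mem

theorem rel_p : g⁻¹ * (g * z * g⁻¹) * g = z := by group

theorem symm [Finite G] : Pt z Q g⁻¹ := by
  refine ⟨?_, fun e => u.ne ?_⟩
  · rw [inv_inv]; exact u.z_rel h
  · rw [inv_inv] at e
    calc g * z * g⁻¹ = g * (g⁻¹ * z * g) * g⁻¹ := by rw [e]
      _ = z := by group

theorem meet_sq [Finite G] {q : G} (hq : q ∈ Q) (hg : g⁻¹ * q * g ∈ Q) : q * q = 1 := by
  rcases h.sqQ hq with e | e
  · exact e
  exfalso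
  have e1 : g⁻¹ * q * g * (g⁻¹ * q * g) = g⁻¹ * z * g := by rw [← e]; group
  rcases h.sqQ hg with e2 | e2 <;> rw [e1] at e2
  · exact h.es.ne (by calc z = g * (g⁻¹ * z * g) * g⁻¹ := by group
                        _ = 1 := by rw [e2, mul_one, mul_inv_cancel])
  · refine u.ne ?_
    calc g * z * g⁻¹ = g * (g⁻¹ * z * g) * g⁻¹ := by rw [e2]
      _ = z := by group

theorem meet_TS [Finite G] : Φ.TS (h.meet g) := by
  rintro _ ⟨q, hq, hg, rfl⟩
  exact h.zp_inj (((h.sq q hq).symm.trans (u.meet_sq h hq hg)).trans (zp_zero z).symm)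

theorem co_mem : co (g * z * g⁻¹) ∈ h.meet g :=
  ⟨_, u.mem, by rw [u.rel_p h]; exact h.zQ, rfl⟩

/-- Every lift of a vector of the meet lies in the conjugate. -/
theorem meet_lift [Finite G] {q : G} (hq : q ∈ Q) (hv : co q ∈ h.meet g) : g⁻¹ * q * g ∈ Q := by
  obtain ⟨r, hr, hg, e⟩ := hv
  obtain ⟨a, ha⟩ := h.co_eq hr hq e
  rw [ha, Base.rel_mul]
  refine mul_mem hg ?_
  rcases zp_cases z a with e1 | e1 <;> rw [e1]
  · rw [mul_one, inv_mul_cancel]; exact one_mem Q
  · exact u.z_rel h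

theorem inC_z [Finite G] : InC z Q g z := ⟨Commute.refl z, u.z_rel h⟩

theorem ac_fix {e : G} (he : InC z Q g e) : ac e (co (g * z * g⁻¹)) = co (g * z * g⁻¹) := by
  rw [← h.conj e he.1 _ u.mem, (h.comm_point he.2).eq, mul_inv_cancel_right]

/-- The commutators with the perpendicular of the point lie in the meet. -/
theorem comm_perp [Finite G] {e : G} (he : InC z Q g e) {v : V}
    (hv : Φ.bil (co (g * z * g⁻¹)) v = 0) : v + ac e v ∈ h.meet g := by
  obtain ⟨q, hq, rfl⟩ := h.co_surj v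
  have hc : Commute (g⁻¹ * q * g) z :=
    Base.comm_rel ((h.commute_Q u.mem hq).2 hv).symm
  refine ⟨q * (e * q⁻¹ * e⁻¹), mul_mem hq (h.norm e he.1 _ (inv_mem hq)), ?_, ?_⟩
  · rw [show g⁻¹ * (q * (e * q⁻¹ * e⁻¹)) * g =
      g⁻¹ * q * g * (g⁻¹ * e * g) * (g⁻¹ * q * g)⁻¹ * (g⁻¹ * e * g)⁻¹ by group]
    exact mul_mem (h.norm _ hc _ he.2) (inv_mem he.2)
  · rw [h.co_mul q hq _ (h.norm e he.1 _ (inv_mem hq)), h.conj e he.1 _ (inv_mem hq), h.co_inv hq]

/-- The conjugate moves the meet by at most the point. -/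
theorem meet_cases [Finite G] {e : G} (he : InC z Q g e) {v : V} (hv : v ∈ h.meet g) :
    ac e v = v ∨ ac e v = v + co (g * z * g⁻¹) := by
  obtain ⟨q, hq, hg, rfl⟩ := hv
  have e1 := h.comm_Q he.2 hg
  have e2 : e * q * e⁻¹ =
      q * (g * zp z (Φ.bil (co (g⁻¹ * e * g)) (co (g⁻¹ * q * g))) * g⁻¹) := by
    calc e * q * e⁻¹ = g * (g⁻¹ * e * g * (g⁻¹ * q * g) * (g⁻¹ * e * g)⁻¹) * g⁻¹ := by group
      _ = _ := by rw [e1]; group
  rcases zp_cases z (Φ.bil (co (g⁻¹ * e * g)) (co (g⁻¹ * q * g))) with e3 | e3 <;> rw [e3] at e2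
  · left
    rw [← h.conj e he.1 q hq, e2, mul_one, mul_inv_cancel, mul_one]
  · right
    rw [← h.conj e he.1 q hq, e2, h.co_mul q hq _ u.mem]

/-- Only the point and zero are fixed in the meet by the whole conjugate part. -/
theorem separate [Finite G] {v : V} (hv : v ∈ h.meet g) (hfix : ∀ e, InC z Q g e → ac e v = v) :
    v = 0 ∨ v = co (g * z * g⁻¹) := by
  obtain ⟨q, hq, hg, rfl⟩ := hv
  have hcom : ∀ e, InC z Q g e → Commute e q := by
    intro e he
    have e1 := h.comm_Q he.2 hg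
    have e2 : e * q * e⁻¹ =
        q * (g * zp z (Φ.bil (co (g⁻¹ * e * g)) (co (g⁻¹ * q * g))) * g⁻¹) := by
      calc e * q * e⁻¹ = g * (g⁻¹ * e * g * (g⁻¹ * q * g) * (g⁻¹ * e * g)⁻¹) * g⁻¹ := by group
        _ = _ := by rw [e1]; group
    rcases zp_cases z (Φ.bil (co (g⁻¹ * e * g)) (co (g⁻¹ * q * g))) with e3 | e3 <;> rw [e3] at e2
    · rw [mul_one, mul_inv_cancel, mul_one] at e2
      exact mul_inv_eq_iff_eq_mul.1 e2
    · exfalso
      have e4 := hfix e he
      rw [← h.conj e he.1 q hq, e2, h.co_mul q hq _ u.mem, add_eq_left] at e4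
      exact u.co_ne h e4
  have hs := (u.symm h).setting h
  have hm := LargeExtra.TwoConjugate.mem_four_of_commute hs hg (fun a ha hc => by
    rw [inv_inv] at hc
    have hca : Commute (g * a * g⁻¹) z := by
      have := hc.map (MulAut.conj g).toMonoidHom
      simpa [mul_assoc] using this
    have := (hcom (g * a * g⁻¹) ⟨hca, by
      rw [show g⁻¹ * (g * a * g⁻¹) * g = a by group]; exact ha⟩).symm.map (MulAut.conj g⁻¹).toMonoidHom
    simpa [mul_assoc] using this)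
  have hq4 : q = g * (g⁻¹ * q * g) * g⁻¹ := by group
  rcases LargeExtra.TwoConjugate.four_cases hs hm with e | e | e | e <;> rw [e] at hq4
  · left; rw [hq4, mul_one, mul_inv_cancel, h.co_one]
  · right; rw [hq4]
  · left
    rw [hq4, show g * (g⁻¹ * z * g⁻¹⁻¹) * g⁻¹ = z by group, h.co_z]
  · right
    rw [hq4, show g * (z * (g⁻¹ * z * g⁻¹⁻¹)) * g⁻¹ = g * z * g⁻¹ * z by group,
      h.co_mul _ u.mem _ h.zQ, h.co_z, add_zero]

theorem img_sq [Finite G] {γ : P36} (hγ : γ ∈ h.img g) : γ * γ = 1 := by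
  obtain ⟨e, he, rfl⟩ := hγ
  rw [← h.pi_mul _ _ he.1 he.1, h.pi_ker _ (he.1.mul_left he.1)]
  rw [show e * e = g * (g⁻¹ * e * g * (g⁻¹ * e * g)) * g⁻¹ by group]
  rcases h.sqQ he.2 with e1 | e1 <;> rw [e1]
  · rw [mul_one, mul_inv_cancel]; exact one_mem Q
  · exact u.mem

theorem img_comm [Finite G] {γ δ : P36} (hγ : γ ∈ h.img g) (hδ : δ ∈ h.img g) : γ * δ = δ * γ := by
  have e := u.img_sq h (mul_mem hγ hδ)
  have e1 := inv_eq_of_mul_eq_one_left e
  rw [mul_inv_rev, inv_eq_of_mul_eq_one_left (u.img_sq h hγ), inv_eq_of_mul_eq_one_left (u.img_sq h hδ)] at e1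
  exact e1.symm

theorem card_meetG [Finite G] : Nat.card (h.meetG g) = 2 * Nat.card (h.meet g) := by
  let f : h.meetG g →* Multiplicative (h.meet g) :=
    { toFun := fun q => Multiplicative.ofAdd ⟨co q.1, q.1, q.2.1,
        LargeExtra.TwoConjugate.mem_conj.1 q.2.2, rfl⟩
      map_one' := congrArg Multiplicative.ofAdd (Subtype.ext h.co_one)
      map_mul' := fun q r => congrArg Multiplicative.ofAdd (Subtype.ext (h.co_mul _ q.2.1 _ r.2.1)) }
  have hf : Function.Surjective f := fun v => by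
    obtain ⟨q, hq, hg, e⟩ := (Multiplicative.toAdd v).2
    exact ⟨⟨q, hq, LargeExtra.TwoConjugate.mem_conj.2 hg⟩, congrArg Multiplicative.ofAdd (Subtype.ext e)⟩
  have h1 := f.ker.card_eq_card_quotient_mul_card_subgroup
  rw [Nat.card_congr (QuotientGroup.quotientKerEquivOfSurjective f hf).toEquiv] at h1
  rw [h1, Nat.card_congr (Multiplicative.toAdd : Multiplicative (h.meet g) ≃ _)]
  have hzJ : z ∈ h.meetG g := ⟨h.zQ, LargeExtra.TwoConjugate.mem_conj.2 (u.z_rel h)⟩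
  have hk : f.ker = Subgroup.zpowers (⟨z, hzJ⟩ : h.meetG g) := by
    refine le_antisymm (fun q hq => ?_) (Subgroup.zpowers_le.2 ?_)
    · have e : co q.1 = 0 := congrArg (fun a => (Multiplicative.toAdd a).1) hq
      rcases h.co_zero _ q.2.1 e with e1 | e1
      · rw [show q = 1 from Subtype.ext e1]; exact one_mem _
      · rw [show q = ⟨z, hzJ⟩ from Subtype.ext e1]; exact Subgroup.mem_zpowers _
    · exact congrArg Multiplicative.ofAdd (Subtype.ext h.co_z)
  rw [hk, Nat.card_zpowers, ← Subgroup.orderOf_coe, h.ord, mul_comm]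

theorem card_img [Finite G] : Nat.card (h.img g) * Nat.card (h.meetG g) = 256 := by
  have hs := (u.symm h).setting h
  let N : Subgroup G := Subgroup.zpowers z ⊔ Subgroup.zpowers (g⁻¹ * z * g⁻¹⁻¹)
  have hN : N ≤ Q := sup_le (Subgroup.zpowers_le.2 h.zQ) (Subgroup.zpowers_le.2 hs.mem)
  have hN4 : Nat.card N = 4 := by
    have hn : g⁻¹ * z * g⁻¹⁻¹ ∉ Subgroup.zpowers z := fun hm => by
      rcases LargeExtra.Basic.eq_one_or_eq h.ord hm with e | e
      · exact h.es.ne (conj_eq_one_iff.1 e)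
      · exact (u.symm h).ne e
    rw [K41.ESCentralizer.card_adjoin h.es (Subgroup.zpowers_le.2 h.zQ) (Subgroup.mem_zpowers z)
      hs.mem hn, K41.ESCentralizer.card_zpowers_z h.es]
  have hc := K41.ESCentralizer.card_centralizer h.es hN (Subgroup.mem_sup_left (Subgroup.mem_zpowers z))
  rw [hN4, h.cardQ] at hc
  let C : Subgroup G := (Q ⊓ Subgroup.centralizer (N : Set G)).map (MulAut.conj g).toMonoidHom
  have hC : ∀ e, e ∈ C ↔ InC z Q g e := by
    intro e
    constructor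
    · rintro ⟨a, ⟨ha, hac⟩, rfl⟩
      have hc : Commute a (g⁻¹ * z * g⁻¹⁻¹) :=
        (hac _ (Subgroup.mem_sup_right (Subgroup.mem_zpowers _))).symm
      rw [inv_inv] at hc
      refine ⟨?_, by simpa [mul_assoc] using ha⟩
      have := hc.map (MulAut.conj g).toMonoidHom
      simpa [mul_assoc] using this
    · intro he
      refine ⟨g⁻¹ * e * g, ⟨he.2, ?_⟩, by simp [mul_assoc]⟩
      have hc : Commute (g⁻¹ * e * g) (g⁻¹ * z * g⁻¹⁻¹) := by
        rw [inv_inv]
        have := he.1.map (MulAut.conj g⁻¹).toMonoidHom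
        simpa [mul_assoc] using this
      have : N ≤ Subgroup.centralizer ({g⁻¹ * e * g} : Set G) := sup_le
        (Subgroup.zpowers_le.2 (Subgroup.mem_centralizer_singleton_iff.2 (h.commQz he.2).symm.eq))
        (Subgroup.zpowers_le.2 (Subgroup.mem_centralizer_singleton_iff.2 hc.symm.eq))
      intro n hn
      exact Subgroup.mem_centralizer_singleton_iff.1 (this hn)
  have hC256 : Nat.card C = 256 := by
    rw [← Nat.card_congr (Subgroup.equivMapOfInjective _ _ (MulAut.conj g).injective).toEquiv]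
    omega
  let f : C →* P36 :=
    { toFun := fun e => pi e.1
      map_one' := h.pi_one
      map_mul' := fun a b => h.pi_mul _ _ ((hC _).1 a.2).1 ((hC _).1 b.2).1 }
  have h1 := f.ker.card_eq_card_quotient_mul_card_subgroup
  rw [Nat.card_congr (QuotientGroup.quotientKerEquivRange f).toEquiv, hC256] at h1
  have hr : f.range = h.img g := by
    ext γ
    constructor
    · rintro ⟨e, rfl⟩; exact ⟨e.1, (hC _).1 e.2, rfl⟩
    · rintro ⟨e, he, rfl⟩; exact ⟨⟨e, (hC _).2 he⟩, rfl⟩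
  have hk : f.ker.map C.subtype = h.meetG g := by
    ext q
    constructor
    · rintro ⟨e, he, rfl⟩
      exact ⟨(h.pi_ker _ ((hC _).1 e.2).1).1 he, LargeExtra.TwoConjugate.mem_conj.2 ((hC _).1 e.2).2⟩
    · rintro ⟨hq, hg⟩
      exact ⟨⟨q, (hC _).2 ⟨h.commQz hq, LargeExtra.TwoConjugate.mem_conj.1 hg⟩⟩,
        (h.pi_ker _ (h.commQz hq)).2 hq, rfl⟩
  rw [← hk, ← Nat.card_congr (Subgroup.equivMapOfInjective _ _ C.subtype_injective).toEquiv, ← hr, ← h1]

end Pt

end Cfsg.Agent.Lib.ExtraNine31
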