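import Cfsg.Agent.Lib.ExtraNine31.InB
import Cfsg.Agent.Lib.ExtraNine31.OutA

/-!
# Case A: the structure of a conjugate of the involution inside `Q`

Owner: helper31.
-/

set_option autoImplicit false
set_option linter.unusedSectionVars false

namespace Cfsg.Agent.Lib.ExtraNine31

open Cfsg.Agent.Lib.LargeExtraspecial.Basic
open Equiv.Perm (sign)

variable {G : Type*} [Group G] {V : Type*} [AddCommGroup V] [Module F2 V] {z : G} {Q : Subgroup G}
  {Φ : QF V} {co : G → V} {ac : G → V →ₗ[F2] V} {pi : G → P36} {x g : G}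

theorem InC.mul {e f : G} (he : InC z Q g e) (hf : InC z Q g f) : InC z Q g (e * f) :=
  ⟨he.1.mul_left hf.1, by rw [Base.rel_mul]; exact mul_mem he.2 hf.2⟩

theorem InC.inv {e : G} (he : InC z Q g e) : InC z Q g e⁻¹ :=
  ⟨he.1.inv_left, by rw [show g⁻¹ * e⁻¹ * g = (g⁻¹ * e * g)⁻¹ by group]; exact inv_mem he.2⟩

theorem smul_one' (v : V) : (1 : F2) • v = v := one_smul F2 v

theorem eq_of_add_eq_zero' {p r : V} (e : p + r = 0) : r = p := by
  rw [← zero_add r, ← add_self_eq_zero' p, add_assoc, e, add_zero]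

namespace Pt

variable (u : Pt z Q g) (h : Base z Q Φ co ac pi) (hx : Lift3 z pi x) (hA : CaseA ac x)

/-- The perpendicular of the line of the point. -/
def Lperp (_u : Pt z Q g) (_h : Base z Q Φ co ac pi) (x : G) : Submodule F2 V :=
  Φ.perp (Submodule.span F2 {co (g * z * g⁻¹), ac x (co (g * z * g⁻¹))})

/-- The largest part of the meet invariant under the three-element. -/
def core (_u : Pt z Q g) (h : Base z Q Φ co ac pi) (x : G) : Submodule F2 V :=
  h.meet g ⊓ (h.meet g).comap (ac x)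

include u h hx hA

theorem mem_Lperp {v : V} : v ∈ u.Lperp h x ↔
    Φ.bil (co (g * z * g⁻¹)) v = 0 ∧ Φ.bil (ac x (co (g * z * g⁻¹))) v = 0 := by
  constructor
  · intro e
    exact ⟨e _ (Submodule.subset_span (Or.inl rfl)), e _ (Submodule.subset_span (Or.inr rfl))⟩
  · rintro ⟨e1, e2⟩ w hw
    obtain ⟨a, b, rfl⟩ := Submodule.mem_span_pair.1 hw
    rw [map_add, LinearMap.add_apply, map_smul, map_smul, LinearMap.smul_apply, LinearMap.smul_apply,
      e1, e2, smul_zero, smul_zero, add_zero]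

theorem bil_xx (a b : V) : Φ.bil a (ac x b) = Φ.bil a b + Φ.bil (ac x a) b := by
  have hF := h.fpf3_top hx hA
  have e1 : ac x (ac x (ac x a)) = a := hF.cube Submodule.mem_top
  calc Φ.bil a (ac x b) = Φ.bil (ac x (ac x (ac x a))) (ac x b) := by rw [e1]
    _ = Φ.bil (ac x (ac x a)) b := h.ac_bil hx.comm _ _
    _ = _ := by rw [hF.sq_eq Submodule.mem_top, map_add, LinearMap.add_apply]

theorem bil_p_xp : Φ.bil (co (g * z * g⁻¹)) (ac x (co (g * z * g⁻¹))) = 0 :=
  ((h.fpf3_top hx hA).bil_x Submodule.mem_top).trans (u.q_co h)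

theorem xp_ne : ac x (co (g * z * g⁻¹)) ≠ co (g * z * g⁻¹) :=
  fun e => u.co_ne h ((h.fpf3_top hx hA).fixed Submodule.mem_top e)

theorem line_li : LinearIndependent F2 ![co (g * z * g⁻¹), ac x (co (g * z * g⁻¹))] := by
  refine LinearIndependent.pair_iff.2 fun s t hst => ?_
  rcases f2_cases s with rfl | rfl <;> rcases f2_cases t with rfl | rfl
  · exact ⟨rfl, rfl⟩
  · rw [zero_smul, one_smul, zero_add] at hst
    have := (h.fpf3_top hx hA).cube (v := co (g * z * g⁻¹)) Submodule.mem_top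
    rw [hst, map_zero, map_zero] at this
    exact absurd this.symm (u.co_ne h)
  · rw [zero_smul, one_smul, add_zero] at hst
    exact absurd hst (u.co_ne h)
  · rw [one_smul, one_smul] at hst
    exact absurd (eq_of_add_eq_zero' hst) (u.xp_ne h hx hA)

theorem finrank_line :
    Module.finrank F2 (Submodule.span F2 ({co (g * z * g⁻¹), ac x (co (g * z * g⁻¹))} : Set V)) = 2 := by
  have e := finrank_span_eq_card (u.line_li h hx hA)
  rw [show Set.range ![co (g * z * g⁻¹), ac x (co (g * z * g⁻¹))] =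
    ({co (g * z * g⁻¹), ac x (co (g * z * g⁻¹))} : Set V) by simp [Set.pair_comm], Fintype.card_fin] at e
  exact e

theorem finrank_Lperp : Module.finrank F2 (u.Lperp h x) = 6 := by
  have := h.finite
  have e := Φ.finrank_perp (Submodule.span F2 ({co (g * z * g⁻¹), ac x (co (g * z * g⁻¹))} : Set V))
  rw [u.finrank_line h hx hA, h.dim] at e
  show Module.finrank F2 (Φ.perp _) = 6
  omega

theorem x_Lperp {v : V} (hv : v ∈ u.Lperp h x) : ac x v ∈ u.Lperp h x := by
  rw [u.mem_Lperp h hx hA] at hv ⊢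
  refine ⟨?_, by rw [h.ac_bil hx.comm]; exact hv.1⟩
  rw [u.bil_xx h hx hA, hv.1, hv.2, add_zero]

theorem x_core {v : V} (hv : v ∈ u.core h x) : ac x v ∈ u.core h x := by
  refine ⟨hv.2, ?_⟩
  show ac x (ac x v) ∈ h.meet g
  rw [(h.fpf3_top hx hA).sq_eq Submodule.mem_top]
  exact add_mem hv.1 hv.2

theorem fix_mul {e f : G} (he : InC z Q g e) (hf : InC z Q g f) {v : V} (h1 : ac e v = v)
    (h2 : ac f v = v) : ac (e * f) v = v := by
  rw [h.ac_mul he.1 hf.1, h2, h1]

theorem hone {e : G} (he : InC z Q g e) (hfix : ∀ v, ac e v = v) : pi e = 1 :=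
  (h.pi_ker e he.1).2 (h.faithful e he.1 hfix)

theorem d_core [Finite G] {e : G} (he : InC z Q g e) (hs : sign (pi e).1 = 1) {v : V}
    (hv : v ∈ u.Lperp h x) : v + ac e v ∈ u.core h x := by
  refine ⟨u.comm_perp h he ((u.mem_Lperp h hx hA).1 hv).1, ?_⟩
  show ac x (v + ac e v) ∈ h.meet g
  rw [map_add, ← h.ac_x_comm hx he.1 hs]
  exact u.comm_perp h he ((u.mem_Lperp h hx hA).1 (u.x_Lperp h hx hA hv)).1

theorem fix_meet_Lperp [Finite G] (hp : co (g * z * g⁻¹) ∉ u.core h x) {e : G} (he : InC z Q g e)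
    (hs : sign (pi e).1 = 1) {v : V} (hv : v ∈ h.meet g) (hv' : v ∈ u.Lperp h x) : ac e v = v := by
  rcases u.meet_cases h he hv with e1 | e1
  · exact e1
  · exfalso
    have := u.d_core h hx hA he hs hv'
    rw [e1, ← add_assoc, add_self_eq_zero', zero_add] at this
    exact hp this

theorem fix_line [Finite G] {e : G} (he : InC z Q g e) (hs : sign (pi e).1 = 1) :
    ac e (ac x (co (g * z * g⁻¹))) = ac x (co (g * z * g⁻¹)) := by
  rw [h.ac_x_comm hx he.1 hs, u.ac_fix h he]

theorem finrank_fixed_le [Finite G] {e : G} (he : InC z Q g e) {U : Submodule F2 V} (hU : U ≤ h.meet g) :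
    Module.finrank F2 U ≤ Module.finrank F2 (U ⊓ fixS (ac e) : Submodule F2 V) + 1 := by
  have := h.finite
  by_cases hle : U ≤ fixS (ac e)
  · rw [inf_of_le_left hle]; exact Nat.le_succ _
  obtain ⟨v, hv, hv'⟩ := SetLike.not_le_iff_exists.1 hle
  have key : U ≤ (U ⊓ fixS (ac e)) ⊔ Submodule.span F2 {v} := by
    intro w hw
    by_cases hw' : w ∈ fixS (ac e)
    · exact Submodule.mem_sup_left ⟨hw, hw'⟩
    refine Submodule.mem_sup.2 ⟨w + v, ⟨add_mem hw hv, ?_⟩, v, Submodule.mem_span_singleton_self v,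
      by rw [add_assoc, add_self_eq_zero', add_zero]⟩
    show w + v ∈ fixS (ac e)
    rw [mem_fixS] at hv' hw' ⊢
    rw [map_add, (u.meet_cases h he (hU hw)).resolve_left hw',
      (u.meet_cases h he (hU hv)).resolve_left hv', add_add_add_comm, add_self_eq_zero', add_zero]
  refine le_trans (Submodule.finrank_mono key) (le_trans (Submodule.finrank_add_le_finrank_add_finrank _ _) ?_)
  exact Nat.add_le_add_left (finrank_span_le_card ({v} : Set V) |>.trans (by simp)) _

theorem le_point_of_fixed [Finite G] {U : Submodule F2 V} (hU : U ≤ h.meet g)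
    (hfix : ∀ e, InC z Q g e → ∀ v ∈ U, ac e v = v) : Module.finrank F2 U ≤ 1 := by
  have := h.finite
  have hle : U ≤ Submodule.span F2 {co (g * z * g⁻¹)} := fun v hv => by
    rcases u.separate h (hU hv) (fun e he => hfix e he v hv) with e | e <;> rw [e]
    exacts [zero_mem _, Submodule.mem_span_singleton_self _]
  exact le_trans (Submodule.finrank_mono hle) (finrank_span_le_card _ |>.trans (by simp))

/-- A subspace fixed by the even part of the conjugate has dimension at most two. -/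
theorem le_two_of_even_fixed [Finite G] {U : Submodule F2 V} (hU : U ≤ h.meet g)
    (hfix : ∀ e, InC z Q g e → sign (pi e).1 = 1 → ∀ v ∈ U, ac e v = v) : Module.finrank F2 U ≤ 2 := by
  by_cases hodd : ∃ f, InC z Q g f ∧ sign (pi f).1 ≠ 1
  · obtain ⟨f, hf, hfs⟩ := hodd
    have h1 := u.finrank_fixed_le h hx hA hf hU
    have h2 : Module.finrank F2 (U ⊓ fixS (ac f) : Submodule F2 V) ≤ 1 := by
      refine u.le_point_of_fixed h hx hA (inf_le_left.trans hU) fun e he v hv => ?_
      by_cases hs : sign (pi e).1 = 1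
      · exact hfix e he hs v hv.1
      · have h3 : sign (pi (f⁻¹ * e)).1 = 1 := by
          rw [h.pi_mul _ _ hf.1.inv_left he.1, h.pi_inv hf.1, Prod.fst_mul, Prod.fst_inv, map_mul, map_inv,
            (Int.units_eq_one_or _).resolve_left hs, (Int.units_eq_one_or _).resolve_left hfs]
          rfl
        have h4 := hfix _ (hf.inv.mul he) h3 v hv.1
        have h5 := u.fix_mul h hx hA hf (hf.inv.mul he) (mem_fixS.1 hv.2) h4
        rwa [mul_inv_cancel_left] at h5
    omega
  · refine le_trans (u.le_point_of_fixed h hx hA hU fun e he v hv => hfix e he ?_ v hv) (by norm_num)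
    by_contra hs
    exact hodd ⟨e, he, hs⟩

theorem three_le [Finite G] : 3 ≤ Module.finrank F2 (h.meet g) := by
  have h128 := u.card_img_meet h
  have hE : Nat.card (h.img g) ≤ 16 := by
    refine le_trans (card_le_two_mul_even _) ?_
    have := card_elementary_le (E := h.img g ⊓ evenPart) (fun γ hγ => u.img_sq h hγ.1) fun γ hγ => hγ.2
    omega
  by_contra hlt
  generalize Module.finrank F2 (h.meet g) = i at h128 hlt
  interval_cases i <;> omega

theorem even_card_le [Finite G] {f : P36 → V} {S : Submodule F2 V}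
    (hf : ∀ γ ∈ h.img g ⊓ evenPart, f γ ∈ S)
    (hinj : ∀ γ ∈ h.img g ⊓ evenPart, ∀ δ ∈ h.img g ⊓ evenPart, f γ = f δ → γ = δ) :
    Nat.card (h.img g ⊓ evenPart : Subgroup P36) ≤ 2 ^ Module.finrank F2 S := by
  have := h.finite
  have := h.finiteV
  rw [show 2 ^ Module.finrank F2 S = Nat.card S by
    rw [Module.natCard_eq_pow_finrank (K := F2) (V := S), Nat.card_zmod]]
  exact Nat.card_le_card_of_injective (fun γ => ⟨f γ.1, hf _ γ.2⟩)
    (fun γ δ e => Subtype.ext (hinj _ γ.2 _ δ.2 (congrArg Subtype.val e)))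

theorem exists_dual : ∃ v₀, Φ.bil (co (g * z * g⁻¹)) v₀ = 0 ∧ Φ.bil (ac x (co (g * z * g⁻¹))) v₀ = 1 := by
  by_contra hcon
  have hle : Φ.perp (Submodule.span F2 {co (g * z * g⁻¹)}) ≤ u.Lperp h x := fun v hv => by
    have e1 := hv _ (Submodule.mem_span_singleton_self _)
    exact (u.mem_Lperp h hx hA).2 ⟨e1, (f2_cases _).resolve_right fun e2 => hcon ⟨v, e1, e2⟩⟩
  have := h.finite
  have k1 := Submodule.finrank_mono hle
  have k2 := Φ.finrank_perp (Submodule.span F2 {co (g * z * g⁻¹)})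
  rw [finrank_span_singleton (u.co_ne h), h.dim] at k2
  rw [u.finrank_Lperp h hx hA] at k1
  omega

/-- An element killing the perpendicular of the line is determined by one further value. -/
theorem ext_dual [Finite G] {v₀ : V} (h1 : Φ.bil (co (g * z * g⁻¹)) v₀ = 0)
    (h2 : Φ.bil (ac x (co (g * z * g⁻¹))) v₀ = 1) {e : G} (he : InC z Q g e) (hs : sign (pi e).1 = 1)
    (hL : ∀ v ∈ u.Lperp h x, ac e v = v) (h0 : ac e v₀ = v₀) : pi e = 1 := by
  refine u.hone h hx hA he fun v => ?_
  let c1 := Φ.bil (ac x (co (g * z * g⁻¹))) v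
  let c2 := Φ.bil (co (g * z * g⁻¹)) v
  have hw : v + c1 • v₀ + c2 • ac x v₀ ∈ u.Lperp h x := by
    rw [u.mem_Lperp h hx hA]
    constructor
    · simp only [map_add, map_smul, u.bil_xx h hx hA (co (g * z * g⁻¹)) v₀, h1, h2, smul_eq_mul, mul_zero,
        add_zero, zero_add, mul_one, c2, CharTwo.add_self_eq_zero]
    · simp only [map_add, map_smul, h.ac_bil hx.comm, h1, h2, smul_eq_mul, mul_zero, add_zero, mul_one, c1,
        CharTwo.add_self_eq_zero]
  have e1 := hL _ hw
  rwa [map_add, map_add, map_smul, map_smul, h.ac_x_comm hx he.1 hs, h0, add_assoc, add_assoc,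
    add_left_inj] at e1

/-- The second point of the line lies in the meet. -/
theorem xp_mem [Finite G] : ac x (co (g * z * g⁻¹)) ∈ h.meet g := by
  by_contra hxp
  have := h.finite
  have := h.finiteV
  have hp : co (g * z * g⁻¹) ∉ u.core h x := fun e => hxp e.2
  have h3 := u.three_le h hx hA
  let U := h.meet g ⊓ u.Lperp h x
  have hU2 : Module.finrank F2 U ≤ 2 := u.le_two_of_even_fixed h hx hA inf_le_left
    fun e he hs v hv => u.fix_meet_Lperp h hx hA hp he hs hv.1 hv.2
  have hUd : Module.finrank F2 (h.meet g) ≤ Module.finrank F2 U + 1 := by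
    have k1 := Submodule.finrank_sup_add_finrank_inf_eq (h.meet g) (u.Lperp h x)
    have k2 : h.meet g ⊔ u.Lperp h x ≤ Φ.perp (Submodule.span F2 {co (g * z * g⁻¹)}) := by
      refine sup_le (fun v hv w hw => ?_) (Φ.perp_anti (Submodule.span_mono (by simp)))
      obtain ⟨c, rfl⟩ := Submodule.mem_span_singleton.1 hw
      rw [map_smul, LinearMap.smul_apply, (u.meet_TS h).bil_eq_zero Φ (u.co_mem h) hv, smul_zero]
    have k3 := Submodule.finrank_mono k2
    have k4 := Φ.finrank_perp (Submodule.span F2 {co (g * z * g⁻¹)})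
    rw [finrank_span_singleton (u.co_ne h), h.dim] at k4
    rw [u.finrank_Lperp h hx hA] at k1
    change _ + Module.finrank F2 U = _ at k1
    omega
  -- the invariant part is trivial
  have hcore : u.core h x = ⊥ := by
    by_contra hne
    have hev := (h.fpf3_top hx hA).even (W := u.core h x) le_top fun w hw => u.x_core h hx hA hw
    have hlt : u.core h x < h.meet g :=
      lt_of_le_of_ne inf_le_left fun e => hp (e.symm ▸ u.co_mem h)
    have k1 := Submodule.finrank_lt_finrank_of_lt hlt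
    have k2 : Module.finrank F2 (u.core h x) ≠ 0 := fun e => hne (Submodule.finrank_eq_zero.1 e)
    obtain ⟨k, hk⟩ := hev
    have hle : h.meet g ≤ u.Lperp h x := by
      have key : h.meet g ≤ u.core h x ⊔ Submodule.span F2 {co (g * z * g⁻¹)} := by
        refine le_of_eq (Submodule.eq_of_le_of_finrank_le
          (sup_le inf_le_left ((Submodule.span_singleton_le_iff_mem _ _).2 (u.co_mem h))) ?_).symm
        have hlt2 : u.core h x < u.core h x ⊔ Submodule.span F2 {co (g * z * g⁻¹)} :=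
          lt_of_le_of_ne le_sup_left fun e => hp (by
            rw [e]; exact Submodule.mem_sup_right (Submodule.mem_span_singleton_self _))
        have := Submodule.finrank_lt_finrank_of_lt hlt2
        omega
      refine key.trans (sup_le (fun v hv => ?_) ((Submodule.span_singleton_le_iff_mem _ _).2 ?_))
      · refine (u.mem_Lperp h hx hA).2 ⟨(u.meet_TS h).bil_eq_zero Φ (u.co_mem h) hv.1, ?_⟩
        have e1 : ac x (ac x (ac x v)) = v := (h.fpf3_top hx hA).cube Submodule.mem_top
        rw [← e1, h.ac_bil hx.comm]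
        exact (u.meet_TS h).bil_eq_zero Φ (u.co_mem h) (u.x_core h hx hA (u.x_core h hx hA hv)).1
      · exact (u.mem_Lperp h hx hA).2
          ⟨Φ.bil_self _, (Φ.bil_comm _ _).trans (u.bil_p_xp h hx hA)⟩
    have : U = h.meet g := inf_of_le_left hle
    rw [this] at hU2
    omega
  obtain ⟨j, hj, hj'⟩ : ∃ j ∈ h.meet g, j ∉ u.Lperp h x := by
    refine SetLike.not_le_iff_exists.1 fun hle => ?_
    have : U = h.meet g := inf_of_le_left hle
    rw [this] at hU2
    omega
  have hj1 : Φ.bil (co (g * z * g⁻¹)) j = 0 := (u.meet_TS h).bil_eq_zero Φ (u.co_mem h) hj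
  have hj2 : Φ.bil (ac x (co (g * z * g⁻¹))) j = 1 :=
    (f2_cases _).resolve_left fun e => hj' ((u.mem_Lperp h hx hA).2 ⟨hj1, e⟩)
  have hkill : ∀ e, InC z Q g e → sign (pi e).1 = 1 → ∀ v ∈ u.Lperp h x, ac e v = v := fun e he hs v hv => by
    have := u.d_core h hx hA he hs hv
    rw [hcore, Submodule.mem_bot] at this
    exact eq_of_add_eq_zero' this
  classical
  have hle := u.even_card_le h hx hA
    (f := fun γ => if hγ : ∃ a, InC z Q g a ∧ pi a = γ then j + ac hγ.choose j else 0)
    (S := Submodule.span F2 {co (g * z * g⁻¹)})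
    (fun γ hγ => by
      obtain ⟨hγ', -⟩ := hγ
      change ∃ a, InC z Q g a ∧ pi a = γ at hγ'
      rw [dif_pos hγ']
      obtain ⟨he, -⟩ := hγ'.choose_spec
      rcases u.meet_cases h he hj with e | e <;> rw [e]
      · rw [add_self_eq_zero']; exact zero_mem _
      · rw [← add_assoc, add_self_eq_zero', zero_add]; exact Submodule.mem_span_singleton_self _)
    (fun γ hγ δ hδ e => by
      have hγ' : ∃ a, InC z Q g a ∧ pi a = γ := hγ.1
      have hδ' : ∃ a, InC z Q g a ∧ pi a = δ := hδ.1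
      rw [dif_pos hγ', dif_pos hδ', add_right_inj] at e
      obtain ⟨he, eγ⟩ := hγ'.choose_spec
      obtain ⟨hf, eδ⟩ := hδ'.choose_spec
      generalize hγ'.choose = a at he eγ e
      generalize hδ'.choose = b at hf eδ e
      have hs : sign (pi (b⁻¹ * a)).1 = 1 := by
        rw [h.pi_mul _ _ hf.1.inv_left he.1, h.pi_inv hf.1, eγ, eδ]
        exact mem_evenPart.1 (mul_mem (inv_mem (show δ ∈ evenPart from hδ.2)) hγ.2)
      have e1 := u.ext_dual h hx hA hj1 hj2 (hf.inv.mul he) hs (hkill _ (hf.inv.mul he) hs)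
        (by rw [h.ac_mul hf.1.inv_left he.1, e, h.ac_inv hf.1])
      rw [h.pi_mul _ _ hf.1.inv_left he.1, h.pi_inv hf.1, eγ, eδ, inv_mul_eq_one] at e1
      exact e1.symm)
  rw [finrank_span_singleton (u.co_ne h), pow_one] at hle
  have h128 := u.card_img_meet h
  have hE := card_le_two_mul_even (h.img g)
  have hi : Module.finrank F2 (h.meet g) ≤ 3 := by omega
  generalize Module.finrank F2 (h.meet g) = i at h128 hi
  interval_cases i <;> omega

theorem core_eq [Finite G] :
    u.core h x = Submodule.span F2 {co (g * z * g⁻¹), ac x (co (g * z * g⁻¹))} := by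
  have := h.finite
  have := h.finiteV
  have hxp := u.xp_mem h hx hA
  have hle : Submodule.span F2 {co (g * z * g⁻¹), ac x (co (g * z * g⁻¹))} ≤ u.core h x := by
    refine Submodule.span_le.2 ?_
    have hp : co (g * z * g⁻¹) ∈ u.core h x := ⟨u.co_mem h, hxp⟩
    rintro a (rfl | rfl)
    exacts [hp, u.x_core h hx hA hp]
  refine (Submodule.eq_of_le_of_finrank_le hle ?_).symm
  rw [u.finrank_line h hx hA]
  by_contra hgt
  obtain ⟨k, hk⟩ := (h.fpf3_top hx hA).even (W := u.core h x) le_top fun w hw => u.x_core h hx hA hw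
  have h4 := u.meet_le_four h
  have k1 := Submodule.finrank_mono (inf_le_left : u.core h x ≤ h.meet g)
  have hcm : u.core h x = h.meet g := Submodule.eq_of_le_of_finrank_le inf_le_left (by omega)
  have h2 := u.le_two_of_even_fixed h hx hA (le_refl (h.meet g)) fun e he hs v hv => by
    rcases u.meet_cases h he hv with e1 | e1
    · exact e1
    have hxv := (u.x_core h hx hA (hcm.symm ▸ hv : v ∈ u.core h x)).1
    exfalso
    rcases u.meet_cases h he hxv with e2 | e2 <;>
      rw [h.ac_x_comm hx he.1 hs, e1, map_add] at e2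
    · have := congrArg (fun a => ac x (ac x a)) (add_eq_left.1 e2)
      simp only [(h.fpf3_top hx hA).cube Submodule.mem_top, map_zero] at this
      exact u.co_ne h this
    · exact u.xp_ne h hx hA (add_left_cancel e2)
  have := u.three_le h hx hA
  omega

theorem meet_le_Lperp [Finite G] : h.meet g ≤ u.Lperp h x := fun _ hv =>
  (u.mem_Lperp h hx hA).2 ⟨(u.meet_TS h).bil_eq_zero Φ (u.co_mem h) hv,
    (u.meet_TS h).bil_eq_zero Φ (u.xp_mem h hx hA) hv⟩

theorem d_line [Finite G] {e : G} (he : InC z Q g e) (hs : sign (pi e).1 = 1) {v : V}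
    (hv : v ∈ u.Lperp h x) :
    v + ac e v ∈ Submodule.span F2 {co (g * z * g⁻¹), ac x (co (g * z * g⁻¹))} :=
  u.core_eq h hx hA ▸ u.d_core h hx hA he hs hv

/-- An element with range in the line kills its perpendicular. -/
theorem kill_of_range [Finite G] {e : G} (he : InC z Q g e)
    (hr : ∀ v, v + ac e v ∈ Submodule.span F2 {co (g * z * g⁻¹), ac x (co (g * z * g⁻¹))}) {v : V}
    (hv : v ∈ u.Lperp h x) : ac e v = v :=
  eq_of_add_eq_zero' (Φ.eq_zero_of_perp fun w => by rw [u.adjoint h he]; exact hv _ (hr w))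

theorem range_of_dual [Finite G] {v₀ : V} (h1 : Φ.bil (co (g * z * g⁻¹)) v₀ = 0)
    (h2 : Φ.bil (ac x (co (g * z * g⁻¹))) v₀ = 1) {e : G} (he : InC z Q g e) (hs : sign (pi e).1 = 1)
    (h0 : v₀ + ac e v₀ ∈ Submodule.span F2 {co (g * z * g⁻¹), ac x (co (g * z * g⁻¹))}) (v : V) :
    v + ac e v ∈ Submodule.span F2 {co (g * z * g⁻¹), ac x (co (g * z * g⁻¹))} := by
  let c1 := Φ.bil (ac x (co (g * z * g⁻¹))) v
  let c2 := Φ.bil (co (g * z * g⁻¹)) v
  have hw : v + c1 • v₀ + c2 • ac x v₀ ∈ u.Lperp h x := by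
    rw [u.mem_Lperp h hx hA]
    constructor
    · simp only [map_add, map_smul, u.bil_xx h hx hA (co (g * z * g⁻¹)) v₀, h1, h2, smul_eq_mul, mul_zero,
        add_zero, zero_add, mul_one, c2, CharTwo.add_self_eq_zero]
    · simp only [map_add, map_smul, h.ac_bil hx.comm, h1, h2, smul_eq_mul, mul_zero, add_zero, mul_one, c1,
        CharTwo.add_self_eq_zero]
  have hx0 : ac x v₀ + ac e (ac x v₀) ∈
      Submodule.span F2 {co (g * z * g⁻¹), ac x (co (g * z * g⁻¹))} := by
    rw [h.ac_x_comm hx he.1 hs, ← map_add, ← u.core_eq h hx hA]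
    exact u.x_core h hx hA (u.core_eq h hx hA ▸ h0)
  have e1 := add_mem (u.d_line h hx hA he hs hw)
    (add_mem (Submodule.smul_mem _ c1 h0) (Submodule.smul_mem _ c2 hx0))
  simp only [map_add, map_smul, smul_add] at e1
  convert e1 using 1
  have k1 := add_self_eq_zero' (c1 • v₀)
  have k2 := add_self_eq_zero' (c2 • ac x v₀)
  have k3 := add_self_eq_zero' (c1 • ac e v₀)
  have k4 := add_self_eq_zero' (c2 • ac e (ac x v₀))
  calc v + ac e v = v + ac e v + (c1 • v₀ + c1 • v₀) + (c2 • ac x v₀ + c2 • ac x v₀) +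
      (c1 • ac e v₀ + c1 • ac e v₀) + (c2 • ac e (ac x v₀) + c2 • ac e (ac x v₀)) := by
        rw [k1, k2, k3, k4]; simp only [add_zero]
    _ = _ := by abel

/-- The meet has dimension four. -/
theorem finrank_meet [Finite G] : Module.finrank F2 (h.meet g) = 4 := by
  classical
  have := h.finite
  by_contra hne
  have h3 := u.three_le h hx hA
  have h4 := u.meet_le_four h
  obtain ⟨v₀, h1, h2⟩ := u.exists_dual h hx hA
  let S := h.meet g ⊓ Φ.perp (Submodule.span F2 {v₀})
  have hS : Module.finrank F2 S ≤ 2 := by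
    have hlt : S < h.meet g := lt_of_le_of_ne inf_le_left fun e => by
      have h5 : ac x (co (g * z * g⁻¹)) ∈ S := e.symm ▸ u.xp_mem h hx hA
      have := h5.2 v₀ (Submodule.mem_span_singleton_self v₀)
      rw [Φ.bil_comm, h2] at this
      exact one_ne_zero this
    have := Submodule.finrank_lt_finrank_of_lt hlt
    omega
  have hle := u.even_card_le h hx hA
    (f := fun γ => if hγ : ∃ a, InC z Q g a ∧ pi a = γ then v₀ + ac hγ.choose v₀ else 0) (S := S)
    (fun γ hγ => by
      obtain ⟨hγ', -⟩ := hγ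
      change ∃ a, InC z Q g a ∧ pi a = γ at hγ'
      rw [dif_pos hγ']
      obtain ⟨he, -⟩ := hγ'.choose_spec
      have hm := u.comm_perp h he h1
      refine ⟨hm, fun w hw => ?_⟩
      obtain ⟨c, rfl⟩ := Submodule.mem_span_singleton.1 hw
      have e1 := Φ.polar v₀ (v₀ + ac hγ'.choose v₀)
      rw [← add_assoc, add_self_eq_zero', zero_add, h.ac_q he.1, u.meet_TS h _ hm, add_zero] at e1
      rw [map_smul, LinearMap.smul_apply, add_eq_left.1 e1.symm, smul_zero])
    (fun γ hγ δ hδ e => by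
      have hγ' : ∃ a, InC z Q g a ∧ pi a = γ := hγ.1
      have hδ' : ∃ a, InC z Q g a ∧ pi a = δ := hδ.1
      rw [dif_pos hγ', dif_pos hδ', add_right_inj] at e
      obtain ⟨he, eγ⟩ := hγ'.choose_spec
      obtain ⟨hf, eδ⟩ := hδ'.choose_spec
      generalize hγ'.choose = a at he eγ e
      generalize hδ'.choose = b at hf eδ e
      have hs : sign (pi (b⁻¹ * a)).1 = 1 := by
        rw [h.pi_mul _ _ hf.1.inv_left he.1, h.pi_inv hf.1, eγ, eδ]
        exact mem_evenPart.1 (mul_mem (inv_mem (show δ ∈ evenPart from hδ.2)) hγ.2)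
      have e0 : ac (b⁻¹ * a) v₀ = v₀ := by rw [h.ac_mul hf.1.inv_left he.1, e, h.ac_inv hf.1]
      have e1 := u.ext_dual h hx hA h1 h2 (hf.inv.mul he) hs
        (fun v hv => u.kill_of_range h hx hA (hf.inv.mul he)
          (u.range_of_dual h hx hA h1 h2 (hf.inv.mul he) hs
            (by rw [e0, add_self_eq_zero']; exact zero_mem _)) hv) e0
      rw [h.pi_mul _ _ hf.1.inv_left he.1, h.pi_inv hf.1, eγ, eδ, inv_mul_eq_one] at e1
      exact e1.symm)
  have hp2 := Nat.pow_le_pow_right (n := 2) (by norm_num) hS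
  have h128 := u.card_img_meet h
  have hE := card_le_two_mul_even (h.img g)
  generalize Module.finrank F2 (h.meet g) = i at h128 hne h3 h4
  interval_cases i <;> omega

theorem exists_odd [Finite G] : ∃ f, InC z Q g f ∧ sign (pi f).1 ≠ 1 ∧
    ac f (ac x (co (g * z * g⁻¹))) = ac x (co (g * z * g⁻¹)) + co (g * z * g⁻¹) := by
  by_contra hcon
  have hfix : ∀ e, InC z Q g e → ac e (ac x (co (g * z * g⁻¹))) = ac x (co (g * z * g⁻¹)) := fun e he => by
    rcases u.meet_cases h he (u.xp_mem h hx hA) with e1 | e1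
    · exact e1
    · exact absurd ⟨e, he, fun hs => u.co_ne h (by
        have := u.fix_line h hx hA he hs
        rwa [e1, add_eq_left] at this), e1⟩ hcon
  rcases u.separate h (u.xp_mem h hx hA) hfix with e | e
  · have := (h.fpf3_top hx hA).cube (v := co (g * z * g⁻¹)) Submodule.mem_top
    rw [e, map_zero, map_zero] at this
    exact u.co_ne h this.symm
  · exact u.xp_ne h hx hA e

theorem card_even [Finite G] : Nat.card (h.img g ⊓ evenPart : Subgroup P36) = 4 := by
  have h128 := u.card_img_meet h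
  rw [u.finrank_meet h hx hA] at h128
  have h8 : Nat.card (h.img g) = 8 := by omega
  have hE := card_le_two_mul_even (h.img g)
  obtain ⟨f, hf, hs, -⟩ := u.exists_odd h hx hA
  have hlt : h.img g ⊓ evenPart < h.img g := lt_of_le_of_ne inf_le_left fun e =>
    hs ((e.symm ▸ (⟨f, hf, rfl⟩ : pi f ∈ h.img g) : pi f ∈ h.img g ⊓ evenPart).2)
  have hdvd := Subgroup.card_dvd_of_le (inf_le_left : h.img g ⊓ evenPart ≤ h.img g)
  have hne : Nat.card (h.img g ⊓ evenPart : Subgroup P36) ≠ 8 := fun e =>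
    hlt.ne (Subgroup.eq_of_le_of_card_ge inf_le_left (by omega))
  rw [h8] at hdvd
  have := Nat.le_of_dvd (by norm_num) hdvd
  generalize Nat.card (h.img g ⊓ evenPart : Subgroup P36) = m at *
  interval_cases m <;> omega

/-- A nontrivial even element moves the meet. -/
theorem moved [Finite G] {e : G} (he : InC z Q g e) (hs : sign (pi e).1 = 1)
    (hfix : ∀ v ∈ h.meet g, ac e v = v) : pi e = 1 := by
  classical
  by_contra hne
  have := h.finite
  let E0 := h.img g ⊓ evenPart
  have h4 : Nat.card E0 = 4 := u.card_even h hx hA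
  have heE : pi e ∈ E0 := ⟨⟨e, he, rfl⟩, hs⟩
  obtain ⟨δ, hδ, hδ'⟩ : ∃ δ ∈ E0, δ ∉ Subgroup.zpowers (pi e) := by
    refine SetLike.not_le_iff_exists.1 fun hle => ?_
    have := Subgroup.card_le_of_le hle
    rw [Nat.card_zpowers, orderOf_eq_prime (by rw [sq]; exact u.img_sq h heE.1) hne, h4] at this
    omega
  obtain ⟨f, hf, rfl⟩ := hδ.1
  have h22 : Nat.card (Subgroup.zpowers (pi e) ⊔ Subgroup.zpowers (pi f) : Subgroup P36) = 4 := by
    refine le_antisymm ?_ ?_
    · exact h4 ▸ Subgroup.card_le_of_le (sup_le (Subgroup.zpowers_le.2 heE) (Subgroup.zpowers_le.2 hδ))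
    · have hlt : Subgroup.zpowers (pi e) < Subgroup.zpowers (pi e) ⊔ Subgroup.zpowers (pi f) :=
        lt_of_le_of_ne le_sup_left fun e' => hδ' (by
          rw [e']; exact Subgroup.mem_sup_right (Subgroup.mem_zpowers _))
      have h2 : Nat.card (Subgroup.zpowers (pi e)) = 2 := by
        rw [Nat.card_zpowers, orderOf_eq_prime (by rw [sq]; exact u.img_sq h heE.1) hne]
      have hd := Subgroup.card_dvd_of_le hlt.le
      have hne' : Nat.card (Subgroup.zpowers (pi e) ⊔ Subgroup.zpowers (pi f) : Subgroup P36) ≠ 2 :=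
        fun e' => hlt.ne (Subgroup.eq_of_le_of_card_ge hlt.le (by omega))
      rw [h2] at hd
      have hpos : 0 < Nat.card (Subgroup.zpowers (pi e) ⊔ Subgroup.zpowers (pi f) : Subgroup P36) :=
        Nat.card_pos
      omega
  have hgen : Subgroup.zpowers (pi e) ⊔ Subgroup.zpowers (pi f) = E0 :=
    Subgroup.eq_of_le_of_card_ge (sup_le (Subgroup.zpowers_le.2 heE) (Subgroup.zpowers_le.2 hδ)) (by omega)
  let U := h.meet g ⊓ fixS (ac f)
  have h2 := u.le_two_of_even_fixed h hx hA (U := U) inf_le_left fun c hc hcs v hv => by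
    let N : Subgroup P36 :=
      { carrier := {γ | ∃ c, InC z Q g c ∧ pi c = γ ∧ ac c v = v}
        one_mem' := ⟨1, ⟨Commute.one_left z, by rw [mul_one, inv_mul_cancel]; exact one_mem Q⟩, h.pi_one,
          h.ac_one v⟩
        mul_mem' := fun ⟨a, ha, a1, a2⟩ ⟨b, hb, b1, b2⟩ =>
          ⟨a * b, ha.mul hb, by rw [h.pi_mul _ _ ha.1 hb.1, a1, b1], u.fix_mul h hx hA ha hb a2 b2⟩
        inv_mem' := fun ⟨a, ha, a1, a2⟩ =>
          ⟨a⁻¹, ha.inv, by rw [h.pi_inv ha.1, a1], by
            conv_lhs => rw [← a2, h.ac_inv ha.1]⟩ }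
    have hN : E0 ≤ N := hgen ▸ sup_le
      (Subgroup.zpowers_le.2 ⟨e, he, rfl, hfix v hv.1⟩)
      (Subgroup.zpowers_le.2 ⟨f, hf, rfl, mem_fixS.1 hv.2⟩)
    obtain ⟨a, ha, a1, a2⟩ := hN (⟨⟨c, hc, rfl⟩, hcs⟩ : pi c ∈ E0)
    rw [h.ac_eq_of_pi hc.1 ha.1 a1.symm]
    exact a2
  have h1 := u.finrank_fixed_le h hx hA hf (le_refl (h.meet g))
  rw [u.finrank_meet h hx hA] at h1
  change 4 ≤ Module.finrank F2 U + 1 at h1
  omega

theorem sup_Lperp [Finite G] : h.meet g ⊔ (h.meet g).map (ac x) = u.Lperp h x := by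
  have := h.finite
  have hF := h.fpf3_top hx hA
  have hinj : Function.Injective (ac x) := fun a b e => by
    have := congrArg (fun c => ac x (ac x c)) e
    simpa only [hF.cube Submodule.mem_top] using this
  refine Submodule.eq_of_le_of_finrank_le (sup_le (u.meet_le_Lperp h hx hA) ?_) ?_
  · rintro _ ⟨w, hw, rfl⟩
    exact u.x_Lperp h hx hA (u.meet_le_Lperp h hx hA hw)
  · have k1 := Submodule.finrank_sup_add_finrank_inf_eq (h.meet g) ((h.meet g).map (ac x))
    have k2 : h.meet g ⊓ (h.meet g).map (ac x) ≤ u.core h x := by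
      rintro _ ⟨hw, ⟨w, hw', rfl⟩⟩
      exact u.x_core h hx hA ⟨hw', hw⟩
    have k3 := Submodule.finrank_mono k2
    rw [u.core_eq h hx hA, u.finrank_line h hx hA] at k3
    rw [(Submodule.equivMapOfInjective (ac x) hinj (h.meet g)).finrank_eq.symm,
      u.finrank_meet h hx hA] at k1
    rw [u.finrank_Lperp h hx hA]
    omega

/-- A singular vector of the perpendicular of the line: some image of it lies in the meet. -/
theorem exists_collinear [Finite G] {v : V} (hv : v ∈ u.Lperp h x) (hq : Φ.q v = 0) :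
    v ∈ h.meet g ∨ ac x v ∈ h.meet g ∨ ac x (ac x v) ∈ h.meet g := by
  have := h.finite
  have hF := h.fpf3_top hx hA
  have hsup := u.sup_Lperp h hx hA
  obtain ⟨j, hj, _, ⟨k, hk, rfl⟩, rfl⟩ := Submodule.mem_sup.1 (hsup.symm ▸ hv)
  have hB : Φ.bil j (ac x k) = 0 := by
    rw [Φ.polar, u.meet_TS h j hj, h.ac_q hx.comm, u.meet_TS h k hk, zero_add, zero_add] at hq
    exact hq
  by_cases hjL : j ∈ u.core h x
  · right; right
    have e1 : ac x (ac x (j + ac x k)) = ac x (ac x j) + k := by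
      rw [map_add, map_add, hF.cube Submodule.mem_top]
    rw [e1]
    exact add_mem (u.x_core h hx hA (u.x_core h hx hA hjL)).1 hk
  -- the kernel of the pairing with `j` on the meet
  let K : Submodule F2 V := h.meet g ⊓ LinearMap.ker ((Φ.bil j).comp (ac x))
  have hK3 : Module.finrank F2 K ≤ 3 := by
    have hlt : K < h.meet g := lt_of_le_of_ne inf_le_left fun e => hjL (by
      have hperp : ∀ w ∈ u.Lperp h x, Φ.bil j w = 0 := fun w hw => by
        obtain ⟨a, ha, _, ⟨b, hb, rfl⟩, rfl⟩ := Submodule.mem_sup.1 (hsup.symm ▸ hw)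
        rw [map_add, (u.meet_TS h).bil_eq_zero Φ hj ha, zero_add]
        exact (e.symm ▸ hb : b ∈ K).2
      have h1 : j ∈ Φ.perp (u.Lperp h x) := fun w hw => (Φ.bil_comm _ _).trans (hperp w hw)
      rw [u.core_eq h hx hA]
      rw [Lperp, Φ.perp_perp] at h1
      exact h1)
    have := Submodule.finrank_lt_finrank_of_lt hlt
    rw [u.finrank_meet h hx hA] at this
    omega
  have hjK : j ∈ K := ⟨hj, (hF.bil_x Submodule.mem_top).trans (u.meet_TS h j hj)⟩
  have hLK : u.core h x ≤ K := fun w hw => by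
    refine ⟨hw.1, ?_⟩
    show Φ.bil j (ac x w) = 0
    exact (u.meet_TS h).bil_eq_zero Φ hj hw.2
  have hsup3 : u.core h x ⊔ Submodule.span F2 {j} = K := by
    refine Submodule.eq_of_le_of_finrank_le (sup_le hLK ((Submodule.span_singleton_le_iff_mem _ _).2 hjK)) ?_
    have hlt : u.core h x < u.core h x ⊔ Submodule.span F2 {j} :=
      lt_of_le_of_ne le_sup_left fun e => hjL (by
        rw [e]; exact Submodule.mem_sup_right (Submodule.mem_span_singleton_self j))
    have := Submodule.finrank_lt_finrank_of_lt hlt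
    rw [u.core_eq h hx hA, u.finrank_line h hx hA] at this
    rw [u.core_eq h hx hA]
    omega
  obtain ⟨l, hl, s, hs, hks⟩ := Submodule.mem_sup.1 (show k ∈ u.core h x ⊔ Submodule.span F2 {j} by rw [hsup3]; exact ⟨hk, hB⟩)
  obtain ⟨c, rfl⟩ := Submodule.mem_span_singleton.1 hs
  rcases f2_cases c with rfl | rfl
  · rw [zero_smul, add_zero] at hks
    subst hks
    left
    exact add_mem hj hl.2
  · rw [one_smul] at hks
    subst hks
    right; left
    have e1 : ac x (j + ac x (l + j)) = j + (ac x (ac x l) + (ac x j + ac x j)) := by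
      rw [map_add, map_add, map_add, hF.sq_eq (v := j) Submodule.mem_top]
      abel
    rw [e1, add_self_eq_zero', add_zero]
    exact add_mem hj (u.x_core h hx hA (u.x_core h hx hA hl)).1

end Pt

/-- The real part relative to a vector. -/
def Base.real (h : Base z Q Φ co ac pi) (g x : G) (w : V) : Submodule F2 V :=
  h.meet g ⊓ Φ.perp (Submodule.span F2 {w, ac x w})

theorem Base.mem_real (h : Base z Q Φ co ac pi) {w r : V} :
    r ∈ h.real g x w ↔ r ∈ h.meet g ∧ Φ.bil w r = 0 ∧ Φ.bil (ac x w) r = 0 := by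
  constructor
  · intro hr
    exact ⟨hr.1, hr.2 _ (Submodule.subset_span (Or.inl rfl)), hr.2 _ (Submodule.subset_span (Or.inr rfl))⟩
  · rintro ⟨h1, h2, h3⟩
    refine ⟨h1, fun a ha => ?_⟩
    obtain ⟨c, d, rfl⟩ := Submodule.mem_span_pair.1 ha
    rw [map_add, LinearMap.add_apply, map_smul, map_smul, LinearMap.smul_apply, LinearMap.smul_apply,
      h2, h3, smul_zero, smul_zero, add_zero]

namespace Pt

variable (u : Pt z Q g) (h : Base z Q Φ co ac pi) (hx : Lift3 z pi x) (hA : CaseA ac x)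
include u h hx hA

variable [Finite G] {w : V} (hw0 : Φ.bil (co (g * z * g⁻¹)) w = 0)
  (hw1 : Φ.bil (co (g * z * g⁻¹)) (ac x w) = 1)
include hw0 hw1

theorem bil_xp_w : Φ.bil (ac x (co (g * z * g⁻¹))) w = 1 := by
  have := u.bil_xx h hx hA (co (g * z * g⁻¹)) w
  rw [hw0, hw1, zero_add] at this
  exact this.symm

theorem split_meet {v : V} (hv : v ∈ h.meet g) :
    ∃ r ∈ h.real g x w, ∃ a b : F2,
      v = r + a • co (g * z * g⁻¹) + b • ac x (co (g * z * g⁻¹)) := by
  let a := Φ.bil (ac x w) v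
  let b := Φ.bil w v
  refine ⟨v + a • co (g * z * g⁻¹) + b • ac x (co (g * z * g⁻¹)), h.mem_real.2 ⟨?_, ?_, ?_⟩, a, b, ?_⟩
  · exact add_mem (add_mem hv (Submodule.smul_mem _ _ (u.co_mem h)))
      (Submodule.smul_mem _ _ (u.xp_mem h hx hA))
  · rw [map_add, map_add, map_smul, map_smul, Φ.bil_comm w (co _), hw0, Φ.bil_comm w (ac x _),
      u.bil_xp_w h hx hA hw0 hw1]
    simp only [smul_eq_mul, mul_zero, add_zero, mul_one, b, CharTwo.add_self_eq_zero]
  · rw [map_add, map_add, map_smul, map_smul, Φ.bil_comm (ac x w) (co _), hw1, h.ac_bil hx.comm,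
      Φ.bil_comm w, hw0]
    simp only [smul_eq_mul, mul_zero, add_zero, mul_one, a, CharTwo.add_self_eq_zero]
  · have k1 := add_self_eq_zero' (a • co (g * z * g⁻¹))
    have k2 := add_self_eq_zero' (b • ac x (co (g * z * g⁻¹)))
    calc v = v + (a • co (g * z * g⁻¹) + a • co (g * z * g⁻¹)) +
        (b • ac x (co (g * z * g⁻¹)) + b • ac x (co (g * z * g⁻¹))) := by
          rw [k1, k2, add_zero, add_zero]
      _ = _ := by abel

theorem real_x_disjoint {r : V} (hr : r ∈ h.real g x w) (hr' : ac x r ∈ h.meet g) : r = 0 := by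
  have hc : r ∈ u.core h x := ⟨hr.1, hr'⟩
  rw [u.core_eq h hx hA] at hc
  obtain ⟨a, b, rfl⟩ := Submodule.mem_span_pair.1 hc
  obtain ⟨-, e1, e2⟩ := h.mem_real.1 hr
  rw [map_add, map_smul, map_smul, Φ.bil_comm w, hw0, Φ.bil_comm w, u.bil_xp_w h hx hA hw0 hw1] at e1
  rw [map_add, map_smul, map_smul, Φ.bil_comm (ac x w), hw1, h.ac_bil hx.comm, Φ.bil_comm w, hw0] at e2
  simp only [smul_eq_mul, mul_zero, zero_add, add_zero, mul_one] at e1 e2
  rw [e1, e2, zero_smul, zero_smul, add_zero]

theorem finrank_real : Module.finrank F2 (h.real g x w) = 2 := by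
  have := h.finite
  have hsup : h.real g x w ⊔ Submodule.span F2 {co (g * z * g⁻¹), ac x (co (g * z * g⁻¹))} = h.meet g := by
    refine le_antisymm (sup_le inf_le_left (Submodule.span_le.2 ?_)) fun v hv => ?_
    · rintro a (rfl | rfl)
      exacts [u.co_mem h, u.xp_mem h hx hA]
    · obtain ⟨r, hr, a, b, rfl⟩ := u.split_meet h hx hA hw0 hw1 hv
      rw [add_assoc]
      exact add_mem (Submodule.mem_sup_left hr) (Submodule.mem_sup_right
        (Submodule.mem_span_pair.2 ⟨a, b, rfl⟩))
  have k := Submodule.finrank_sup_add_finrank_inf_eq (h.real g x w)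
    (Submodule.span F2 {co (g * z * g⁻¹), ac x (co (g * z * g⁻¹))})
  have hbot : h.real g x w ⊓ Submodule.span F2 {co (g * z * g⁻¹), ac x (co (g * z * g⁻¹))} = ⊥ := by
    rw [eq_bot_iff]
    rintro r ⟨hr, hc⟩
    rw [← u.core_eq h hx hA] at hc
    exact (Submodule.mem_bot _).2 (u.real_x_disjoint h hx hA hw0 hw1 hr hc.2)
  rw [hsup, hbot, finrank_bot, u.finrank_line h hx hA, u.finrank_meet h hx hA] at k
  omega

/-- The alternating pairing on the real part. -/
theorem real_rho {a b : V} (ha : a ∈ h.real g x w) (hb : b ∈ h.real g x w) (ha0 : a ≠ 0) (hb0 : b ≠ 0)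
    (hab : a ≠ b) : Φ.bil a (ac x b) = 1 := by
  have := h.finite
  refine (f2_cases _).resolve_left fun e => ?_
  have hspan : Submodule.span F2 ({a, b} : Set V) = h.real g x w := by
    refine Submodule.eq_of_le_of_finrank_le (Submodule.span_le.2 ?_) ?_
    · rintro c (rfl | rfl) <;> assumption
    · rw [u.finrank_real h hx hA hw0 hw1]
      have hlt : Submodule.span F2 ({a} : Set V) < Submodule.span F2 ({a, b} : Set V) := by
        refine lt_of_le_of_ne (Submodule.span_mono (by simp)) fun e' => ?_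
        have : b ∈ Submodule.span F2 ({a} : Set V) := by rw [e']; exact Submodule.subset_span (Or.inr rfl)
        obtain ⟨c, hc⟩ := Submodule.mem_span_singleton.1 this
        rcases f2_cases c with rfl | rfl
        · exact hb0 (by rw [← hc, zero_smul])
        · exact hab (by rw [← hc, one_smul])
      have := Submodule.finrank_lt_finrank_of_lt hlt
      rw [finrank_span_singleton ha0] at this
      omega
  refine ha0 (u.real_x_disjoint h hx hA hw0 hw1 ha ?_)
  -- `x a` would be perpendicular to the meet, hence in it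
  have hperp : ac x a ∈ Φ.perp (h.meet g) := fun v hv => by
    obtain ⟨r, hr, c, d, rfl⟩ := u.split_meet h hx hA hw0 hw1 hv
    have hl := (u.mem_Lperp h hx hA).1 (u.x_Lperp h hx hA (u.meet_le_Lperp h hx hA ha.1))
    simp only [map_add, map_smul, LinearMap.add_apply, LinearMap.smul_apply, hl.1, hl.2, smul_zero,
      add_zero]
    rw [← hspan] at hr
    obtain ⟨s, t, rfl⟩ := Submodule.mem_span_pair.1 hr
    have hbx : Φ.bil b (ac x a) = 0 := by
      rw [u.bil_xx h hx hA, Φ.bil_comm b a, Φ.bil_comm (ac x b), e, add_zero]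
      exact (u.meet_TS h).bil_eq_zero Φ ha.1 hb.1
    simp only [map_add, map_smul, LinearMap.add_apply, LinearMap.smul_apply,
      (h.fpf3_top hx hA).bil_x Submodule.mem_top, u.meet_TS h a ha.1, hbx, smul_zero, add_zero]
  have heq : h.meet g = Φ.perp (h.meet g) := by
    refine Submodule.eq_of_le_of_finrank_le ((u.meet_TS h).le_perp Φ) ?_
    have k := Φ.finrank_perp (h.meet g)
    rw [h.dim, u.finrank_meet h hx hA] at k
    rw [u.finrank_meet h hx hA]
    omega
  rw [heq]
  exact hperp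

theorem d_w {e : G} (he : InC z Q g e) :
    ∃ r ∈ h.real g x w, ∃ c : F2, ac e w = w + r + c • co (g * z * g⁻¹) := by
  obtain ⟨r, hr, a, b, e1⟩ := u.split_meet h hx hA hw0 hw1 (u.comm_perp h he hw0)
  have hb : b = 0 := by
    have e2 := Φ.polar w (w + ac e w)
    rw [← add_assoc, add_self_eq_zero', zero_add, h.ac_q he.1, u.meet_TS h _ (u.comm_perp h he hw0),
      add_zero, e1, map_add, map_add, map_smul, map_smul, (h.mem_real.1 hr).2.1, Φ.bil_comm w, hw0,
      Φ.bil_comm w, u.bil_xp_w h hx hA hw0 hw1] at e2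
    simpa using e2
  refine ⟨r, hr, a, ?_⟩
  rw [hb, zero_smul, add_zero] at e1
  rw [add_assoc, ← e1, ← add_assoc, add_self_eq_zero', zero_add]

theorem act_real {e : G} (he : InC z Q g e) (hs : sign (pi e).1 = 1) {r r' : V} {c : F2}
    (hr : r ∈ h.real g x w) (hr' : r' ∈ h.real g x w)
    (e1 : ac e w = w + r + c • co (g * z * g⁻¹)) :
    ac e r' = r' + Φ.bil r' (ac x r) • co (g * z * g⁻¹) := by
  obtain ⟨hm, -, h3⟩ := h.mem_real.1 hr'
  have hadj : Φ.bil (r' + ac e r') (ac x w) = Φ.bil r' (ac x r) := by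
    rw [← u.adjoint h he, h.ac_x_comm hx he.1 hs, e1]
    have hl := (u.mem_Lperp h hx hA).1 (u.meet_le_Lperp h hx hA hm)
    simp only [map_add, map_smul, Φ.bil_comm r' (ac x (co _)), hl.2, smul_zero, add_zero,
      Φ.bil_comm r' (ac x w), h3, zero_add]
  rcases u.meet_cases h he hm with e2 | e2 <;> rw [e2] at hadj ⊢
  · rw [add_self_eq_zero', map_zero, LinearMap.zero_apply] at hadj
    rw [← hadj, zero_smul, add_zero]
  · rw [← add_assoc, add_self_eq_zero', zero_add, hw1] at hadj
    rw [← hadj, one_smul]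

theorem frame_unique {e : G} (he : InC z Q g e) (hs : sign (pi e).1 = 1) {c : F2}
    (e1 : ac e w = w + c • co (g * z * g⁻¹)) : pi e = 1 := by
  refine u.moved h hx hA he hs fun v hv => ?_
  obtain ⟨r, hr, a, b, rfl⟩ := u.split_meet h hx hA hw0 hw1 hv
  rw [map_add, map_add, map_smul, map_smul, u.ac_fix h he, u.fix_line h hx hA he hs,
    u.act_real h hx hA hw0 hw1 he hs (zero_mem _) hr (c := c) (by rw [add_zero]; exact e1), map_zero,
    map_zero, zero_smul, add_zero]

/-- The even part of the conjugate: one element for each vector of the real part. -/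
theorem frame {r : V} (hr : r ∈ h.real g x w) :
    ∃ e, InC z Q g e ∧ sign (pi e).1 = 1 ∧ (∃ c : F2, ac e w = w + r + c • co (g * z * g⁻¹)) ∧
      ∀ r' ∈ h.real g x w, ac e r' = r' + Φ.bil r' (ac x r) • co (g * z * g⁻¹) := by
  classical
  have := h.finite
  have := h.finiteV
  let E0 := h.img g ⊓ evenPart
  have hch : ∀ γ : E0, ∃ r : h.real g x w, ∃ e, InC z Q g e ∧ pi e = γ.1 ∧
      ∃ c : F2, ac e w = w + r.1 + c • co (g * z * g⁻¹) := fun γ => by
    obtain ⟨e, he, e1⟩ := γ.2.1
    obtain ⟨s, hs, c, e2⟩ := u.d_w h hx hA hw0 hw1 he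
    exact ⟨⟨s, hs⟩, e, he, e1, c, e2⟩
  choose R hR using hch
  have hinj : Function.Injective R := fun γ δ e' => by
    obtain ⟨a, ha, a1, c, a2⟩ := hR γ
    obtain ⟨b, hb, b1, c', b2⟩ := hR δ
    rw [e'] at a2
    have hs : sign (pi (b⁻¹ * a)).1 = 1 := by
      rw [h.pi_mul _ _ hb.1.inv_left ha.1, h.pi_inv hb.1, a1, b1]
      exact mem_evenPart.1 (mul_mem (inv_mem (show δ.1 ∈ evenPart from δ.2.2)) γ.2.2)
    have e3 : ac a w = ac b w + (c + c') • co (g * z * g⁻¹) := by
      rw [a2, b2, add_smul, add_assoc (w + (R δ).1), add_left_comm (c' • _) (c • _),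
        add_self_eq_zero', add_zero]
    have e4 : ac (b⁻¹ * a) w = w + (c + c') • co (g * z * g⁻¹) := by
      rw [h.ac_mul hb.1.inv_left ha.1, e3, map_add, map_smul, h.ac_inv hb.1, u.ac_fix h hb.inv]
    have := u.frame_unique h hx hA hw0 hw1 (hb.inv.mul ha) hs e4
    rw [h.pi_mul _ _ hb.1.inv_left ha.1, h.pi_inv hb.1, a1, b1, inv_mul_eq_one] at this
    exact Subtype.ext this.symm
  have hcard : Nat.card (h.real g x w) ≤ Nat.card E0 := by
    rw [u.card_even h hx hA, Module.natCard_eq_pow_finrank (K := F2) (V := h.real g x w),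
      u.finrank_real h hx hA hw0 hw1, Nat.card_zmod]
    norm_num
  obtain ⟨γ, hγ⟩ := (hinj.bijective_of_nat_card_le hcard).2 ⟨r, hr⟩
  obtain ⟨e, he, e1, c, e2⟩ := hR γ
  rw [hγ] at e2
  have hs : sign (pi e).1 = 1 := by rw [e1]; exact γ.2.2
  exact ⟨e, he, hs, ⟨c, e2⟩, fun r' hr' => u.act_real h hx hA hw0 hw1 he hs hr hr' e2⟩

end Pt

end Cfsg.Agent.Lib.ExtraNine31
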