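import Mathlib.LinearAlgebra.BilinearForm.Orthogonal
import Mathlib.LinearAlgebra.Dimension.Finite
import Mathlib.Algebra.Module.ZMod
import Mathlib.Data.ZMod.Basic
import Mathlib.GroupTheory.Perm.Cycle.Type
import Mathlib.GroupTheory.Subgroup.Simple
import Mathlib.Tactic

/-!
# Quadratic spaces over the field with two elements: the facts used for `2^{1+8}.(S₃ × A₆)`

Owner: helper31.
-/

set_option autoImplicit false

namespace Cfsg.Agent.Lib.ExtraNine31

open LinearMap (BilinForm)

/-- The field with two elements. -/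
abbrev F2 : Type := ZMod 2

theorem f2_cases : ∀ a : F2, a = 0 ∨ a = 1 := by decide

/-- A nondegenerate quadratic space over the field with two elements. -/
structure QF (V : Type*) [AddCommGroup V] [Module F2 V] where
  /-- The quadratic form. -/
  q : V → F2
  /-- Its polar form. -/
  bil : BilinForm F2 V
  polar : ∀ v w, q (v + w) = q v + q w + bil v w
  nondeg : bil.Nondegenerate

variable {V : Type*} [AddCommGroup V] [Module F2 V]

theorem add_self_eq_zero' (v : V) : v + v = 0 := by
  rw [← two_smul F2, show (2 : F2) = 0 from rfl, zero_smul]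

namespace QF

variable (Φ : QF V)

theorem q_zero : Φ.q 0 = 0 := by
  have := Φ.polar 0 0
  rw [add_zero, map_zero] at this
  revert this
  rcases f2_cases (Φ.q 0) with h | h <;> rw [h] <;> decide

theorem bil_self (v : V) : Φ.bil v v = 0 := by
  have := Φ.polar v v
  rw [add_self_eq_zero', Φ.q_zero, CharTwo.add_self_eq_zero, zero_add] at this
  exact this.symm

theorem bil_comm (v w : V) : Φ.bil v w = Φ.bil w v := by
  have h1 := Φ.polar v w
  rw [add_comm v w, Φ.polar w v, add_comm (Φ.q w)] at h1
  exact (add_left_cancel h1).symm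

theorem isRefl : Φ.bil.IsRefl := fun v w h => (Φ.bil_comm w v).trans h

/-- The perpendicular of a subspace. -/
def perp (W : Submodule F2 V) : Submodule F2 V := Φ.bil.orthogonal W

theorem mem_perp {W : Submodule F2 V} {v : V} : v ∈ Φ.perp W ↔ ∀ w ∈ W, Φ.bil w v = 0 := Iff.rfl

theorem finrank_perp [Module.Finite F2 V] (W : Submodule F2 V) :
    Module.finrank F2 W + Module.finrank F2 (Φ.perp W) = Module.finrank F2 V := by
  have h1 := LinearMap.BilinForm.finrank_orthogonal Φ.nondeg W
  have h2 := Submodule.finrank_le W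
  show _ + Module.finrank F2 (Φ.bil.orthogonal W) = _
  omega

theorem perp_perp [Module.Finite F2 V] (W : Submodule F2 V) : Φ.perp (Φ.perp W) = W :=
  LinearMap.BilinForm.orthogonal_orthogonal Φ.nondeg Φ.isRefl W

theorem perp_anti {W U : Submodule F2 V} (h : W ≤ U) : Φ.perp U ≤ Φ.perp W :=
  LinearMap.BilinForm.orthogonal_le h

theorem eq_zero_of_perp {v : V} (h : ∀ w, Φ.bil w v = 0) : v = 0 :=
  Φ.nondeg.2 v h

theorem exists_bil_one {v : V} (h : v ≠ 0) : ∃ w, Φ.bil w v = 1 := by
  by_contra hc
  exact h (Φ.eq_zero_of_perp fun w => (f2_cases _).resolve_right fun e => hc ⟨w, e⟩)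

/-- A totally singular subspace. -/
def TS (W : Submodule F2 V) : Prop := ∀ w ∈ W, Φ.q w = 0

theorem TS.bil_eq_zero {W : Submodule F2 V} (h : Φ.TS W) {v w : V} (hv : v ∈ W) (hw : w ∈ W) :
    Φ.bil v w = 0 := by
  have := Φ.polar v w
  rw [h _ (add_mem hv hw), h v hv, h w hw, add_zero, zero_add] at this
  exact this.symm

theorem TS.le_perp {W : Submodule F2 V} (h : Φ.TS W) : W ≤ Φ.perp W :=
  fun _ hv _ hw => h.bil_eq_zero Φ hw hv

theorem TS.two_finrank_le [Module.Finite F2 V] {W : Submodule F2 V} (h : Φ.TS W) :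
    2 * Module.finrank F2 W ≤ Module.finrank F2 V := by
  have h1 := Submodule.finrank_mono (h.le_perp Φ)
  have h2 := Φ.finrank_perp W
  omega

theorem q_add_of_orth {v w : V} (h : Φ.bil v w = 0) : Φ.q (v + w) = Φ.q v + Φ.q w := by
  rw [Φ.polar, h, add_zero]

/-- An automorphism of order three without fixed points, preserving the form. -/
structure Fpf3 (U : Submodule F2 V) (x : V →ₗ[F2] V) : Prop where
  sum : ∀ v ∈ U, v + x v + x (x v) = 0
  iso : ∀ v ∈ U, Φ.q (x v) = Φ.q v
  mem : ∀ v ∈ U, x v ∈ U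

variable {Φ} {U : Submodule F2 V} {x : V →ₗ[F2] V}

theorem Fpf3.sq_eq (h : Φ.Fpf3 U x) {v : V} (hv : v ∈ U) : x (x v) = v + x v := by
  have := eq_neg_of_add_eq_zero_right (h.sum v hv)
  rw [this, neg_eq_iff_add_eq_zero]
  exact add_self_eq_zero' _

theorem Fpf3.cube (h : Φ.Fpf3 U x) {v : V} (hv : v ∈ U) : x (x (x v)) = v := by
  rw [h.sq_eq (h.mem v hv), h.sq_eq hv, add_comm v, ← add_assoc, add_self_eq_zero', zero_add]

theorem Fpf3.bil_x (h : Φ.Fpf3 U x) {v : V} (hv : v ∈ U) : Φ.bil v (x v) = Φ.q v := by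
  have h1 := Φ.polar v (x v)
  rw [← h.sq_eq hv, h.iso _ (h.mem v hv), h.iso v hv] at h1
  rw [CharTwo.add_self_eq_zero, zero_add] at h1
  exact h1.symm

/-- An invariant subspace on which the form is additive is totally singular. -/
theorem Fpf3.ts_of_isotropic (h : Φ.Fpf3 U x) {W : Submodule F2 V} (hWU : W ≤ U)
    (hW : ∀ w ∈ W, x w ∈ W) (hi : ∀ v ∈ W, ∀ w ∈ W, Φ.bil v w = 0) : Φ.TS W := fun v hv => by
  rw [← h.bil_x (hWU hv)]
  exact hi v hv _ (hW v hv)

theorem Fpf3.fixed (h : Φ.Fpf3 U x) {v : V} (hvU : v ∈ U) (hv : x v = v) : v = 0 := by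
  have := h.sum v hvU
  rwa [hv, hv, add_self_eq_zero', zero_add] at this

/-- Invariant subspaces have even dimension. -/
theorem Fpf3.even [Finite V] (h : Φ.Fpf3 U x) {W : Submodule F2 V} (hWU : W ≤ U)
    (hW : ∀ w ∈ W, x w ∈ W) :
    Even (Module.finrank F2 W) := by
  classical
  by_contra hne
  have := Fintype.ofFinite V
  have hc : Fintype.card W = 2 ^ Module.finrank F2 W := Module.card_eq_pow_finrank (K := F2)
  let σ : Equiv.Perm {w : W // w ≠ 0} :=
    { toFun := fun w => ⟨⟨x w.1.1, hW _ w.1.2⟩, fun e => w.2 (Subtype.ext (by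
        have e' : x w.1.1 = 0 := congrArg Subtype.val e
        simpa [e'] using (h.cube (hWU w.1.2)).symm))⟩
      invFun := fun w => ⟨⟨x (x w.1.1), hW _ (hW _ w.1.2)⟩, fun e => w.2 (Subtype.ext (by
        have e' : x (x w.1.1) = 0 := congrArg Subtype.val e
        simpa [e'] using (h.cube (hWU w.1.2)).symm))⟩
      left_inv := fun w => by ext; exact h.cube (hWU w.1.2)
      right_inv := fun w => by ext; exact h.cube (hWU w.1.2) }
  have hσ : σ ^ 3 ^ 1 = 1 := by
    ext w
    exact h.cube (hWU w.1.2)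
  have : Fact (Nat.Prime 3) := ⟨Nat.prime_three⟩
  have hnd : ¬ 3 ∣ Fintype.card {w : W // w ≠ 0} := by
    rw [Fintype.card_subtype_compl, Fintype.card_subtype_eq, hc]
    obtain ⟨k, hk⟩ := Nat.not_even_iff_odd.1 hne
    have h4 : 4 ^ k % 3 = 1 := by rw [Nat.pow_mod]; norm_num
    have h4p : 1 ≤ 4 ^ k := Nat.one_le_pow _ _ (by norm_num)
    rw [hk, pow_add, pow_mul, pow_one, show (2 : ℕ) ^ 2 = 4 from rfl]
    omega
  obtain ⟨w, hw⟩ := Equiv.Perm.exists_fixed_point_of_prime hnd hσ
  exact w.2 (Subtype.ext (h.fixed (hWU w.1.2) (congrArg (fun u => (u.1.1 : V)) hw)))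

variable (Φ)

/-- An automorphism of order five without fixed points on a subspace. -/
structure Fpf5 (W : Submodule F2 V) (y : V →ₗ[F2] V) : Prop where
  mem : ∀ w ∈ W, y w ∈ W
  pow : ∀ w ∈ W, y (y (y (y (y w)))) = w
  free : ∀ w ∈ W, y w = w → w = 0

variable {Φ} {W : Submodule F2 V} {y : V →ₗ[F2] V}

theorem Fpf5.iterate_mem (hy : Fpf5 W y) {w : V} (hw : w ∈ W) : ∀ n, y^[n] w ∈ W
  | 0 => hw
  | n + 1 => by rw [Function.iterate_succ_apply']; exact hy.mem _ (hy.iterate_mem hw n)

theorem Fpf5.iterate_mod (hy : Fpf5 W y) {w : V} (hw : w ∈ W) (n : ℕ) : y^[n] w = y^[n % 5] w := by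
  conv_lhs => rw [← Nat.div_add_mod n 5, add_comm, Function.iterate_add_apply]
  congr 1
  induction n / 5 with
  | zero => rfl
  | succ k ih =>
    rw [Nat.mul_succ, Function.iterate_add_apply, show y^[5] w = w from hy.pow w hw, ih]

theorem Fpf5.eq_zero_of_iterate (hy : Fpf5 W y) {w : V} (hw : w ∈ W) {n : ℕ} (hn : n % 5 ≠ 0)
    (e : y^[n] w = w) : w = 0 := by
  rw [hy.iterate_mod hw] at e
  have hk : ∀ k, y^[k * (n % 5)] w = w := fun k => by
    induction k with
    | zero => simp
    | succ k ih => rw [Nat.succ_mul, Function.iterate_add_apply, e, ih]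
  have h5 : n % 5 < 5 := Nat.mod_lt _ (by norm_num)
  obtain ⟨k, hk'⟩ : ∃ k, k * (n % 5) % 5 = 1 := by
    interval_cases n % 5
    exacts [absurd rfl hn, ⟨1, rfl⟩, ⟨3, rfl⟩, ⟨2, rfl⟩, ⟨4, rfl⟩]
  refine hy.free w hw ?_
  have := hk k
  rwa [hy.iterate_mod hw, hk'] at this

/-- The orbit of a nonzero vector has five elements. -/
theorem Fpf5.orbit_inj (hy : Fpf5 W y) {w : V} (hw : w ∈ W) (h0 : w ≠ 0) :
    Function.Injective fun i : Fin 5 => y^[i.val] w := by
  intro i j e
  simp only at e
  by_contra hne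
  have key : ∀ a b : ℕ, a < b → b < 5 → y^[a] w = y^[b] w → False := fun a b hab hb e' => by
    refine h0 (hy.eq_zero_of_iterate hw (n := b + (5 - a)) (by omega) ?_)
    rw [add_comm, Function.iterate_add_apply, ← e', ← Function.iterate_add_apply,
      show 5 - a + a = 5 from by omega]
    exact hy.pow w hw
  rcases Nat.lt_or_ge i.val j.val with h | h
  · exact key _ _ h j.isLt e
  · exact key _ _ (lt_of_le_of_ne h fun e' => hne (Fin.ext e'.symm)) i.isLt e.symm

/-- A space of dimension four has no commuting isometries of orders three and five, both free. -/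
theorem false_of_transitive [Finite V] (hx : Φ.Fpf3 W x) (hy : Fpf5 W y)
    (hc : ∀ w ∈ W, x (y w) = y (x w)) (hyq : ∀ w ∈ W, Φ.q (y w) = Φ.q w)
    (hd : Module.finrank F2 W = 4) (hn : ∀ v ∈ W, (∀ w ∈ W, Φ.bil w v = 0) → v = 0) : False := by
  classical
  have := Fintype.ofFinite V
  have hW16 : Fintype.card W = 16 := by rw [Module.card_eq_pow_finrank (K := F2), hd]; rfl
  obtain ⟨v, hv, hv0⟩ : ∃ v ∈ W, v ≠ 0 := by
    refine Submodule.exists_mem_ne_zero_of_ne_bot fun e => ?_
    rw [e, finrank_bot] at hd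
    exact absurd hd (by norm_num)
  have hxi : ∀ n, ∀ w ∈ W, x^[n] w ∈ W := fun n => by
    induction n with
    | zero => exact fun w hw => hw
    | succ n ih => intro w hw; rw [Function.iterate_succ_apply']; exact hx.mem _ (ih w hw)
  have hcn : ∀ n, ∀ w ∈ W, x (y^[n] w) = y^[n] (x w) := fun n => by
    induction n with
    | zero => exact fun w _ => rfl
    | succ n ih =>
      intro w hw
      rw [Function.iterate_succ_apply', hc _ (hy.iterate_mem hw n), ih w hw,
        Function.iterate_succ_apply']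
  let f : Fin 3 × Fin 5 → {w : W // w ≠ 0} := fun p => ⟨⟨y^[p.2.val] (x^[p.1.val] v),
    hy.iterate_mem (hxi _ v hv) _⟩, fun e => by
      have e1 : y^[p.2.val] (x^[p.1.val] v) = 0 := congrArg Subtype.val e
      have e2 : x^[p.1.val] v = 0 := by
        by_contra hne
        refine hne (hy.eq_zero_of_iterate (hxi _ v hv) (n := 1) (by norm_num) ?_)
        exfalso
        have := hy.orbit_inj (hxi _ v hv) hne
        have h5 : ∀ i : ℕ, y^[i] (0 : V) = 0 := fun i => by
          induction i with
          | zero => rfl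
          | succ i ih => rw [Function.iterate_succ_apply', ih, map_zero]
        have hw : x^[p.1.val] v = 0 := by
          have h0 := congrArg (y^[5 - p.2.val]) e1
          rw [h5, ← Function.iterate_add_apply, show 5 - p.2.val + p.2.val = 5 from by omega] at h0
          exact (hy.pow _ (hxi _ v hv)).symm.trans h0
        exact hne hw
      rcases (show p.1.val = 0 ∨ p.1.val = 1 ∨ p.1.val = 2 by omega) with h | h | h <;> rw [h] at e2
      · exact hv0 e2
      · have := hx.cube hv
        rw [show x v = 0 from e2, map_zero, map_zero] at this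
        exact hv0 this.symm
      · have := hx.cube hv
        rw [show x (x v) = 0 from e2, map_zero] at this
        exact hv0 this.symm⟩
  have hfi : Function.Injective f := by
    rintro ⟨i, j⟩ ⟨i', j'⟩ e
    have e' : y^[j.val] (x^[i.val] v) = y^[j'.val] (x^[i'.val] v) :=
      congrArg (fun u : {w : W // w ≠ 0} => (u.1.1 : V)) e
    suffices hi : i = i' by
      subst hi
      have hne : x^[i.val] v ≠ 0 := fun e0 => by
        have h3 := congrArg (x^[3 - i.val]) e0
        rw [← Function.iterate_add_apply, show 3 - i.val + i.val = 3 from by omega] at h3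
        rw [show x^[3] v = v from hx.cube hv, show x^[3 - i.val] (0 : V) = 0 from ?_] at h3
        · exact hv0 h3
        · induction 3 - i.val with
          | zero => rfl
          | succ n ih => rw [Function.iterate_succ_apply', ih, map_zero]
      have := hy.orbit_inj (hxi _ v hv) hne e'
      exact Prod.ext rfl this
    by_contra hne
    -- `x^k v` lies in the orbit of `y`, and then `x` fixes `v`
    have h5 : ∀ k : ℕ, ∀ n, y^[n] v = x^[k] v → k % 3 = 0 := fun k n en => by
      by_contra hk
      have h3 : x^[3] v = v := hx.cube hv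
      have hkm : x^[k] v = x^[k % 3] v := by
        conv_lhs => rw [← Nat.div_add_mod k 3, add_comm, Function.iterate_add_apply]
        congr 1
        induction k / 3 with
        | zero => rfl
        | succ m ih => rw [Nat.mul_succ, Function.iterate_add_apply, h3, ih]
      -- applying `x` three times gives `y^(3n) v = v`
      have hxy : ∀ m, x^[m * k] v = y^[m * n] v := fun m => by
        induction m with
        | zero => simp
        | succ m ih =>
          rw [Nat.succ_mul, Function.iterate_add_apply, ← en]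
          have hcomm : ∀ a, x^[a] (y^[n] v) = y^[n] (x^[a] v) := fun a => by
            induction a with
            | zero => rfl
            | succ a iha =>
              rw [Function.iterate_succ_apply', iha, hcn n _ (hxi a v hv),
                ← Function.iterate_succ_apply' x]
          rw [hcomm, ih, ← Function.iterate_add_apply, Nat.succ_mul, add_comm]
      have h3k : x^[3 * k] v = v := by
        clear * - h3
        induction k with
        | zero => rfl
        | succ m ih => rw [Nat.mul_succ, Function.iterate_add_apply, h3, ih]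
      by_cases hn5 : n % 5 = 0
      · rw [hy.iterate_mod hv, hn5, Function.iterate_zero_apply, hkm] at en
        rcases (show k % 3 = 1 ∨ k % 3 = 2 by omega) with h | h <;> rw [h] at en
        · exact hv0 (hx.fixed hv en.symm)
        · refine hv0 (hx.fixed hv ?_)
          conv_lhs => rw [show v = x (x v) from en, hx.cube hv]
      · exact hv0 (hy.eq_zero_of_iterate hv (n := 3 * n) (by omega) ((hxy 3).symm.trans h3k))
    have hcomm : ∀ a b, x^[a] (y^[b] v) = y^[b] (x^[a] v) := fun a b => by
      induction a with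
      | zero => rfl
      | succ a iha =>
        rw [Function.iterate_succ_apply', iha, hcn b _ (hxi a v hv), ← Function.iterate_succ_apply' x]
    have e2 := congrArg (fun u => y^[5 - j'.val] (x^[3 - i.val] u)) e'
    simp only [← hcomm, ← Function.iterate_add_apply] at e2
    rw [show 3 - i.val + i.val = 3 from by omega,
      show x^[3] (y^[j.val] v) = y^[j.val] v from hx.cube (hy.iterate_mem hv _), ← Function.iterate_add_apply, hcomm,
      ← Function.iterate_add_apply, show 5 - j'.val + j'.val = 5 from by omega,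
      show y^[5] (x^[3 - i.val + i'.val] v) = x^[3 - i.val + i'.val] v from hy.pow _ (hxi _ v hv)] at e2
    have := h5 _ _ e2
    exact hne (Fin.ext (by omega))
  have hbij : Function.Bijective f := by
    rw [Fintype.bijective_iff_injective_and_card]
    refine ⟨hfi, ?_⟩
    rw [Fintype.card_prod, Fintype.card_fin, Fintype.card_fin, Fintype.card_subtype_compl,
      Fintype.card_subtype_eq, hW16]
  have hyi : ∀ n, ∀ w ∈ W, Φ.q (y^[n] w) = Φ.q w := fun n => by
    induction n with
    | zero => exact fun w _ => rfl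
    | succ n ih =>
      intro w hw
      rw [Function.iterate_succ_apply', hyq _ (hy.iterate_mem hw n), ih w hw]
  have hxq : ∀ n, Φ.q (x^[n] v) = Φ.q v := fun n => by
    induction n with
    | zero => rfl
    | succ n ih => rw [Function.iterate_succ_apply', hx.iso _ (hxi n v hv), ih]
  have hconst : ∀ w ∈ W, w ≠ 0 → Φ.q w = Φ.q v := fun w hw h0 => by
    obtain ⟨p, hp⟩ := hbij.2 ⟨⟨w, hw⟩, fun e => h0 (congrArg Subtype.val e)⟩
    rw [show w = y^[p.2.val] (x^[p.1.val] v) from
      (congrArg (fun u : {w : W // w ≠ 0} => (u.1.1 : V)) hp).symm, hyi _ _ (hxi _ v hv), hxq]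
  obtain ⟨w, hw, hw1⟩ : ∃ w ∈ W, Φ.bil w v = 1 := by
    by_contra hcon
    exact hv0 (hn v hv fun w hw => (f2_cases _).resolve_right fun e => hcon ⟨w, hw, e⟩)
  have hw0 : w ≠ 0 := fun e => by rw [e, map_zero, LinearMap.zero_apply] at hw1; exact absurd hw1 (by decide)
  have hwv : w + v ≠ 0 := fun e => by
    have : w = v := by rw [← add_zero w, ← add_self_eq_zero' v, ← add_assoc, e, zero_add]
    rw [this, Φ.bil_self] at hw1
    exact absurd hw1 (by decide)
  have h1 := Φ.polar w v
  rw [hconst w hw hw0, hconst _ (add_mem hw hv) hwv, hw1, CharTwo.add_self_eq_zero, zero_add] at h1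
  -- so every nonzero vector is nonsingular, and two of them with their sum meet every third in a 1
  have hb : ∀ a ∈ W, ∀ b ∈ W, a ≠ 0 → b ≠ 0 → a + b ≠ 0 → Φ.bil a b = 1 := fun a ha b hb ha0 hb0 hab => by
    have h2 := Φ.polar a b
    rw [hconst a ha ha0, hconst b hb hb0, hconst _ (add_mem ha hb) hab, h1, CharTwo.add_self_eq_zero,
      zero_add] at h2
    exact h2.symm
  obtain ⟨u, hu, hu'⟩ : ∃ u ∈ W, u ∉ Submodule.span F2 ({v, w} : Set V) := by
    by_contra hcon
    simp only [not_exists, not_and, not_not] at hcon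
    have h2 : Module.finrank F2 W ≤ 2 := by
      refine le_trans (Submodule.finrank_mono hcon) ?_
      refine le_trans (finrank_span_le_card (R := F2) ({v, w} : Set V)) ?_
      simp only [Set.toFinset_insert, Set.toFinset_singleton]
      exact Finset.card_le_two
    omega
  have hvs : v ∈ Submodule.span F2 ({v, w} : Set V) := Submodule.subset_span (Or.inl rfl)
  have hws : w ∈ Submodule.span F2 ({v, w} : Set V) := Submodule.subset_span (Or.inr rfl)
  have ne1 : ∀ a ∈ Submodule.span F2 ({v, w} : Set V), u + a ≠ 0 := fun a ha e => hu' (by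
    rw [show u = a by rw [← add_zero u, ← add_self_eq_zero' a, ← add_assoc, e, zero_add]]
    exact ha)
  have hu0 : u ≠ 0 := fun e => hu' (e ▸ zero_mem _)
  have e3 := map_add (Φ.bil u) v w
  rw [hb u hu v hv hu0 hv0 (ne1 v hvs), hb u hu w hw hu0 hw0 (ne1 w hws),
    hb u hu (v + w) (add_mem hv hw) hu0 (by rwa [add_comm]) (ne1 _ (add_mem hvs hws))] at e3
  exact absurd e3 (by decide)

/-- A simple group of order greater than `120` has no subspace of dimension four with a free five-element. -/
theorem false_of_five [Finite V] {A : Type*} [Group A] [IsSimpleGroup A] (hA : 120 < Nat.card A)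
    (act : A →* (V ≃ₗ[F2] V)) (hAW : ∀ a, ∀ w ∈ W, act a w ∈ W)
    (hAq : ∀ a, ∀ w ∈ W, Φ.q (act a w) = Φ.q w) {a₅ : A} (hy : Fpf5 W (act a₅ : V →ₗ[F2] V))
    (hd : Module.finrank F2 W = 4) (hn : ∀ v ∈ W, (∀ w ∈ W, Φ.bil w v = 0) → v = 0) : False := by
  classical
  have := Fintype.ofFinite V
  let S : F2 → Finset V := fun e => Finset.univ.filter fun w => w ∈ W ∧ w ≠ 0 ∧ Φ.q w = e
  have hinv : ∀ e a, ∀ w ∈ S e, act a w ∈ S e := fun e a w hw => by
    simp only [S, Finset.mem_filter, Finset.mem_univ, true_and] at hw ⊢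
    exact ⟨hAW a w hw.1, fun h0 => hw.2.1 ((act a).map_eq_zero_iff.1 h0), (hAq a w hw.1).trans hw.2.2⟩
  have hyS : ∀ e n, ∀ w ∈ S e, (act a₅ : V →ₗ[F2] V)^[n] w ∈ S e := fun e n => by
    induction n with
    | zero => exact fun w hw => hw
    | succ n ih => intro w hw; rw [Function.iterate_succ_apply']; exact hinv e a₅ _ (ih w hw)
  -- each of the two sets is a union of orbits of length five
  have hfive : ∀ e, 5 ∣ (S e).card := fun e => by
    let σ : Equiv.Perm (S e) :=
      { toFun := fun w => ⟨act a₅ w.1, hinv e a₅ _ w.2⟩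
        invFun := fun w => ⟨act a₅⁻¹ w.1, hinv e _ _ w.2⟩
        left_inv := fun w => by
          ext
          show act a₅⁻¹ (act a₅ w.1) = w.1
          rw [← LinearEquiv.mul_apply, ← map_mul, inv_mul_cancel, map_one]
          rfl
        right_inv := fun w => by
          ext
          show act a₅ (act a₅⁻¹ w.1) = w.1
          rw [← LinearEquiv.mul_apply, ← map_mul, mul_inv_cancel, map_one]
          rfl }
    have hσ : σ ^ 5 ^ 1 = 1 := by
      ext w
      have hw : w.1 ∈ W := ((Finset.mem_filter.1 w.2).2).1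
      exact hy.pow _ hw
    have : Fact (Nat.Prime 5) := ⟨by norm_num⟩
    by_contra hnd
    rw [← Fintype.card_coe] at hnd
    obtain ⟨w, hw⟩ := Equiv.Perm.exists_fixed_point_of_prime hnd hσ
    have hw' := (Finset.mem_filter.1 w.2).2
    exact hw'.2.1 (hy.free _ hw'.1 (congrArg Subtype.val hw))
  have hsum : (S 0).card + (S 1).card = 15 := by
    rw [← Finset.card_union_of_disjoint]
    · have : S 0 ∪ S 1 = (Finset.univ.filter fun w => w ∈ W).erase 0 := by
        ext w
        simp only [S, Finset.mem_union, Finset.mem_filter, Finset.mem_univ, true_and, Finset.mem_erase]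
        rcases f2_cases (Φ.q w) with h | h <;> simp [h, and_comm]
      rw [this, Finset.card_erase_of_mem (by simp), ← Fintype.card_subtype,
        show Fintype.card {w // w ∈ W} = 16 by
          rw [Module.card_eq_pow_finrank (K := F2) (V := W), hd]; rfl]
    · rw [Finset.disjoint_left]
      simp only [S, Finset.mem_filter, Finset.mem_univ, true_and]
      rintro w ⟨-, -, h0⟩ ⟨-, -, h1⟩
      rw [h0] at h1
      exact absurd h1 (by decide)
  -- neither is empty
  have hne : ∀ e, (S e).card ≠ 15 := fun e h15 => by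
    have hall : ∀ w ∈ W, w ≠ 0 → Φ.q w = e := fun w hw h0 => by
      by_contra hq
      have h2 : (S (e + 1)).card = 0 := by
        rcases f2_cases e with rfl | rfl
        · simpa using (show (S 1).card = 0 by omega)
        · simpa [show (1 : F2) + 1 = 0 from rfl] using (show (S 0).card = 0 by omega)
      rw [Finset.card_eq_zero] at h2
      have : w ∈ S (e + 1) := by
        simp only [S, Finset.mem_filter, Finset.mem_univ, true_and]
        refine ⟨hw, h0, ?_⟩
        rcases f2_cases e with rfl | rfl <;> rcases f2_cases (Φ.q w) with h | h <;>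
          first | exact absurd h hq | rw [h]; rfl
      rw [h2] at this
      exact Finset.notMem_empty _ this
    obtain ⟨v, hv, hv0⟩ : ∃ v ∈ W, v ≠ 0 := by
      refine Submodule.exists_mem_ne_zero_of_ne_bot fun e' => ?_
      rw [e', finrank_bot] at hd
      exact absurd hd (by norm_num)
    obtain ⟨u, hu, hu1⟩ : ∃ u ∈ W, Φ.bil u v = 1 := by
      by_contra hcon
      exact hv0 (hn v hv fun w hw => (f2_cases _).resolve_right fun e' => hcon ⟨w, hw, e'⟩)
    obtain ⟨r, hr, hr'⟩ : ∃ r ∈ W, r ∉ Submodule.span F2 ({u, v} : Set V) := by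
      by_contra hcon
      simp only [not_exists, not_and, not_not] at hcon
      have h2 : Module.finrank F2 W ≤ 2 := by
        refine le_trans (Submodule.finrank_mono hcon) ?_
        refine le_trans (finrank_span_le_card (R := F2) ({u, v} : Set V)) ?_
        simp only [Set.toFinset_insert, Set.toFinset_singleton]
        exact Finset.card_le_two
      omega
    have hsp : ∀ a ∈ Submodule.span F2 ({u, v} : Set V), r + a ≠ 0 := fun a ha e' => hr' (by
      rw [show r = a by rw [← add_zero r, ← add_self_eq_zero' a, ← add_assoc, e', zero_add]]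
      exact ha)
    have hus : u ∈ Submodule.span F2 ({u, v} : Set V) := Submodule.subset_span (Or.inl rfl)
    have hvs : v ∈ Submodule.span F2 ({u, v} : Set V) := Submodule.subset_span (Or.inr rfl)
    have hu0 : u ≠ 0 := fun e' => by rw [e', map_zero, LinearMap.zero_apply] at hu1; exact absurd hu1 (by decide)
    have huv : u + v ≠ 0 := fun e' => by
      have : u = v := by rw [← add_zero u, ← add_self_eq_zero' v, ← add_assoc, e', zero_add]
      rw [this, Φ.bil_self] at hu1
      exact absurd hu1 (by decide)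
    have hr0 : r ≠ 0 := fun e' => hr' (e' ▸ zero_mem _)
    have h1 := Φ.polar u v
    rw [hall u hu hu0, hall v hv hv0, hall _ (add_mem hu hv) huv, hu1, CharTwo.add_self_eq_zero,
      zero_add] at h1
    have hb : ∀ a ∈ W, a ∈ Submodule.span F2 ({u, v} : Set V) → a ≠ 0 → Φ.bil r a = 1 := fun a ha has ha0 => by
      have h2 := Φ.polar r a
      rw [hall r hr hr0, hall a ha ha0, hall _ (add_mem hr ha) (hsp a has), h1, CharTwo.add_self_eq_zero,
        zero_add] at h2
      exact h2.symm
    have e3 := map_add (Φ.bil r) u v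
    rw [hb u hu hus hu0, hb v hv hvs hv0, hb _ (add_mem hu hv) (add_mem hus hvs) huv] at e3
    exact absurd e3 (by decide)
  obtain ⟨e, he⟩ : ∃ e, (S e).card = 5 := by
    obtain ⟨a, ha⟩ := hfive 0
    obtain ⟨b, hb⟩ := hfive 1
    have := hne 0
    have := hne 1
    rcases (show (S 0).card = 5 ∨ (S 1).card = 5 by omega) with h | h <;> exact ⟨_, h⟩
  let π : A →* Equiv.Perm (S e) :=
    { toFun := fun a =>
        { toFun := fun w => ⟨act a w.1, hinv e a _ w.2⟩
          invFun := fun w => ⟨act a⁻¹ w.1, hinv e _ _ w.2⟩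
          left_inv := fun w => by
            ext
            show act a⁻¹ (act a w.1) = w.1
            rw [← LinearEquiv.mul_apply, ← map_mul, inv_mul_cancel, map_one]
            rfl
          right_inv := fun w => by
            ext
            show act a (act a⁻¹ w.1) = w.1
            rw [← LinearEquiv.mul_apply, ← map_mul, mul_inv_cancel, map_one]
            rfl }
      map_one' := by ext w; show act 1 w.1 = w.1; rw [map_one]; rfl
      map_mul' := fun a b => by ext w; show act (a * b) w.1 = act a (act b w.1); rw [map_mul]; rfl }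
  rcases π.normal_ker.eq_bot_or_eq_top with h | h
  · have hle := Nat.card_le_card_of_injective π ((MonoidHom.ker_eq_bot_iff π).1 h)
    rw [Nat.card_eq_fintype_card (α := Equiv.Perm (S e)), Fintype.card_perm, Fintype.card_coe, he] at hle
    norm_num [Nat.factorial] at hle
    omega
  · obtain ⟨w, hw⟩ := Finset.card_pos.1 (show 0 < (S e).card by omega)
    have hfix := congrArg (fun σ : Equiv.Perm (S e) => ((σ ⟨w, hw⟩).1 : V))
      (MonoidHom.mem_ker.1 (h ▸ Subgroup.mem_top a₅ : a₅ ∈ π.ker))
    have hw' := (Finset.mem_filter.1 hw).2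
    exact hw'.2.1 (hy.free _ hw'.1 hfix)

/-- An involution inverting a free five-element is nowhere orthogonal to the identity on a four-space. -/
theorem exists_moved [Finite V] {t : V →ₗ[F2] V} (hy : Fpf5 W y) (htW : ∀ w ∈ W, t w ∈ W)
    (hyb : ∀ a b, Φ.bil (y a) (y b) = Φ.bil a b) (htinv : ∀ w ∈ W, t (y w) = y^[4] (t w))
    (ht : ∀ w ∈ W, t (t w) = w)
    (hd : Module.finrank F2 W = 4) (hn : ∀ v ∈ W, (∀ w ∈ W, Φ.bil w v = 0) → v = 0) :
    ∃ w ∈ W, Φ.bil w (t w) = 1 := by
  classical
  have := Fintype.ofFinite V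
  by_contra hcon
  have h0 : ∀ w ∈ W, Φ.bil w (t w) = 0 := fun w hw =>
    (f2_cases _).resolve_right fun e => hcon ⟨w, hw, e⟩
  obtain ⟨v, hv, hv0⟩ : ∃ v ∈ W, v ≠ 0 := by
    refine Submodule.exists_mem_ne_zero_of_ne_bot fun e => ?_
    rw [e, finrank_bot] at hd
    exact absurd hd (by norm_num)
  have htn : ∀ n, t (y^[n] v) = y^[4 * n] (t v) := fun n => by
    induction n with
    | zero => rfl
    | succ n ih =>
      rw [Function.iterate_succ_apply', htinv _ (hy.iterate_mem hv n), ih, ← Function.iterate_add_apply,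
        show 4 + 4 * n = 4 * (n + 1) from by ring]
  have hbn : ∀ n a b, Φ.bil (y^[n] a) (y^[n] b) = Φ.bil a b := fun n => by
    induction n with
    | zero => exact fun a b => rfl
    | succ n ih => intro a b; rw [Function.iterate_succ_apply', Function.iterate_succ_apply', hyb, ih]
  have key : ∀ k, Φ.bil (y^[k] v) (t v) = 0 := fun k => by
    obtain ⟨i, hi⟩ : ∃ i, (2 * i) % 5 = k % 5 := by
      refine ⟨3 * k, ?_⟩
      omega
    have h1 := h0 _ (hy.iterate_mem hv i)
    rw [htn, ← hbn i] at h1
    rw [← Function.iterate_add_apply, ← Function.iterate_add_apply, ← two_mul,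
      hy.iterate_mod hv, hi, ← hy.iterate_mod hv, hy.iterate_mod (htW v hv) (i + 4 * i),
      show (i + 4 * i) % 5 = 0 from by omega] at h1
    exact h1
  -- the orbit spans
  let U : Submodule F2 V := Submodule.span F2 (Set.range fun k : ℕ => y^[k] v)
  have hUW : U ≤ W := Submodule.span_le.2 fun _ ⟨k, hk⟩ => hk ▸ hy.iterate_mem hv k
  have hyU : ∀ u ∈ U, y u ∈ U := fun u hu => by
    refine Submodule.span_induction ?_ ?_ ?_ ?_ hu
    · rintro _ ⟨k, rfl⟩
      exact Submodule.subset_span ⟨k + 1, Function.iterate_succ_apply' y k v⟩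
    · rw [map_zero]; exact zero_mem _
    · intro a b _ _ ha hb; rw [map_add]; exact add_mem ha hb
    · intro c a _ ha; rw [map_smul]; exact Submodule.smul_mem _ c ha
  have hU : U = W := by
    refine Submodule.eq_of_le_of_finrank_le hUW (le_of_eq ?_)
    have hle : Module.finrank F2 U ≤ 4 := hd ▸ Submodule.finrank_mono hUW
    have hcard : Fintype.card U = 2 ^ Module.finrank F2 U := Module.card_eq_pow_finrank (K := F2)
    have h5 : 5 ∣ Fintype.card {u : U // u ≠ 0} := by
      let σ : Equiv.Perm {u : U // u ≠ 0} :=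
        { toFun := fun u => ⟨⟨y u.1.1, hyU _ u.1.2⟩, fun e => u.2 (Subtype.ext (by
            have e' : y u.1.1 = 0 := congrArg Subtype.val e
            simpa [e'] using (hy.pow _ (hUW u.1.2)).symm))⟩
          invFun := fun u => ⟨⟨y (y (y (y u.1.1))), hyU _ (hyU _ (hyU _ (hyU _ u.1.2)))⟩,
            fun e => u.2 (Subtype.ext (by
              have e' : y (y (y (y u.1.1))) = 0 := congrArg Subtype.val e
              simpa [e'] using (hy.pow _ (hUW u.1.2)).symm))⟩
          left_inv := fun u => by ext; exact hy.pow _ (hUW u.1.2)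
          right_inv := fun u => by ext; exact hy.pow _ (hUW u.1.2) }
      have hσ : σ ^ 5 ^ 1 = 1 := by
        ext u
        exact hy.pow _ (hUW u.1.2)
      have : Fact (Nat.Prime 5) := ⟨by norm_num⟩
      by_contra hnd
      obtain ⟨u, hu⟩ := Equiv.Perm.exists_fixed_point_of_prime hnd hσ
      exact u.2 (Subtype.ext (hy.free _ (hUW u.1.2) (congrArg (fun a => (a.1.1 : V)) hu)))
    rw [Fintype.card_subtype_compl, Fintype.card_subtype_eq, hcard] at h5
    have h1 : 0 < Module.finrank F2 U := Module.finrank_pos_iff_exists_ne_zero.2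
      ⟨⟨v, Submodule.subset_span ⟨0, rfl⟩⟩, fun e => hv0 (congrArg Subtype.val e)⟩
    rw [hd]
    generalize Module.finrank F2 U = d at *
    interval_cases d <;> omega
  have htv : t v = 0 := hn _ (htW v hv) fun w hw => by
    rw [← hU] at hw
    refine Submodule.span_induction ?_ ?_ ?_ ?_ hw
    · rintro _ ⟨k, rfl⟩; exact key k
    · simp
    · intro a b _ _ ha hb; rw [map_add, LinearMap.add_apply, ha, hb, add_zero]
    · intro c a _ ha; rw [map_smul, LinearMap.smul_apply, ha, smul_zero]
  exact hv0 (by rw [← ht v hv, htv, map_zero])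

/-- If `N` is nilpotent of index four with image in a six-space whose complement it kills, `N²` has rank two. -/
theorem rank_sq_le [Module.Finite F2 V] (N : V →ₗ[F2] V) (V₀ V₁ : Submodule F2 V)
    (hsum : Module.finrank F2 V₁ + 6 = Module.finrank F2 V)
    (hr : LinearMap.range N ≤ V₀) (hk : V₁ ≤ LinearMap.ker N) (hd : Disjoint V₀ V₁)
    (h4 : ∀ v, N (N (N (N v))) = 0) : Module.finrank F2 (LinearMap.range (N ∘ₗ N)) ≤ 2 := by
  let R1 := LinearMap.range N
  let R2 := R1.map N
  let R3 := R2.map N
  have hR2 : LinearMap.range (N ∘ₗ N) = R2 := LinearMap.range_comp N N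
  have step : ∀ R : Submodule F2 V, Module.finrank F2 (R.map N) +
      Module.finrank F2 (R ⊓ LinearMap.ker N : Submodule F2 V) = Module.finrank F2 R := fun R => by
    have h := LinearMap.finrank_range_add_finrank_ker (N ∘ₗ R.subtype)
    rw [LinearMap.range_comp, Submodule.range_subtype, LinearMap.ker_comp] at h
    rw [← h, ← Submodule.map_comap_subtype, ← (Submodule.equivMapOfInjective R.subtype R.subtype_injective
      ((LinearMap.ker N).comap R.subtype)).finrank_eq]
  have hR21 : R2 ≤ R1 := fun v ⟨w, _, hv⟩ => ⟨w, hv⟩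
  have hR32 : R3 ≤ R2 := Submodule.map_mono hR21
  have e1 := step R1
  have e2 := step R2
  have e3 := step R3
  have h43 : R3.map N = ⊥ := by
    rw [eq_bot_iff]
    rintro _ ⟨_, ⟨_, ⟨_, ⟨v, rfl⟩, rfl⟩, rfl⟩, rfl⟩
    exact h4 v
  rw [h43, finrank_bot, zero_add] at e3
  have a1 : Module.finrank F2 (R2 ⊓ LinearMap.ker N : Submodule F2 V) ≤
      Module.finrank F2 (R1 ⊓ LinearMap.ker N : Submodule F2 V) :=
    Submodule.finrank_mono (inf_le_inf_right _ hR21)
  have a2 : Module.finrank F2 (R3 ⊓ LinearMap.ker N : Submodule F2 V) ≤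
      Module.finrank F2 (R2 ⊓ LinearMap.ker N : Submodule F2 V) :=
    Submodule.finrank_mono (inf_le_inf_right _ hR32)
  -- the kernel meets the six-space in at most `6 - rank` dimensions
  have a3 : Module.finrank F2 (R1 ⊓ LinearMap.ker N : Submodule F2 V) +
      Module.finrank F2 R1 ≤ 6 := by
    have h := LinearMap.finrank_range_add_finrank_ker N
    have h1 := Submodule.finrank_mono (show (R1 ⊓ LinearMap.ker N) ⊔ V₁ ≤ LinearMap.ker N from
      sup_le inf_le_right hk)
    have h2 := Submodule.finrank_sup_add_finrank_inf_eq (R1 ⊓ LinearMap.ker N) V₁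
    rw [show (R1 ⊓ LinearMap.ker N) ⊓ V₁ = ⊥ from
      (hd.mono_left (le_trans inf_le_left hr)).eq_bot, finrank_bot, add_zero] at h2
    change Module.finrank F2 R1 + _ = _ at h
    omega
  rw [hR2]
  change Module.finrank F2 R2 + _ = Module.finrank F2 R1 at e1
  change Module.finrank F2 R3 + _ = Module.finrank F2 R2 at e2
  omega

/-- Maps into a small totally singular subspace preserving the form: at most one is nontrivial. -/
theorem siegel_unique [Module.Finite F2 V] {L : Submodule F2 V} (hL : Φ.TS L)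
    (hd : Module.finrank F2 L ≤ 2) {d e : V →ₗ[F2] V} (hdL : ∀ v, d v ∈ L) (heL : ∀ v, e v ∈ L)
    (hdk : ∀ v ∈ Φ.perp L, d v = 0) (hek : ∀ v ∈ Φ.perp L, e v = 0)
    (hdq : ∀ v, Φ.q (v + d v) = Φ.q v) (heq : ∀ v, Φ.q (v + e v) = Φ.q v)
    (hd0 : d ≠ 0) (he0 : e ≠ 0) : d = e := by
  have alt : ∀ f : V →ₗ[F2] V, (∀ v, f v ∈ L) → (∀ v, Φ.q (v + f v) = Φ.q v) →
      (∀ v, Φ.bil v (f v) = 0) ∧ ∀ v w, Φ.bil v (f w) = Φ.bil w (f v) := fun f hf hfq => by
    have h1 : ∀ v, Φ.bil v (f v) = 0 := fun v => by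
      have h := hfq v
      rw [Φ.polar, hL _ (hf v), add_zero] at h
      exact add_eq_left.1 h
    refine ⟨h1, fun v w => ?_⟩
    have h := h1 (v + w)
    simp only [map_add, LinearMap.add_apply, h1] at h
    rw [zero_add, add_zero] at h
    exact (CharTwo.add_eq_zero.1 h).symm
  obtain ⟨ad, bd⟩ := alt d hdL hdq
  obtain ⟨ae, be⟩ := alt e heL heq
  obtain ⟨w, hw⟩ : ∃ w, d w ≠ 0 := by
    by_contra hc
    simp only [not_exists, not_not] at hc
    exact hd0 (LinearMap.ext hc)
  obtain ⟨u, hu⟩ := Φ.exists_bil_one hw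
  -- `w`, `u` complete the perpendicular of `L`
  let P : Submodule F2 V := Φ.perp L ⊔ Submodule.span F2 ({w, u} : Set V)
  have hP : P = ⊤ := by
    refine Submodule.eq_top_of_finrank_eq ?_
    have hw' : w ∉ Φ.perp L := fun h => hw (hdk w h)
    have hu' : u ∉ Φ.perp L := fun h => by
      have : Φ.bil u (d w) = 0 := (Φ.bil_comm _ _).trans (h _ (hdL w))
      rw [this] at hu
      exact absurd hu (by decide)
    have huw : u + w ∉ Φ.perp L := fun h => by
      have : Φ.bil (u + w) (d w) = 0 := (Φ.bil_comm _ _).trans (h _ (hdL w))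
      rw [map_add, LinearMap.add_apply, hu, ad, add_zero] at this
      exact absurd this (by decide)
    have hlt : Φ.perp L < Φ.perp L ⊔ Submodule.span F2 {w} := by
      refine lt_of_le_of_ne le_sup_left fun e' => hw' ?_
      rw [e']
      exact Submodule.mem_sup_right (Submodule.mem_span_singleton_self w)
    have hlt2 : Φ.perp L ⊔ Submodule.span F2 {w} < P := by
      refine lt_of_le_of_ne (sup_le_sup_left (Submodule.span_mono (by simp)) _) fun e' => ?_
      have hu2 : u ∈ Φ.perp L ⊔ Submodule.span F2 {w} := by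
        rw [e']
        exact Submodule.mem_sup_right (Submodule.subset_span (by simp))
      obtain ⟨p, hp, r, hr, hpr⟩ := Submodule.mem_sup.1 hu2
      obtain ⟨c, rfl⟩ := Submodule.mem_span_singleton.1 hr
      rcases f2_cases c with rfl | rfl
      · rw [zero_smul, add_zero] at hpr
        exact hu' (hpr ▸ hp)
      · rw [one_smul] at hpr
        refine huw ?_
        rw [← hpr, add_assoc, add_self_eq_zero', add_zero]
        exact hp
    have := Submodule.finrank_lt_finrank_of_lt hlt
    have := Submodule.finrank_lt_finrank_of_lt hlt2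
    have := Φ.finrank_perp L
    have := Submodule.finrank_le P
    omega
  have hudw : Φ.bil u (d w) = 1 := hu
  have huew : Φ.bil u (e w) = 1 := by
    by_contra hne
    refine he0 (LinearMap.ext fun a => Φ.eq_zero_of_perp fun b => ?_)
    have h0 : Φ.bil u (e w) = 0 := (f2_cases _).resolve_right hne
    have hz : e w = 0 ∧ e u = 0 := by
      constructor <;> refine Φ.eq_zero_of_perp fun b => ?_ <;>
        (have hb : b ∈ P := hP ▸ Submodule.mem_top
         obtain ⟨p, hp, r, hr, rfl⟩ := Submodule.mem_sup.1 hb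
         obtain ⟨c, c', rfl⟩ := Submodule.mem_span_pair.1 hr
         rw [map_add, LinearMap.add_apply, map_add, LinearMap.add_apply, map_smul, map_smul,
           LinearMap.smul_apply, LinearMap.smul_apply])
      · rw [(Φ.bil_comm p _).trans (hp _ (heL w)), ae w, h0]; simp
      · rw [(Φ.bil_comm p _).trans (hp _ (heL u)), ae u, be w u, h0]; simp
    have ha : a ∈ P := hP ▸ Submodule.mem_top
    obtain ⟨p, hp, r, hr, rfl⟩ := Submodule.mem_sup.1 ha
    obtain ⟨c, c', rfl⟩ := Submodule.mem_span_pair.1 hr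
    rw [map_add e, map_add e, map_smul, map_smul, hek p hp, hz.1, hz.2]
    simp
  refine LinearMap.ext fun a => ?_
  have key : d w = e w ∧ d u = e u := by
    constructor <;>
      (rw [← sub_eq_zero]
       refine Φ.eq_zero_of_perp fun b => ?_
       have hb : b ∈ P := hP ▸ Submodule.mem_top
       obtain ⟨p, hp, r, hr, rfl⟩ := Submodule.mem_sup.1 hb
       obtain ⟨c, c', rfl⟩ := Submodule.mem_span_pair.1 hr
       rw [map_sub, sub_eq_zero, map_add, LinearMap.add_apply, LinearMap.add_apply, map_add,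
         LinearMap.add_apply, LinearMap.add_apply, map_smul, map_smul, LinearMap.smul_apply,
         LinearMap.smul_apply, LinearMap.smul_apply, LinearMap.smul_apply])
    · rw [(Φ.bil_comm p _).trans (hp _ (hdL w)), (Φ.bil_comm p _).trans (hp _ (heL w)), ad w, ae w, hudw,
        huew]
    · rw [(Φ.bil_comm p _).trans (hp _ (hdL u)), (Φ.bil_comm p _).trans (hp _ (heL u)), ad u, ae u,
        bd w u, be w u, hudw, huew]
  have ha : a ∈ P := hP ▸ Submodule.mem_top
  obtain ⟨p, hp, r, hr, rfl⟩ := Submodule.mem_sup.1 ha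
  obtain ⟨c, c', rfl⟩ := Submodule.mem_span_pair.1 hr
  rw [map_add d, map_add e, map_add d, map_add e, map_smul, map_smul, map_smul, map_smul, hdk p hp,
    hek p hp, key.1, key.2]

/-- Splitting off the free part of an automorphism of order five. -/
theorem exists_five [Finite V] {U : Submodule F2 V} {y : V →ₗ[F2] V}
    (hU : ∀ w ∈ U, y w ∈ U) (h5 : ∀ w ∈ U, y (y (y (y (y w)))) = w)
    (hyb : ∀ a b, Φ.bil (y a) (y b) = Φ.bil a b)
    (hn : ∀ v ∈ U, (∀ w ∈ U, Φ.bil w v = 0) → v = 0) (hne : ∃ w ∈ U, y w ≠ w) :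
    ∃ Y : Submodule F2 V, Y ≤ U ∧ Fpf5 Y y ∧ 4 ≤ Module.finrank F2 Y ∧
      (Module.finrank F2 U ≤ 8 → Module.finrank F2 Y = 4 ∨ Module.finrank F2 Y = 8) ∧
      (∀ v ∈ Y, (∀ w ∈ Y, Φ.bil w v = 0) → v = 0) ∧
      ∀ v, v ∈ Y ↔ v ∈ U ∧ v + y v + y (y v) + y (y (y v)) + y (y (y (y v))) = 0 := by
  classical
  have := Fintype.ofFinite V
  let s : V →ₗ[F2] V := LinearMap.id + y + y ∘ₗ y + y ∘ₗ y ∘ₗ y + y ∘ₗ y ∘ₗ y ∘ₗ y
  have hs : ∀ v, s v = v + y v + y (y v) + y (y (y v)) + y (y (y (y v))) := fun v => rfl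
  let Y : Submodule F2 V := U ⊓ LinearMap.ker s
  have hYmem : ∀ v, v ∈ Y ↔ v ∈ U ∧ s v = 0 := fun v => Iff.rfl
  have hsy : ∀ v ∈ U, s (y v) = s v := fun v hv => by
    rw [hs, hs, h5 v hv]; abel
  have hY5 : Fpf5 Y y := by
    refine ⟨fun v hv => ?_, fun v hv => h5 v hv.1, fun v hv e => ?_⟩
    · exact (hYmem _).2 ⟨hU v hv.1, (hsy v hv.1).trans ((hYmem v).1 hv).2⟩
    · have h0 := ((hYmem v).1 hv).2
      simp only [hs, e, add_self_eq_zero', zero_add] at h0
      exact h0
  -- the fixed part is perpendicular to the free part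
  have hfix : ∀ v ∈ U, y (s v) = s v := fun v hv => by
    rw [hs]
    simp only [map_add, h5 v hv]
    abel
  have hperp : ∀ v, y v = v → ∀ w ∈ Y, Φ.bil w v = 0 := fun v hv w hw => by
    have e : ∀ a, Φ.bil (y a) v = Φ.bil a v := fun a => by conv_lhs => rw [← hv, hyb]
    have h0 := congrArg (fun u => Φ.bil u v) ((hYmem w).1 hw).2
    simp only [hs, map_add, LinearMap.add_apply, e, map_zero, LinearMap.zero_apply,
      CharTwo.add_self_eq_zero, zero_add] at h0
    exact h0
  have hsplit : ∀ v ∈ U, v + s v ∈ Y := fun v hv => by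
    refine (hYmem _).2 ⟨add_mem hv ?_, ?_⟩
    · rw [hs]; exact add_mem (add_mem (add_mem (add_mem hv (hU v hv)) (hU _ (hU v hv)))
        (hU _ (hU _ (hU v hv)))) (hU _ (hU _ (hU _ (hU v hv))))
    · rw [map_add]
      conv_lhs => arg 2; rw [hs, hfix v hv]; simp only [hfix v hv]
      simp only [add_self_eq_zero', zero_add]
  have hn' : ∀ v ∈ Y, (∀ w ∈ Y, Φ.bil w v = 0) → v = 0 := fun v hv h0 => hn v hv.1 fun w hw => by
    have h1 : Φ.bil (s w) v = 0 := (Φ.bil_comm _ _).trans (hperp _ (hfix w hw) v hv)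
    have h2 := h0 _ (hsplit w hw)
    rw [map_add, LinearMap.add_apply, h1, add_zero] at h2
    exact h2
  obtain ⟨w, hw, hyw⟩ := hne
  have hw0 : w + s w ≠ 0 := fun e => hyw (by
    have hws : s w = w := by
      rw [← zero_add (s w), ← add_self_eq_zero' w, add_assoc, e, add_zero]
    have h1 := hfix w hw
    rwa [hws] at h1)
  have hpos : 0 < Module.finrank F2 Y :=
    Module.finrank_pos_iff_exists_ne_zero.2 ⟨⟨_, hsplit w hw⟩, fun e => hw0 (congrArg Subtype.val e)⟩
  have hdvd : 5 ∣ 2 ^ Module.finrank F2 Y - 1 := by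
    have hcard : Fintype.card Y = 2 ^ Module.finrank F2 Y := Module.card_eq_pow_finrank (K := F2)
    rw [← hcard, ← Fintype.card_subtype_eq (0 : Y), ← Fintype.card_subtype_compl]
    let σ : Equiv.Perm {u : Y // ¬ u = 0} :=
      { toFun := fun u => ⟨⟨y u.1.1, hY5.mem _ u.1.2⟩, fun e => u.2 (Subtype.ext (by
          have e' : y u.1.1 = 0 := congrArg Subtype.val e
          simpa [e'] using (hY5.pow _ u.1.2).symm))⟩
        invFun := fun u => ⟨⟨y (y (y (y u.1.1))), hY5.mem _ (hY5.mem _ (hY5.mem _ (hY5.mem _ u.1.2)))⟩,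
          fun e => u.2 (Subtype.ext (by
            have e' : y (y (y (y u.1.1))) = 0 := congrArg Subtype.val e
            simpa [e'] using (hY5.pow _ u.1.2).symm))⟩
        left_inv := fun u => by ext; exact hY5.pow _ u.1.2
        right_inv := fun u => by ext; exact hY5.pow _ u.1.2 }
    have hσ : σ ^ 5 ^ 1 = 1 := by ext u; exact hY5.pow _ u.1.2
    have : Fact (Nat.Prime 5) := ⟨by norm_num⟩
    by_contra hnd
    obtain ⟨u, hu⟩ := Equiv.Perm.exists_fixed_point_of_prime hnd hσ
    exact u.2 (Subtype.ext (hY5.free _ u.1.2 (congrArg (fun a => (a.1.1 : V)) hu)))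
  refine ⟨Y, inf_le_left, hY5, ?_, fun h8 => ?_, hn', fun v => ?_⟩
  · by_contra hlt
    generalize Module.finrank F2 Y = d at *
    interval_cases d <;> omega
  · have hle := Submodule.finrank_mono (inf_le_left : Y ≤ U)
    generalize Module.finrank F2 Y = d at *
    generalize Module.finrank F2 U = u at *
    interval_cases u <;> interval_cases d <;> omega
  · exact hYmem v

/-- The free part is preserved by the maps that commute with or invert the automorphism. -/
theorem five_mem {U Y : Submodule F2 V} {y f : V →ₗ[F2] V}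
    (hY : ∀ v, v ∈ Y ↔ v ∈ U ∧ v + y v + y (y v) + y (y (y v)) + y (y (y (y v))) = 0)
    (hU : ∀ w ∈ U, y w ∈ U) (h5 : ∀ w ∈ U, y (y (y (y (y w)))) = w) (hfU : ∀ w ∈ U, f w ∈ U)
    (hf : (∀ w ∈ U, f (y w) = y (f w)) ∨ ∀ w ∈ U, f (y w) = y (y (y (y (f w))))) :
    ∀ w ∈ Y, f w ∈ Y := fun v hv => by
  obtain ⟨hvU, h0⟩ := (hY v).1 hv
  refine (hY _).2 ⟨hfU v hvU, ?_⟩
  have h1 := congrArg f h0
  simp only [map_add, map_zero] at h1
  have u1 := hU v hvU
  have u2 := hU _ u1
  have u3 := hU _ u2
  rcases hf with hf | hf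
  · simpa only [hf _ u3, hf _ u2, hf _ u1, hf v hvU] using h1
  · simp only [hf _ u3, hf _ u2, hf _ u1, hf v hvU, h5 _ (hfU v hvU)] at h1
    rw [← h1]
    abel

end QF

end Cfsg.Agent.Lib.ExtraNine31
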