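import Cfsg.Agent.Lib.ExtraNine31.Main
import Cfsg.Agent.Lib.Co1Type31.Setup
import Mathlib.LinearAlgebra.Matrix.BilinearForm

/-!
# `2^{1+8}.(S₃ × A₆)`: the data from the hypotheses

Owner: helper31.
-/

set_option autoImplicit false

namespace Cfsg.Agent.Lib.ExtraNine31

open Cfsg.Agent.Lib.Extraspecial Cfsg.Agent.Lib.Extraspecial.OutModel
open Cfsg.Agent.Lib.LargeExtraspecial.Basic
open Equiv.Perm (sign)
open scoped Matrix

variable {ι : Type} [Fintype ι] [DecidableEq ι]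

/-- The form of a model. -/
noncomputable def formOf (B : Matrix ι ι F2) (hB : (B + Bᵀ) * (B + Bᵀ) = 1) : QF (ι → F2) where
  q := qf B
  bil := Matrix.toBilin' (B + Bᵀ)
  polar v w := by
    rw [Matrix.toBilin'_apply']
    simp only [qf, Matrix.mulVec_add, add_dotProduct, dotProduct_add, Matrix.add_mulVec,
      Matrix.dotProduct_transpose_mulVec]
    abel
  nondeg := by
    have hinj : Function.Injective fun w : ι → F2 => (B + Bᵀ) *ᵥ w := polar_injective hB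
    have hR : ∀ w : ι → F2, (∀ v, Matrix.toBilin' (B + Bᵀ) v w = 0) → w = 0 := fun w hw => by
      refine hinj (funext fun i => ?_)
      have := hw (Pi.single i 1)
      rw [Matrix.toBilin'_apply', single_dotProduct, one_mul] at this
      simp [this]
    refine ⟨fun v hv => hR v fun w => ?_, hR⟩
    have := hv w
    rw [Matrix.toBilin'_apply'] at this ⊢
    rw [← this]
    rw [Matrix.add_mulVec, Matrix.add_mulVec, dotProduct_add, dotProduct_add, Matrix.dotProduct_transpose_mulVec,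
      Matrix.dotProduct_transpose_mulVec, add_comm]

variable {G : Type*} [Group G] [Finite G]

theorem not_simple_of_model {B : Matrix ι ι F2} (hB : (B + Bᵀ) * (B + Bᵀ) = 1) (hι : Fintype.card ι = 8)
    {z : G} (hz : orderOf z = 2) (C : Subgroup G) (hC : C = Subgroup.centralizer ({z} : Set G))
    (Q : Subgroup C) [Q.Normal] (hself : Subgroup.centralizer (Q : Set C) ≤ Q)
    (hQ : Cfsg.IsExtraspecial 2 Q) (hcard : Nat.card Q = 2 ^ 9) (θ : C →* P36) (hθ : θ.ker = Q)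
    (hsurj : ∀ γ : P36, sign γ.1 = 1 → sign γ.2 = 1 → ∃ c, θ c = γ) (φ : ↥Q ≃* Model B) :
    ¬ IsSimpleGroup G := by
  classical
  set Q' := Q.map C.subtype with hQ'
  have hCm : ∀ {c : G}, c ∈ C ↔ Commute c z := fun {c} => hC ▸ Subgroup.mem_centralizer_singleton_iff
  have hzC : z ∈ C := hCm.2 (Commute.refl z)
  have hzQ : (⟨z, hzC⟩ : C) ∈ Q := hself (Subgroup.mem_centralizer_iff.2 fun q _ =>
    Subtype.ext (hCm.1 q.2).eq)
  have hQC : Q' ≤ C := Subgroup.map_subtype_le _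
  have hEs : Cfsg.IsExtraspecial 2 Q' :=
    Cfsg.Agent.Lib.FusionP3.GenExtra.isExtraspecial_congr
      (Q.equivMapOfInjective _ C.subtype_injective) hQ
  have hcen : (Subgroup.center ↥Q').map Q'.subtype = Subgroup.zpowers z := by
    refine (Subgroup.eq_of_le_of_card_ge (Subgroup.zpowers_le.2 ?_) ?_).symm
    · exact Cfsg.Agent.Lib.LargeExtra.Basic.mem_centerMap.2 ⟨⟨_, hzQ, rfl⟩, fun y hy =>
        (hCm.1 (hQC hy)).eq⟩
    · rw [Cfsg.Agent.Lib.LargeExtra.Basic.card_centerMap hEs, Nat.card_zpowers, hz]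
  have hes := (Cfsg.Agent.Lib.LargeExtra.TwoConjugate.es_of hEs hcen).1
  obtain ⟨ρ, hρ, hρmv⟩ := Co1Type31.exists_action hB Q hself φ
  have hmem : ∀ {q : G}, q ∈ Q' ↔ ∃ h : q ∈ C, (⟨q, h⟩ : C) ∈ Q := by
    intro q
    constructor
    · rintro ⟨⟨q, hq⟩, hm, rfl⟩
      exact ⟨hq, hm⟩
    · rintro ⟨h, hm⟩
      exact ⟨⟨q, h⟩, hm, rfl⟩
  let toQ : ∀ q, q ∈ Q' → ↥Q := fun q hq => ⟨⟨q, (hmem.1 hq).choose⟩, (hmem.1 hq).choose_spec⟩
  let co : G → (ι → F2) := fun q => if hq : q ∈ Q' then (φ (toQ q hq)).v else 0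
  let ac : G → (ι → F2) →ₗ[F2] (ι → F2) := fun c => if hc : c ∈ C then
    Matrix.mulVecLin ((ρ ⟨c, hc⟩ : Matrix.GeneralLinearGroup ι F2) : Matrix ι ι F2) else LinearMap.id
  let pi : G → P36 := fun c => if hc : c ∈ C then θ ⟨c, hc⟩ else 1
  have hco : ∀ q : ↥Q, co (q : C) = (φ q).v := fun q => by
    have hq : ((q : C) : G) ∈ Q' := ⟨q.1, q.2, rfl⟩
    simp only [co, dif_pos hq]
    rfl
  have hac : ∀ (c : C) v, ac c v = Co1Local52.mv (ρ c) v := fun c v => by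
    simp only [ac, dif_pos c.2, Matrix.mulVecLin_apply]
    rfl
  have hpi : ∀ c : C, pi c = θ c := fun c => dif_pos c.2
  have hbase : Base z Q' (formOf B hB) co ac pi := by
    constructor
    · exact hz
    · exact hes
    · intro c hc
      have hcC : c ∈ C := hCm.2 (hc z ⟨_, hzQ, rfl⟩)
      have h1 : (⟨c, hcC⟩ : C) ∈ Q := hself (Subgroup.mem_centralizer_iff.2 fun q hq =>
        Subtype.ext (hc q ⟨q, hq, rfl⟩).eq.symm)
      exact hes.center c ⟨_, h1, rfl⟩ fun p hp => (hc p hp).symm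
    · rintro c hc _ ⟨q, hq, rfl⟩
      exact ⟨⟨c, hCm.2 hc⟩ * q * ⟨c, hCm.2 hc⟩⁻¹, Subgroup.Normal.conj_mem inferInstance q hq _, rfl⟩
    · rw [hQ', Subgroup.card_map_of_injective C.subtype_injective, hcard]
      norm_num
    · rw [Module.finrank_fintype_fun_eq_card, hι]
    · rintro _ ⟨q, hq, rfl⟩ _ ⟨r, hr, rfl⟩
      show co ((⟨q, hq⟩ * ⟨r, hr⟩ : ↥Q) : C) = co ((⟨q, hq⟩ : ↥Q) : C) + co ((⟨r, hr⟩ : ↥Q) : C)
      rw [hco, hco, hco, map_mul, mul_v]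
    · rintro _ ⟨q, hq, rfl⟩ h0
      change co ((⟨q, hq⟩ : ↥Q) : C) = 0 at h0
      rw [hco] at h0
      have hcenQ : (⟨q, hq⟩ : ↥Q) ∈ Subgroup.center ↥Q := by
        refine Subgroup.mem_center_iff.2 fun p => φ.injective ?_
        rw [map_mul, map_mul]
        exact Subgroup.mem_center_iff.1 ((mem_center_iff hB _).2 h0) (φ p)
      refine hes.center _ ⟨q, hq, rfl⟩ ?_
      rintro _ ⟨p, hp, rfl⟩
      exact congrArg (fun y : ↥Q => ((y : C) : G)) (Subgroup.mem_center_iff.1 hcenQ ⟨p, hp⟩)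
    · intro v
      obtain ⟨q, hq⟩ := φ.surjective (⟨v, 0⟩ : Model B)
      exact ⟨(q : C), ⟨q.1, q.2, rfl⟩, by rw [hco, hq]⟩
    · rintro _ ⟨q, hq, rfl⟩
      show (((⟨q, hq⟩ * ⟨q, hq⟩ : ↥Q) : C) : G) = zp z (qf B (co ((⟨q, hq⟩ : ↥Q) : C)))
      rw [hco]
      have hsq : φ (⟨q, hq⟩ * ⟨q, hq⟩) = ⟨0, qf B (φ ⟨q, hq⟩).v⟩ := by rw [map_mul, sq_eq]
      rcases f2_cases (qf B (φ ⟨q, hq⟩).v) with hb | hb <;> rw [hb] at hsq ⊢
      · have : (⟨q, hq⟩ * ⟨q, hq⟩ : ↥Q) = 1 := φ.injective (hsq.trans (map_one φ).symm)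
        rw [this, zp_zero]
        rfl
      · have hne : (⟨q, hq⟩ * ⟨q, hq⟩ : ↥Q) ≠ 1 := fun e' => by
          rw [e', map_one] at hsq
          have := congrArg Model.c hsq
          rw [one_c] at this
          exact absurd this zero_ne_one
        rw [zp_one]
        rcases hes.sq_cases (q := (q : G)) ⟨q, hq, rfl⟩ with e' | e'
        · exact absurd (Subtype.ext (Subtype.ext e')) hne
        · exact e'
    · rintro c hc _ ⟨q, hq, rfl⟩
      show co ((⟨(⟨c, hCm.2 hc⟩ : C) * q * (⟨c, hCm.2 hc⟩ : C)⁻¹,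
        Subgroup.Normal.conj_mem inferInstance q hq _⟩ : ↥Q) : C) =
          ac ((⟨c, hCm.2 hc⟩ : C) : G) (co ((⟨q, hq⟩ : ↥Q) : C))
      rw [hco, hco, hac, hρmv]
    · intro c hc hk
      refine ⟨⟨c, hCm.2 hc⟩, ?_, rfl⟩
      rw [SetLike.mem_coe, ← hρ, MonoidHom.mem_ker]
      refine Co1Local52.iso_ext fun v => ?_
      rw [Co1Local52.mv_one, ← hac, hk]
    · intro c d hc hd
      show pi ((⟨c, hCm.2 hc⟩ * ⟨d, hCm.2 hd⟩ : C) : G) =
        pi ((⟨c, hCm.2 hc⟩ : C) : G) * pi ((⟨d, hCm.2 hd⟩ : C) : G)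
      rw [hpi, hpi, hpi, map_mul]
    · intro c hc
      rw [show pi c = θ ⟨c, hCm.2 hc⟩ from hpi ⟨c, hCm.2 hc⟩, ← MonoidHom.mem_ker, hθ, hmem]
      exact ⟨fun e => ⟨_, e⟩, fun ⟨_, e⟩ => e⟩
    · intro γ h1 h2
      obtain ⟨c, rfl⟩ := hsurj γ h1 h2
      exact ⟨c, hCm.1 c.2, hpi c⟩
  exact hbase.not_simple

/-- The group is not simple. -/
theorem not_simple_of {z : G} (hz : orderOf z = 2) (C : Subgroup G)
    (hC : C = Subgroup.centralizer ({z} : Set G)) (Q : Subgroup C) [Q.Normal]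
    (hself : Subgroup.centralizer (Q : Set C) ≤ Q) (hQ : Cfsg.IsExtraspecial 2 Q)
    (hcard : Nat.card Q = 2 ^ 9) (θ : C →* P36) (hθ : θ.ker = Q)
    (hsurj : ∀ γ : P36, sign γ.1 = 1 → sign γ.2 = 1 → ∃ c, θ c = γ) : ¬ IsSimpleGroup G := by
  have : Fact (Nat.Prime 2) := ⟨Nat.prime_two⟩
  obtain ⟨z₀, hz₀⟩ := exists_esData hQ
  rcases two_of_three hz₀ (esData (plusMat_sq 4)) (esData (minusMat_sq 3))
      (by rw [hcard, card_model]; rfl) (by rw [card_model, card_model]; rfl) with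
    ⟨f, -⟩ | ⟨f, -⟩ | ⟨f, -⟩
  · exact not_simple_of_model (plusMat_sq 4) rfl hz C hC Q hself hQ hcard θ hθ hsurj f
  · exfalso
    obtain ⟨A, ⟨hc, he⟩, hA⟩ := plus_exists 4
    refine minus_not_exists 3 ⟨A.map f.toMonoidHom, ⟨⟨⟨?_⟩⟩, ?_⟩, ?_⟩
    · rintro ⟨_, a, ha, rfl⟩ ⟨_, b, hb, rfl⟩
      refine Subtype.ext ?_
      show f a * f b = f b * f a
      rw [← map_mul, ← map_mul]
      exact congrArg f (congrArg Subtype.val (hc.is_comm.comm ⟨a, ha⟩ ⟨b, hb⟩))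
    · rintro _ ⟨a, ha, rfl⟩
      show f a ^ 2 = 1
      rw [← map_pow, he a ha, map_one]
    · rw [Subgroup.card_map_of_injective f.injective, hA]
  · exact not_simple_of_model (minusMat_sq 3) rfl hz C hC Q hself hQ hcard θ hθ hsurj f

end Cfsg.Agent.Lib.ExtraNine31
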