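import Cfsg.Agent.Lib.ExtraNine31.Base
import Mathlib.GroupTheory.SpecificGroups.Alternating.Simple

/-!
# The two ways in which the first three-element acts on `Q/⟨z⟩`

Owner: helper31.
-/

set_option autoImplicit false
set_option linter.unusedSectionVars false

namespace Cfsg.Agent.Lib.ExtraNine31

open Cfsg.Agent.Lib.LargeExtraspecial.Basic
open Equiv.Perm (sign)

variable {G : Type*} [Group G]

/-- A five-cycle of six points. -/
def five6 : Equiv.Perm (Fin 6) :=
  Equiv.swap 0 1 * Equiv.swap 1 2 * Equiv.swap 2 3 * Equiv.swap 3 4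

theorem five6_sign : sign five6 = 1 := by decide

theorem five6_pow : five6 ^ 5 = 1 := by decide

theorem five6_ne : five6 ≠ 1 := by decide

/-- A lift of order three of the three-element of the first factor. -/
structure Lift3 (z : G) (pi : G → P36) (x : G) : Prop where
  comm : Commute x z
  image : pi x = x3
  cube : x ^ 3 = 1

namespace Base

variable {V : Type*} [AddCommGroup V] [Module F2 V] {z : G} {Q : Subgroup G} {Φ : QF V}
  {co : G → V} {ac : G → V →ₗ[F2] V} {pi : G → P36} {x : G}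
  (h : Base z Q Φ co ac pi) (hx : Lift3 z pi x)

include h in
theorem exists_lift3 : ∃ x, Lift3 z pi x := by
  obtain ⟨c, hc, hγ, h3⟩ := h.lift_three (γ := x3) (by rw [pow_succ, pow_succ, pow_one]; exact x3_cube)
    Base.x3_sign.1 Base.x3_sign.2
  exact ⟨c, hc, hγ, h3⟩

/-- The sum over the orbit of the three-element. -/
def tri (ac : G → V →ₗ[F2] V) (x : G) : V →ₗ[F2] V := LinearMap.id + ac x + ac x ∘ₗ ac x

/-- The fixed space of the three-element. -/
def V0 (ac : G → V →ₗ[F2] V) (x : G) : Submodule F2 V := LinearMap.ker (LinearMap.id + ac x)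

/-- The commutator space of the three-element. -/
def V1 (ac : G → V →ₗ[F2] V) (x : G) : Submodule F2 V := LinearMap.ker (tri ac x)

theorem mem_V0 {v : V} : v ∈ V0 ac x ↔ ac x v = v := by
  show v + ac x v = 0 ↔ _
  constructor
  · intro e
    rw [← zero_add (ac x v), ← add_self_eq_zero' v, add_assoc, e, add_zero]
  · intro e
    rw [e, add_self_eq_zero']

theorem mem_V1 {v : V} : v ∈ V1 ac x ↔ v + ac x v + ac x (ac x v) = 0 := Iff.rfl

include h hx

theorem x_cube (v : V) : ac x (ac x (ac x v)) = v := by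
  rw [← h.ac_mul hx.comm hx.comm, ← h.ac_mul (hx.comm.mul_left hx.comm) hx.comm,
    show x * x * x = x ^ 3 by rw [pow_succ, pow_succ, pow_one], hx.cube, h.ac_one]

theorem fpf3_V1 : Φ.Fpf3 (V1 ac x) (ac x) := by
  refine ⟨fun v hv => hv, fun v _ => h.ac_q hx.comm v, fun v hv => ?_⟩
  rw [mem_V1] at hv ⊢
  rw [h.x_cube hx, ← hv]
  abel

theorem tri_mem (v : V) : tri ac x v ∈ V0 ac x := by
  rw [mem_V0]
  show ac x (v + ac x v + ac x (ac x v)) = v + ac x v + ac x (ac x v)
  rw [map_add, map_add, h.x_cube hx]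
  abel

theorem add_tri_mem (v : V) : v + tri ac x v ∈ V1 ac x := by
  have e : tri ac x (tri ac x v) = tri ac x v := by
    have e1 := mem_V0.1 (h.tri_mem hx v)
    show tri ac x v + ac x (tri ac x v) + ac x (ac x (tri ac x v)) = _
    rw [e1, e1, add_self_eq_zero', zero_add]
  show tri ac x (v + tri ac x v) = 0
  rw [map_add, e, add_self_eq_zero']

theorem disjoint_V : Disjoint (V0 ac x) (V1 ac x) := by
  rw [Submodule.disjoint_def]
  intro v h0 h1
  rw [mem_V0] at h0
  rw [mem_V1, h0, h0, add_self_eq_zero', zero_add] at h1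
  exact h1

theorem sup_V : V0 ac x ⊔ V1 ac x = ⊤ :=
  eq_top_iff.2 fun v _ => Submodule.mem_sup.2 ⟨tri ac x v, h.tri_mem hx v, v + tri ac x v,
    h.add_tri_mem hx v, by rw [add_left_comm, add_self_eq_zero', add_zero]⟩

theorem finrank_V : Module.finrank F2 (V0 ac x) + Module.finrank F2 (V1 ac x) = 8 := by
  have := h.finite
  rw [← Submodule.finrank_sup_add_finrank_inf_eq, h.sup_V hx, (h.disjoint_V hx).eq_bot, finrank_bot,
    finrank_top, h.dim]

theorem orth_V {v w : V} (hv : v ∈ V0 ac x) (hw : w ∈ V1 ac x) : Φ.bil v w = 0 := by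
  have e := congrArg (Φ.bil v) (mem_V1.1 hw)
  have e1 : ∀ a, Φ.bil v (ac x a) = Φ.bil v a := fun a => by
    conv_lhs => rw [← mem_V0.1 hv, h.ac_bil hx.comm]
  rw [map_add, map_add, map_zero, e1, e1, e1, CharTwo.add_self_eq_zero, zero_add] at e
  exact e

theorem nondeg_V0 {v : V} (hv : v ∈ V0 ac x) (e : ∀ w ∈ V0 ac x, Φ.bil w v = 0) : v = 0 :=
  Φ.eq_zero_of_perp fun w => by
    obtain ⟨a, ha, b, hb, rfl⟩ := Submodule.mem_sup.1 ((h.sup_V hx).symm ▸ Submodule.mem_top : w ∈ _)
    rw [map_add, LinearMap.add_apply, e a ha, (Φ.bil_comm b v).trans (h.orth_V hx hv hb), add_zero]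

theorem nondeg_V1 {v : V} (hv : v ∈ V1 ac x) (e : ∀ w ∈ V1 ac x, Φ.bil w v = 0) : v = 0 :=
  Φ.eq_zero_of_perp fun w => by
    obtain ⟨a, ha, b, hb, rfl⟩ := Submodule.mem_sup.1 ((h.sup_V hx).symm ▸ Submodule.mem_top : w ∈ _)
    rw [map_add, LinearMap.add_apply, h.orth_V hx ha hv, e b hb, add_zero]

/-- An element of the first kind commutes with the three-element on `Q/⟨z⟩`. -/
theorem ac_x_comm {c : G} (hc : Commute c z) (hs : sign (pi c).1 = 1) (v : V) :
    ac c (ac x v) = ac x (ac c v) := by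
  rw [← h.ac_mul hc hx.comm, ← h.ac_mul hx.comm hc]
  refine h.ac_eq_of_pi (hc.mul_left hx.comm) (hx.comm.mul_left hc) ?_ v
  rw [h.pi_mul _ _ hc hx.comm, h.pi_mul _ _ hx.comm hc, hx.image, (commute_x3_iff _).2 hs]

/-- An element of the second kind inverts the three-element on `Q/⟨z⟩`. -/
theorem ac_x_inv {c : G} (hc : Commute c z) (hs : sign (pi c).1 ≠ 1) (v : V) :
    ac c (ac x v) = ac x (ac x (ac c v)) := by
  rw [← h.ac_mul hc hx.comm, ← h.ac_mul hx.comm hc, ← h.ac_mul hx.comm (hx.comm.mul_left hc)]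
  refine h.ac_eq_of_pi (hc.mul_left hx.comm) (hx.comm.mul_left (hx.comm.mul_left hc)) ?_ v
  rw [h.pi_mul _ _ hc hx.comm, h.pi_mul _ _ hx.comm (hx.comm.mul_left hc), h.pi_mul _ _ hx.comm hc,
    hx.image, odd_inverts_x3 hs, mul_assoc]

theorem ac_mem_V0 {c : G} (hc : Commute c z) {v : V} (hv : v ∈ V0 ac x) : ac c v ∈ V0 ac x := by
  rw [mem_V0] at hv ⊢
  by_cases hs : sign (pi c).1 = 1
  · rw [← h.ac_x_comm hx hc hs, hv]
  · have e := h.ac_x_inv hx hc hs v
    rw [hv] at e
    conv_lhs => rw [e]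
    exact h.x_cube hx _

theorem ac_mem_V1 {c : G} (hc : Commute c z) {v : V} (hv : v ∈ V1 ac x) : ac c v ∈ V1 ac x := by
  rw [mem_V1] at hv ⊢
  have e := congrArg (ac c) hv
  simp only [map_add, map_zero] at e
  by_cases hs : sign (pi c).1 = 1
  · simpa only [h.ac_x_comm hx hc hs] using e
  · simp only [h.ac_x_inv hx hc hs, h.x_cube hx] at e
    rw [← e]
    abel

omit hx in
theorem exists_alt (a : alternatingGroup (Fin 6)) :
    ∃ c, Commute c z ∧ pi c = ((1, a.1) : P36) :=
  h.pi_surj (1, a.1) (map_one _) (Equiv.Perm.mem_alternatingGroup.1 a.2)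

/-- A preimage of an element of the alternating factor. -/
noncomputable def lf (a : alternatingGroup (Fin 6)) : G := (h.exists_alt a).choose

omit hx in
theorem lf_comm (a : alternatingGroup (Fin 6)) : Commute (h.lf a) z := (h.exists_alt a).choose_spec.1

omit hx in
theorem lf_pi (a : alternatingGroup (Fin 6)) : pi (h.lf a) = ((1, a.1) : P36) :=
  (h.exists_alt a).choose_spec.2

/-- The action of the alternating factor. -/
noncomputable def act : alternatingGroup (Fin 6) →* (V ≃ₗ[F2] V) where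
  toFun a := LinearEquiv.ofLinearMap (ac (h.lf a)) (ac (h.lf a)⁻¹)
    (LinearMap.ext fun v => by
      have := h.ac_inv (h.lf_comm a).inv_left v
      rw [inv_inv] at this
      exact this)
    (LinearMap.ext fun v => h.ac_inv (h.lf_comm a) v)
  map_one' := by
    refine LinearEquiv.ext fun v => ?_
    show ac (h.lf 1) v = v
    rw [h.ac_eq_of_pi (h.lf_comm 1) (Commute.one_left z) ?_ v, h.ac_one]
    rw [h.lf_pi, h.pi_one]
    rfl
  map_mul' a b := by
    refine LinearEquiv.ext fun v => ?_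
    show ac (h.lf (a * b)) v = ac (h.lf a) (ac (h.lf b) v)
    rw [← h.ac_mul (h.lf_comm a) (h.lf_comm b)]
    refine h.ac_eq_of_pi (h.lf_comm _) ((h.lf_comm a).mul_left (h.lf_comm b)) ?_ v
    rw [h.pi_mul _ _ (h.lf_comm a) (h.lf_comm b), h.lf_pi, h.lf_pi, h.lf_pi]
    simp

omit hx in
theorem act_apply (a : alternatingGroup (Fin 6)) (v : V) : h.act a v = ac (h.lf a) v := rfl

omit hx in
theorem act_eq {a : alternatingGroup (Fin 6)} {c : G} (hc : Commute c z) (e : pi c = ((1, a.1) : P36))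
    (v : V) : ac c v = h.act a v := h.ac_eq_of_pi hc (h.lf_comm a) (by rw [e, h.lf_pi]) v

theorem act_x (a : alternatingGroup (Fin 6)) (v : V) : h.act a (ac x v) = ac x (h.act a v) :=
  h.ac_x_comm hx (h.lf_comm a) (by rw [h.lf_pi]; exact map_one _) v

omit hx in
/-- The alternating factor acts faithfully. -/
theorem act_faithful {a : alternatingGroup (Fin 6)} (e : ∀ v, h.act a v = v) : a = 1 := by
  have := (h.pi_ker _ (h.lf_comm a)).2 (h.faithful _ (h.lf_comm a) e)
  rw [h.lf_pi] at this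
  exact Subtype.ext (congrArg Prod.snd this)

omit hx in
/-- A subspace fixed by one nontrivial element and invariant under all is fixed by all. -/
theorem act_trivial {U : Submodule F2 V} (hU : ∀ a, ∀ v ∈ U, h.act a v ∈ U)
    {a₀ : alternatingGroup (Fin 6)} (h0 : a₀ ≠ 1) (hfix : ∀ v ∈ U, h.act a₀ v = v)
    (a : alternatingGroup (Fin 6)) : ∀ v ∈ U, h.act a v = v := by
  have := alternatingGroup.isSimpleGroup (α := Fin 6) (by simp)
  let N : Subgroup (alternatingGroup (Fin 6)) :=
    { carrier := {b | ∀ v ∈ U, h.act b v = v}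
      one_mem' := fun v _ => by rw [map_one]; rfl
      mul_mem' := fun {b c} hb hc v hv => by
        rw [map_mul, LinearEquiv.mul_apply, hc v hv, hb v hv]
      inv_mem' := fun {b} hb v hv => by
        conv_lhs => rw [← hb v hv, ← LinearEquiv.mul_apply, ← map_mul, inv_mul_cancel, map_one]
        rfl }
  have hN : N.Normal := ⟨fun b hb g v hv => by
    rw [map_mul, map_mul, LinearEquiv.mul_apply, LinearEquiv.mul_apply, hb _ (hU _ v hv),
      ← LinearEquiv.mul_apply, ← map_mul, mul_inv_cancel, map_one]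
    rfl⟩
  rcases hN.eq_bot_or_eq_top with e | e
  · exact absurd (Subgroup.mem_bot.1 (e ▸ (hfix : a₀ ∈ N))) h0
  · exact (e ▸ Subgroup.mem_top a : a ∈ N)

theorem act_mem_V0 (a : alternatingGroup (Fin 6)) : ∀ v ∈ V0 ac x, h.act a v ∈ V0 ac x :=
  fun _ hv => h.ac_mem_V0 hx (h.lf_comm a) hv

theorem act_mem_V1 (a : alternatingGroup (Fin 6)) : ∀ v ∈ V1 ac x, h.act a v ∈ V1 ac x :=
  fun _ hv => h.ac_mem_V1 hx (h.lf_comm a) hv

omit hx in
theorem act_five {a : alternatingGroup (Fin 6)} (h5 : a ^ 5 = 1) (v : V) :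
    h.act a (h.act a (h.act a (h.act a (h.act a v)))) = v := by
  simp only [← LinearEquiv.mul_apply, ← map_mul]
  rw [show a * (a * (a * (a * a))) = a ^ 5 by simp only [pow_succ, pow_zero, one_mul, mul_assoc], h5,
    map_one]
  rfl

omit hx in
theorem act_bil (a : alternatingGroup (Fin 6)) (v w : V) :
    Φ.bil (h.act a v) (h.act a w) = Φ.bil v w := h.ac_bil (h.lf_comm a) v w

/-- An element of order five that moves a vector of an invariant part of the commutator space is free there. -/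
theorem free_of_moved {U : Submodule F2 V} {a : alternatingGroup (Fin 6)} (h5 : a ^ 5 = 1)
    (hU : ∀ v ∈ U, h.act a v ∈ U) (hxU : ∀ v ∈ U, ac x v ∈ U)
    (hn : ∀ v ∈ U, (∀ w ∈ U, Φ.bil w v = 0) → v = 0) (hUV : U ≤ V1 ac x)
    (hm : ∃ w ∈ U, h.act a w ≠ w) :
    Module.finrank F2 U = 8 ∧ QF.Fpf5 U (h.act a : V →ₗ[F2] V) := by
  have := h.finiteV
  have := h.finite
  obtain ⟨Y, hYU, hY5, h4, h48, hn', hYmem⟩ := QF.exists_five (Φ := Φ) (U := U)
    (y := (h.act a : V →ₗ[F2] V)) hU (fun w _ => h.act_five h5 w) (h.act_bil a) hn hm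
  have hU8 : Module.finrank F2 U ≤ 8 := h.dim ▸ Submodule.finrank_le U
  have hxY : ∀ w ∈ Y, ac x w ∈ Y := QF.five_mem hYmem hU (fun w _ => h.act_five h5 w) hxU
    (Or.inl fun w _ => (h.act_x hx a w).symm)
  rcases h48 hU8 with e | e
  · exfalso
    exact QF.false_of_transitive
      ⟨fun v hv => (h.fpf3_V1 hx).sum v (hUV (hYU hv)), fun v _ => h.ac_q hx.comm v, hxY⟩ hY5
      (fun w _ => (h.act_x hx a w).symm) (fun w _ => h.ac_q (h.lf_comm a) w) e hn'
  · have hUY : Y = U := Submodule.eq_of_le_of_finrank_le hYU (by omega)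
    subst hUY
    exact ⟨e, hY5⟩

end Base

/-- Case A: the three-element has no fixed vector. -/
def CaseA {V : Type*} [AddCommGroup V] [Module F2 V] (ac : G → V →ₗ[F2] V) (x : G) : Prop :=
  ∀ v, v + ac x v + ac x (ac x v) = 0

/-- Case B: commutator space of dimension two, fixed by the alternating factor. -/
structure CaseB {V : Type*} [AddCommGroup V] [Module F2 V] (ac : G → V →ₗ[F2] V) (pi : G → P36)
    (z x : G) : Prop where
  dim0 : Module.finrank F2 (Base.V0 ac x) = 6
  dim1 : Module.finrank F2 (Base.V1 ac x) = 2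
  trivial : ∀ c, Commute c z → (pi c).1 = 1 → sign (pi c).2 = 1 → ∀ v ∈ Base.V1 ac x, ac c v = v

namespace Base

variable {V : Type*} [AddCommGroup V] [Module F2 V] {z : G} {Q : Subgroup G} {Φ : QF V}
  {co : G → V} {ac : G → V →ₗ[F2] V} {pi : G → P36} {x : G}
  (h : Base z Q Φ co ac pi) (hx : Lift3 z pi x)
include h hx

theorem dichotomy : CaseA ac x ∨ CaseB ac pi z x := by
  have := h.finite
  have := h.finiteV
  have := alternatingGroup.isSimpleGroup (α := Fin 6) (by simp)
  let a : alternatingGroup (Fin 6) := ⟨five6, Equiv.Perm.mem_alternatingGroup.2 five6_sign⟩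
  have ha5 : a ^ 5 = 1 := Subtype.ext five6_pow
  have ha1 : a ≠ 1 := fun e => five6_ne (congrArg Subtype.val e)
  have hx1 : V1 ac x ≠ ⊥ := fun e => by
    have hQ : x ∈ Q := h.faithful x hx.comm fun v => by
      have := h.add_tri_mem hx v
      rw [e, Submodule.mem_bot, ← eq_neg_iff_add_eq_zero] at this
      have h2 : v ∈ V0 ac x := by
        rw [this]
        exact neg_mem (h.tri_mem hx v)
      exact mem_V0.1 h2
    exact x3_ne (hx.image ▸ (h.pi_ker x hx.comm).2 hQ)
  have hd := h.finrank_V hx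
  have he := (h.fpf3_V1 hx).even le_rfl (h.fpf3_V1 hx).mem
  have hpos : 0 < Module.finrank F2 (V1 ac x) := by
    rcases Nat.eq_zero_or_pos (Module.finrank F2 (V1 ac x)) with e | e
    · exact absurd (Submodule.finrank_eq_zero.1 e) hx1
    · exact e
  by_cases h8 : Module.finrank F2 (V1 ac x) = 8
  · refine Or.inl fun v => ?_
    have : V1 ac x = ⊤ := Submodule.eq_top_of_finrank_eq (h8.trans h.dim.symm)
    exact mem_V1.1 (this ▸ Submodule.mem_top)
  have hfix1 : ∀ v ∈ V1 ac x, h.act a v = v := fun v hv => by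
    by_contra hne
    exact h8 (h.free_of_moved hx ha5 (h.act_mem_V1 hx a) (h.fpf3_V1 hx).mem
      (fun w hw e => h.nondeg_V1 hx hw e) le_rfl ⟨v, hv, hne⟩).1
  obtain ⟨w, hw, hwa⟩ : ∃ w ∈ V0 ac x, h.act a w ≠ w := by
    by_contra hcon
    refine ha1 (h.act_faithful fun v => ?_)
    obtain ⟨p, hp, r, hr, rfl⟩ := Submodule.mem_sup.1 ((h.sup_V hx).symm ▸ Submodule.mem_top : v ∈ _)
    rw [map_add, hfix1 r hr]
    by_cases e : h.act a p = p
    · rw [e]
    · exact absurd ⟨p, hp, e⟩ hcon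
  obtain ⟨Y, hYU, hY5, h4, h48, hn', hYmem⟩ := QF.exists_five (Φ := Φ) (U := V0 ac x)
    (y := (h.act a : V →ₗ[F2] V)) (h.act_mem_V0 hx a) (fun w _ => h.act_five ha5 w) (h.act_bil a)
    (fun v hv e => h.nondeg_V0 hx hv e) ⟨w, hw, hwa⟩
  have hle := Submodule.finrank_mono hYU
  obtain ⟨k, hk⟩ := he
  rcases (show Module.finrank F2 (V1 ac x) = 2 ∨ Module.finrank F2 (V1 ac x) = 4 by omega) with e | e
  · refine Or.inr ⟨by omega, e, fun c hc h1 h2 v hv => ?_⟩
    let b : alternatingGroup (Fin 6) := ⟨(pi c).2, Equiv.Perm.mem_alternatingGroup.2 h2⟩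
    rw [h.act_eq hc (show pi c = ((1, b.1) : P36) from Prod.ext h1 rfl) v]
    exact h.act_trivial (h.act_mem_V1 hx) ha1 hfix1 b v hv
  · exfalso
    have hY : Y = V0 ac x := Submodule.eq_of_le_of_finrank_le hYU (by omega)
    subst hY
    exact QF.false_of_five (Φ := Φ) (A := alternatingGroup (Fin 6))
      (by rw [nat_card_alternatingGroup, Nat.card_eq_fintype_card, Fintype.card_fin]; decide)
      h.act (h.act_mem_V0 hx) (fun b w _ => h.ac_q (h.lf_comm b) w) hY5 (by omega) hn'

/-- In case A the elements of order five act without fixed vectors. -/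
theorem five_free (hA : CaseA ac x) {c : G} (hc : Commute c z) (h1 : (pi c).1 = 1)
    (h5 : (pi c).2 ^ 5 = 1) (hne : (pi c).2 ≠ 1) : QF.Fpf5 ⊤ (ac c) := by
  have := h.finite
  have hs : sign (pi c).2 = 1 := by
    have h0 := congrArg sign h5
    rw [map_pow, map_one] at h0
    rcases Int.units_eq_one_or (sign (pi c).2) with e | e
    · exact e
    · rw [e] at h0; exact absurd h0 (by decide)
  let a : alternatingGroup (Fin 6) := ⟨(pi c).2, Equiv.Perm.mem_alternatingGroup.2 hs⟩
  have e : ac c = (h.act a : V →ₗ[F2] V) :=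
    LinearMap.ext fun v => h.act_eq hc (show pi c = ((1, a.1) : P36) from Prod.ext h1 rfl) v
  rw [e]
  refine (h.free_of_moved hx (U := ⊤) (Subtype.ext h5) (fun _ _ => Submodule.mem_top)
    (fun _ _ => Submodule.mem_top) (fun v _ hv => Φ.eq_zero_of_perp fun w => hv w Submodule.mem_top)
    (fun v _ => mem_V1.2 (hA v)) ?_).2
  by_contra hcon
  refine hne (congrArg Subtype.val (h.act_faithful (a := a) fun v => ?_))
  by_contra hv
  exact hcon ⟨v, Submodule.mem_top, hv⟩

end Base

end Cfsg.Agent.Lib.ExtraNine31
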