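import Mathlib.GroupTheory.Perm.Basic
import Mathlib.Data.List.FinRange
import Mathlib.Data.Fintype.Perm
import Mathlib.Tactic

/-!
# Two facts about the symmetric group of degree six, checked on image lists

Owner: helper31.
-/

set_option autoImplicit false
set_option maxHeartbeats 0

namespace Cfsg.Agent.Lib.ExtraNine31

/-- The image list of a permutation. -/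
def enc6 (p : Equiv.Perm (Fin 6)) : List ℕ := List.ofFn fun i => (p i).val

/-- Composition of image lists. -/
def comp6 (a b : List ℕ) : List ℕ := b.map fun i => a.getD i 0

/-- The identity list. -/
def id6 : List ℕ := [0, 1, 2, 3, 4, 5]

/-- All image lists. -/
def all6 : List (List ℕ) :=
  [[0, 1, 2, 3, 4, 5], [0, 1, 2, 3, 5, 4], [0, 1, 2, 4, 3, 5], [0, 1, 2, 4, 5, 3], [0, 1, 2, 5, 3, 4],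
    [0, 1, 2, 5, 4, 3], [0, 1, 3, 2, 4, 5], [0, 1, 3, 2, 5, 4], [0, 1, 3, 4, 2, 5], [0, 1, 3, 4, 5, 2],
    [0, 1, 3, 5, 2, 4], [0, 1, 3, 5, 4, 2], [0, 1, 4, 2, 3, 5], [0, 1, 4, 2, 5, 3], [0, 1, 4, 3, 2, 5],
    [0, 1, 4, 3, 5, 2], [0, 1, 4, 5, 2, 3], [0, 1, 4, 5, 3, 2], [0, 1, 5, 2, 3, 4], [0, 1, 5, 2, 4, 3],
    [0, 1, 5, 3, 2, 4], [0, 1, 5, 3, 4, 2], [0, 1, 5, 4, 2, 3], [0, 1, 5, 4, 3, 2], [0, 2, 1, 3, 4, 5],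
    [0, 2, 1, 3, 5, 4], [0, 2, 1, 4, 3, 5], [0, 2, 1, 4, 5, 3], [0, 2, 1, 5, 3, 4], [0, 2, 1, 5, 4, 3],
    [0, 2, 3, 1, 4, 5], [0, 2, 3, 1, 5, 4], [0, 2, 3, 4, 1, 5], [0, 2, 3, 4, 5, 1], [0, 2, 3, 5, 1, 4],
    [0, 2, 3, 5, 4, 1], [0, 2, 4, 1, 3, 5], [0, 2, 4, 1, 5, 3], [0, 2, 4, 3, 1, 5], [0, 2, 4, 3, 5, 1],
    [0, 2, 4, 5, 1, 3], [0, 2, 4, 5, 3, 1], [0, 2, 5, 1, 3, 4], [0, 2, 5, 1, 4, 3], [0, 2, 5, 3, 1, 4],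
    [0, 2, 5, 3, 4, 1], [0, 2, 5, 4, 1, 3], [0, 2, 5, 4, 3, 1], [0, 3, 1, 2, 4, 5], [0, 3, 1, 2, 5, 4],
    [0, 3, 1, 4, 2, 5], [0, 3, 1, 4, 5, 2], [0, 3, 1, 5, 2, 4], [0, 3, 1, 5, 4, 2], [0, 3, 2, 1, 4, 5],
    [0, 3, 2, 1, 5, 4], [0, 3, 2, 4, 1, 5], [0, 3, 2, 4, 5, 1], [0, 3, 2, 5, 1, 4], [0, 3, 2, 5, 4, 1],
    [0, 3, 4, 1, 2, 5], [0, 3, 4, 1, 5, 2], [0, 3, 4, 2, 1, 5], [0, 3, 4, 2, 5, 1], [0, 3, 4, 5, 1, 2],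
    [0, 3, 4, 5, 2, 1], [0, 3, 5, 1, 2, 4], [0, 3, 5, 1, 4, 2], [0, 3, 5, 2, 1, 4], [0, 3, 5, 2, 4, 1],
    [0, 3, 5, 4, 1, 2], [0, 3, 5, 4, 2, 1], [0, 4, 1, 2, 3, 5], [0, 4, 1, 2, 5, 3], [0, 4, 1, 3, 2, 5],
    [0, 4, 1, 3, 5, 2], [0, 4, 1, 5, 2, 3], [0, 4, 1, 5, 3, 2], [0, 4, 2, 1, 3, 5], [0, 4, 2, 1, 5, 3],
    [0, 4, 2, 3, 1, 5], [0, 4, 2, 3, 5, 1], [0, 4, 2, 5, 1, 3], [0, 4, 2, 5, 3, 1], [0, 4, 3, 1, 2, 5],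
    [0, 4, 3, 1, 5, 2], [0, 4, 3, 2, 1, 5], [0, 4, 3, 2, 5, 1], [0, 4, 3, 5, 1, 2], [0, 4, 3, 5, 2, 1],
    [0, 4, 5, 1, 2, 3], [0, 4, 5, 1, 3, 2], [0, 4, 5, 2, 1, 3], [0, 4, 5, 2, 3, 1], [0, 4, 5, 3, 1, 2],
    [0, 4, 5, 3, 2, 1], [0, 5, 1, 2, 3, 4], [0, 5, 1, 2, 4, 3], [0, 5, 1, 3, 2, 4], [0, 5, 1, 3, 4, 2],
    [0, 5, 1, 4, 2, 3], [0, 5, 1, 4, 3, 2], [0, 5, 2, 1, 3, 4], [0, 5, 2, 1, 4, 3], [0, 5, 2, 3, 1, 4],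
    [0, 5, 2, 3, 4, 1], [0, 5, 2, 4, 1, 3], [0, 5, 2, 4, 3, 1], [0, 5, 3, 1, 2, 4], [0, 5, 3, 1, 4, 2],
    [0, 5, 3, 2, 1, 4], [0, 5, 3, 2, 4, 1], [0, 5, 3, 4, 1, 2], [0, 5, 3, 4, 2, 1], [0, 5, 4, 1, 2, 3],
    [0, 5, 4, 1, 3, 2], [0, 5, 4, 2, 1, 3], [0, 5, 4, 2, 3, 1], [0, 5, 4, 3, 1, 2], [0, 5, 4, 3, 2, 1],
    [1, 0, 2, 3, 4, 5], [1, 0, 2, 3, 5, 4], [1, 0, 2, 4, 3, 5], [1, 0, 2, 4, 5, 3], [1, 0, 2, 5, 3, 4],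
    [1, 0, 2, 5, 4, 3], [1, 0, 3, 2, 4, 5], [1, 0, 3, 2, 5, 4], [1, 0, 3, 4, 2, 5], [1, 0, 3, 4, 5, 2],
    [1, 0, 3, 5, 2, 4], [1, 0, 3, 5, 4, 2], [1, 0, 4, 2, 3, 5], [1, 0, 4, 2, 5, 3], [1, 0, 4, 3, 2, 5],
    [1, 0, 4, 3, 5, 2], [1, 0, 4, 5, 2, 3], [1, 0, 4, 5, 3, 2], [1, 0, 5, 2, 3, 4], [1, 0, 5, 2, 4, 3],
    [1, 0, 5, 3, 2, 4], [1, 0, 5, 3, 4, 2], [1, 0, 5, 4, 2, 3], [1, 0, 5, 4, 3, 2], [1, 2, 0, 3, 4, 5],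
    [1, 2, 0, 3, 5, 4], [1, 2, 0, 4, 3, 5], [1, 2, 0, 4, 5, 3], [1, 2, 0, 5, 3, 4], [1, 2, 0, 5, 4, 3],
    [1, 2, 3, 0, 4, 5], [1, 2, 3, 0, 5, 4], [1, 2, 3, 4, 0, 5], [1, 2, 3, 4, 5, 0], [1, 2, 3, 5, 0, 4],
    [1, 2, 3, 5, 4, 0], [1, 2, 4, 0, 3, 5], [1, 2, 4, 0, 5, 3], [1, 2, 4, 3, 0, 5], [1, 2, 4, 3, 5, 0],
    [1, 2, 4, 5, 0, 3], [1, 2, 4, 5, 3, 0], [1, 2, 5, 0, 3, 4], [1, 2, 5, 0, 4, 3], [1, 2, 5, 3, 0, 4],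
    [1, 2, 5, 3, 4, 0], [1, 2, 5, 4, 0, 3], [1, 2, 5, 4, 3, 0], [1, 3, 0, 2, 4, 5], [1, 3, 0, 2, 5, 4],
    [1, 3, 0, 4, 2, 5], [1, 3, 0, 4, 5, 2], [1, 3, 0, 5, 2, 4], [1, 3, 0, 5, 4, 2], [1, 3, 2, 0, 4, 5],
    [1, 3, 2, 0, 5, 4], [1, 3, 2, 4, 0, 5], [1, 3, 2, 4, 5, 0], [1, 3, 2, 5, 0, 4], [1, 3, 2, 5, 4, 0],
    [1, 3, 4, 0, 2, 5], [1, 3, 4, 0, 5, 2], [1, 3, 4, 2, 0, 5], [1, 3, 4, 2, 5, 0], [1, 3, 4, 5, 0, 2],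
    [1, 3, 4, 5, 2, 0], [1, 3, 5, 0, 2, 4], [1, 3, 5, 0, 4, 2], [1, 3, 5, 2, 0, 4], [1, 3, 5, 2, 4, 0],
    [1, 3, 5, 4, 0, 2], [1, 3, 5, 4, 2, 0], [1, 4, 0, 2, 3, 5], [1, 4, 0, 2, 5, 3], [1, 4, 0, 3, 2, 5],
    [1, 4, 0, 3, 5, 2], [1, 4, 0, 5, 2, 3], [1, 4, 0, 5, 3, 2], [1, 4, 2, 0, 3, 5], [1, 4, 2, 0, 5, 3],
    [1, 4, 2, 3, 0, 5], [1, 4, 2, 3, 5, 0], [1, 4, 2, 5, 0, 3], [1, 4, 2, 5, 3, 0], [1, 4, 3, 0, 2, 5],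
    [1, 4, 3, 0, 5, 2], [1, 4, 3, 2, 0, 5], [1, 4, 3, 2, 5, 0], [1, 4, 3, 5, 0, 2], [1, 4, 3, 5, 2, 0],
    [1, 4, 5, 0, 2, 3], [1, 4, 5, 0, 3, 2], [1, 4, 5, 2, 0, 3], [1, 4, 5, 2, 3, 0], [1, 4, 5, 3, 0, 2],
    [1, 4, 5, 3, 2, 0], [1, 5, 0, 2, 3, 4], [1, 5, 0, 2, 4, 3], [1, 5, 0, 3, 2, 4], [1, 5, 0, 3, 4, 2],
    [1, 5, 0, 4, 2, 3], [1, 5, 0, 4, 3, 2], [1, 5, 2, 0, 3, 4], [1, 5, 2, 0, 4, 3], [1, 5, 2, 3, 0, 4],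
    [1, 5, 2, 3, 4, 0], [1, 5, 2, 4, 0, 3], [1, 5, 2, 4, 3, 0], [1, 5, 3, 0, 2, 4], [1, 5, 3, 0, 4, 2],
    [1, 5, 3, 2, 0, 4], [1, 5, 3, 2, 4, 0], [1, 5, 3, 4, 0, 2], [1, 5, 3, 4, 2, 0], [1, 5, 4, 0, 2, 3],
    [1, 5, 4, 0, 3, 2], [1, 5, 4, 2, 0, 3], [1, 5, 4, 2, 3, 0], [1, 5, 4, 3, 0, 2], [1, 5, 4, 3, 2, 0],
    [2, 0, 1, 3, 4, 5], [2, 0, 1, 3, 5, 4], [2, 0, 1, 4, 3, 5], [2, 0, 1, 4, 5, 3], [2, 0, 1, 5, 3, 4],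
    [2, 0, 1, 5, 4, 3], [2, 0, 3, 1, 4, 5], [2, 0, 3, 1, 5, 4], [2, 0, 3, 4, 1, 5], [2, 0, 3, 4, 5, 1],
    [2, 0, 3, 5, 1, 4], [2, 0, 3, 5, 4, 1], [2, 0, 4, 1, 3, 5], [2, 0, 4, 1, 5, 3], [2, 0, 4, 3, 1, 5],
    [2, 0, 4, 3, 5, 1], [2, 0, 4, 5, 1, 3], [2, 0, 4, 5, 3, 1], [2, 0, 5, 1, 3, 4], [2, 0, 5, 1, 4, 3],
    [2, 0, 5, 3, 1, 4], [2, 0, 5, 3, 4, 1], [2, 0, 5, 4, 1, 3], [2, 0, 5, 4, 3, 1], [2, 1, 0, 3, 4, 5],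
    [2, 1, 0, 3, 5, 4], [2, 1, 0, 4, 3, 5], [2, 1, 0, 4, 5, 3], [2, 1, 0, 5, 3, 4], [2, 1, 0, 5, 4, 3],
    [2, 1, 3, 0, 4, 5], [2, 1, 3, 0, 5, 4], [2, 1, 3, 4, 0, 5], [2, 1, 3, 4, 5, 0], [2, 1, 3, 5, 0, 4],
    [2, 1, 3, 5, 4, 0], [2, 1, 4, 0, 3, 5], [2, 1, 4, 0, 5, 3], [2, 1, 4, 3, 0, 5], [2, 1, 4, 3, 5, 0],
    [2, 1, 4, 5, 0, 3], [2, 1, 4, 5, 3, 0], [2, 1, 5, 0, 3, 4], [2, 1, 5, 0, 4, 3], [2, 1, 5, 3, 0, 4],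
    [2, 1, 5, 3, 4, 0], [2, 1, 5, 4, 0, 3], [2, 1, 5, 4, 3, 0], [2, 3, 0, 1, 4, 5], [2, 3, 0, 1, 5, 4],
    [2, 3, 0, 4, 1, 5], [2, 3, 0, 4, 5, 1], [2, 3, 0, 5, 1, 4], [2, 3, 0, 5, 4, 1], [2, 3, 1, 0, 4, 5],
    [2, 3, 1, 0, 5, 4], [2, 3, 1, 4, 0, 5], [2, 3, 1, 4, 5, 0], [2, 3, 1, 5, 0, 4], [2, 3, 1, 5, 4, 0],
    [2, 3, 4, 0, 1, 5], [2, 3, 4, 0, 5, 1], [2, 3, 4, 1, 0, 5], [2, 3, 4, 1, 5, 0], [2, 3, 4, 5, 0, 1],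
    [2, 3, 4, 5, 1, 0], [2, 3, 5, 0, 1, 4], [2, 3, 5, 0, 4, 1], [2, 3, 5, 1, 0, 4], [2, 3, 5, 1, 4, 0],
    [2, 3, 5, 4, 0, 1], [2, 3, 5, 4, 1, 0], [2, 4, 0, 1, 3, 5], [2, 4, 0, 1, 5, 3], [2, 4, 0, 3, 1, 5],
    [2, 4, 0, 3, 5, 1], [2, 4, 0, 5, 1, 3], [2, 4, 0, 5, 3, 1], [2, 4, 1, 0, 3, 5], [2, 4, 1, 0, 5, 3],
    [2, 4, 1, 3, 0, 5], [2, 4, 1, 3, 5, 0], [2, 4, 1, 5, 0, 3], [2, 4, 1, 5, 3, 0], [2, 4, 3, 0, 1, 5],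
    [2, 4, 3, 0, 5, 1], [2, 4, 3, 1, 0, 5], [2, 4, 3, 1, 5, 0], [2, 4, 3, 5, 0, 1], [2, 4, 3, 5, 1, 0],
    [2, 4, 5, 0, 1, 3], [2, 4, 5, 0, 3, 1], [2, 4, 5, 1, 0, 3], [2, 4, 5, 1, 3, 0], [2, 4, 5, 3, 0, 1],
    [2, 4, 5, 3, 1, 0], [2, 5, 0, 1, 3, 4], [2, 5, 0, 1, 4, 3], [2, 5, 0, 3, 1, 4], [2, 5, 0, 3, 4, 1],
    [2, 5, 0, 4, 1, 3], [2, 5, 0, 4, 3, 1], [2, 5, 1, 0, 3, 4], [2, 5, 1, 0, 4, 3], [2, 5, 1, 3, 0, 4],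
    [2, 5, 1, 3, 4, 0], [2, 5, 1, 4, 0, 3], [2, 5, 1, 4, 3, 0], [2, 5, 3, 0, 1, 4], [2, 5, 3, 0, 4, 1],
    [2, 5, 3, 1, 0, 4], [2, 5, 3, 1, 4, 0], [2, 5, 3, 4, 0, 1], [2, 5, 3, 4, 1, 0], [2, 5, 4, 0, 1, 3],
    [2, 5, 4, 0, 3, 1], [2, 5, 4, 1, 0, 3], [2, 5, 4, 1, 3, 0], [2, 5, 4, 3, 0, 1], [2, 5, 4, 3, 1, 0],
    [3, 0, 1, 2, 4, 5], [3, 0, 1, 2, 5, 4], [3, 0, 1, 4, 2, 5], [3, 0, 1, 4, 5, 2], [3, 0, 1, 5, 2, 4],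
    [3, 0, 1, 5, 4, 2], [3, 0, 2, 1, 4, 5], [3, 0, 2, 1, 5, 4], [3, 0, 2, 4, 1, 5], [3, 0, 2, 4, 5, 1],
    [3, 0, 2, 5, 1, 4], [3, 0, 2, 5, 4, 1], [3, 0, 4, 1, 2, 5], [3, 0, 4, 1, 5, 2], [3, 0, 4, 2, 1, 5],
    [3, 0, 4, 2, 5, 1], [3, 0, 4, 5, 1, 2], [3, 0, 4, 5, 2, 1], [3, 0, 5, 1, 2, 4], [3, 0, 5, 1, 4, 2],
    [3, 0, 5, 2, 1, 4], [3, 0, 5, 2, 4, 1], [3, 0, 5, 4, 1, 2], [3, 0, 5, 4, 2, 1], [3, 1, 0, 2, 4, 5],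
    [3, 1, 0, 2, 5, 4], [3, 1, 0, 4, 2, 5], [3, 1, 0, 4, 5, 2], [3, 1, 0, 5, 2, 4], [3, 1, 0, 5, 4, 2],
    [3, 1, 2, 0, 4, 5], [3, 1, 2, 0, 5, 4], [3, 1, 2, 4, 0, 5], [3, 1, 2, 4, 5, 0], [3, 1, 2, 5, 0, 4],
    [3, 1, 2, 5, 4, 0], [3, 1, 4, 0, 2, 5], [3, 1, 4, 0, 5, 2], [3, 1, 4, 2, 0, 5], [3, 1, 4, 2, 5, 0],
    [3, 1, 4, 5, 0, 2], [3, 1, 4, 5, 2, 0], [3, 1, 5, 0, 2, 4], [3, 1, 5, 0, 4, 2], [3, 1, 5, 2, 0, 4],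
    [3, 1, 5, 2, 4, 0], [3, 1, 5, 4, 0, 2], [3, 1, 5, 4, 2, 0], [3, 2, 0, 1, 4, 5], [3, 2, 0, 1, 5, 4],
    [3, 2, 0, 4, 1, 5], [3, 2, 0, 4, 5, 1], [3, 2, 0, 5, 1, 4], [3, 2, 0, 5, 4, 1], [3, 2, 1, 0, 4, 5],
    [3, 2, 1, 0, 5, 4], [3, 2, 1, 4, 0, 5], [3, 2, 1, 4, 5, 0], [3, 2, 1, 5, 0, 4], [3, 2, 1, 5, 4, 0],
    [3, 2, 4, 0, 1, 5], [3, 2, 4, 0, 5, 1], [3, 2, 4, 1, 0, 5], [3, 2, 4, 1, 5, 0], [3, 2, 4, 5, 0, 1],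
    [3, 2, 4, 5, 1, 0], [3, 2, 5, 0, 1, 4], [3, 2, 5, 0, 4, 1], [3, 2, 5, 1, 0, 4], [3, 2, 5, 1, 4, 0],
    [3, 2, 5, 4, 0, 1], [3, 2, 5, 4, 1, 0], [3, 4, 0, 1, 2, 5], [3, 4, 0, 1, 5, 2], [3, 4, 0, 2, 1, 5],
    [3, 4, 0, 2, 5, 1], [3, 4, 0, 5, 1, 2], [3, 4, 0, 5, 2, 1], [3, 4, 1, 0, 2, 5], [3, 4, 1, 0, 5, 2],
    [3, 4, 1, 2, 0, 5], [3, 4, 1, 2, 5, 0], [3, 4, 1, 5, 0, 2], [3, 4, 1, 5, 2, 0], [3, 4, 2, 0, 1, 5],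
    [3, 4, 2, 0, 5, 1], [3, 4, 2, 1, 0, 5], [3, 4, 2, 1, 5, 0], [3, 4, 2, 5, 0, 1], [3, 4, 2, 5, 1, 0],
    [3, 4, 5, 0, 1, 2], [3, 4, 5, 0, 2, 1], [3, 4, 5, 1, 0, 2], [3, 4, 5, 1, 2, 0], [3, 4, 5, 2, 0, 1],
    [3, 4, 5, 2, 1, 0], [3, 5, 0, 1, 2, 4], [3, 5, 0, 1, 4, 2], [3, 5, 0, 2, 1, 4], [3, 5, 0, 2, 4, 1],
    [3, 5, 0, 4, 1, 2], [3, 5, 0, 4, 2, 1], [3, 5, 1, 0, 2, 4], [3, 5, 1, 0, 4, 2], [3, 5, 1, 2, 0, 4],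
    [3, 5, 1, 2, 4, 0], [3, 5, 1, 4, 0, 2], [3, 5, 1, 4, 2, 0], [3, 5, 2, 0, 1, 4], [3, 5, 2, 0, 4, 1],
    [3, 5, 2, 1, 0, 4], [3, 5, 2, 1, 4, 0], [3, 5, 2, 4, 0, 1], [3, 5, 2, 4, 1, 0], [3, 5, 4, 0, 1, 2],
    [3, 5, 4, 0, 2, 1], [3, 5, 4, 1, 0, 2], [3, 5, 4, 1, 2, 0], [3, 5, 4, 2, 0, 1], [3, 5, 4, 2, 1, 0],
    [4, 0, 1, 2, 3, 5], [4, 0, 1, 2, 5, 3], [4, 0, 1, 3, 2, 5], [4, 0, 1, 3, 5, 2], [4, 0, 1, 5, 2, 3],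
    [4, 0, 1, 5, 3, 2], [4, 0, 2, 1, 3, 5], [4, 0, 2, 1, 5, 3], [4, 0, 2, 3, 1, 5], [4, 0, 2, 3, 5, 1],
    [4, 0, 2, 5, 1, 3], [4, 0, 2, 5, 3, 1], [4, 0, 3, 1, 2, 5], [4, 0, 3, 1, 5, 2], [4, 0, 3, 2, 1, 5],
    [4, 0, 3, 2, 5, 1], [4, 0, 3, 5, 1, 2], [4, 0, 3, 5, 2, 1], [4, 0, 5, 1, 2, 3], [4, 0, 5, 1, 3, 2],
    [4, 0, 5, 2, 1, 3], [4, 0, 5, 2, 3, 1], [4, 0, 5, 3, 1, 2], [4, 0, 5, 3, 2, 1], [4, 1, 0, 2, 3, 5],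
    [4, 1, 0, 2, 5, 3], [4, 1, 0, 3, 2, 5], [4, 1, 0, 3, 5, 2], [4, 1, 0, 5, 2, 3], [4, 1, 0, 5, 3, 2],
    [4, 1, 2, 0, 3, 5], [4, 1, 2, 0, 5, 3], [4, 1, 2, 3, 0, 5], [4, 1, 2, 3, 5, 0], [4, 1, 2, 5, 0, 3],
    [4, 1, 2, 5, 3, 0], [4, 1, 3, 0, 2, 5], [4, 1, 3, 0, 5, 2], [4, 1, 3, 2, 0, 5], [4, 1, 3, 2, 5, 0],
    [4, 1, 3, 5, 0, 2], [4, 1, 3, 5, 2, 0], [4, 1, 5, 0, 2, 3], [4, 1, 5, 0, 3, 2], [4, 1, 5, 2, 0, 3],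
    [4, 1, 5, 2, 3, 0], [4, 1, 5, 3, 0, 2], [4, 1, 5, 3, 2, 0], [4, 2, 0, 1, 3, 5], [4, 2, 0, 1, 5, 3],
    [4, 2, 0, 3, 1, 5], [4, 2, 0, 3, 5, 1], [4, 2, 0, 5, 1, 3], [4, 2, 0, 5, 3, 1], [4, 2, 1, 0, 3, 5],
    [4, 2, 1, 0, 5, 3], [4, 2, 1, 3, 0, 5], [4, 2, 1, 3, 5, 0], [4, 2, 1, 5, 0, 3], [4, 2, 1, 5, 3, 0],
    [4, 2, 3, 0, 1, 5], [4, 2, 3, 0, 5, 1], [4, 2, 3, 1, 0, 5], [4, 2, 3, 1, 5, 0], [4, 2, 3, 5, 0, 1],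
    [4, 2, 3, 5, 1, 0], [4, 2, 5, 0, 1, 3], [4, 2, 5, 0, 3, 1], [4, 2, 5, 1, 0, 3], [4, 2, 5, 1, 3, 0],
    [4, 2, 5, 3, 0, 1], [4, 2, 5, 3, 1, 0], [4, 3, 0, 1, 2, 5], [4, 3, 0, 1, 5, 2], [4, 3, 0, 2, 1, 5],
    [4, 3, 0, 2, 5, 1], [4, 3, 0, 5, 1, 2], [4, 3, 0, 5, 2, 1], [4, 3, 1, 0, 2, 5], [4, 3, 1, 0, 5, 2],
    [4, 3, 1, 2, 0, 5], [4, 3, 1, 2, 5, 0], [4, 3, 1, 5, 0, 2], [4, 3, 1, 5, 2, 0], [4, 3, 2, 0, 1, 5],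
    [4, 3, 2, 0, 5, 1], [4, 3, 2, 1, 0, 5], [4, 3, 2, 1, 5, 0], [4, 3, 2, 5, 0, 1], [4, 3, 2, 5, 1, 0],
    [4, 3, 5, 0, 1, 2], [4, 3, 5, 0, 2, 1], [4, 3, 5, 1, 0, 2], [4, 3, 5, 1, 2, 0], [4, 3, 5, 2, 0, 1],
    [4, 3, 5, 2, 1, 0], [4, 5, 0, 1, 2, 3], [4, 5, 0, 1, 3, 2], [4, 5, 0, 2, 1, 3], [4, 5, 0, 2, 3, 1],
    [4, 5, 0, 3, 1, 2], [4, 5, 0, 3, 2, 1], [4, 5, 1, 0, 2, 3], [4, 5, 1, 0, 3, 2], [4, 5, 1, 2, 0, 3],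
    [4, 5, 1, 2, 3, 0], [4, 5, 1, 3, 0, 2], [4, 5, 1, 3, 2, 0], [4, 5, 2, 0, 1, 3], [4, 5, 2, 0, 3, 1],
    [4, 5, 2, 1, 0, 3], [4, 5, 2, 1, 3, 0], [4, 5, 2, 3, 0, 1], [4, 5, 2, 3, 1, 0], [4, 5, 3, 0, 1, 2],
    [4, 5, 3, 0, 2, 1], [4, 5, 3, 1, 0, 2], [4, 5, 3, 1, 2, 0], [4, 5, 3, 2, 0, 1], [4, 5, 3, 2, 1, 0],
    [5, 0, 1, 2, 3, 4], [5, 0, 1, 2, 4, 3], [5, 0, 1, 3, 2, 4], [5, 0, 1, 3, 4, 2], [5, 0, 1, 4, 2, 3],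
    [5, 0, 1, 4, 3, 2], [5, 0, 2, 1, 3, 4], [5, 0, 2, 1, 4, 3], [5, 0, 2, 3, 1, 4], [5, 0, 2, 3, 4, 1],
    [5, 0, 2, 4, 1, 3], [5, 0, 2, 4, 3, 1], [5, 0, 3, 1, 2, 4], [5, 0, 3, 1, 4, 2], [5, 0, 3, 2, 1, 4],
    [5, 0, 3, 2, 4, 1], [5, 0, 3, 4, 1, 2], [5, 0, 3, 4, 2, 1], [5, 0, 4, 1, 2, 3], [5, 0, 4, 1, 3, 2],
    [5, 0, 4, 2, 1, 3], [5, 0, 4, 2, 3, 1], [5, 0, 4, 3, 1, 2], [5, 0, 4, 3, 2, 1], [5, 1, 0, 2, 3, 4],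
    [5, 1, 0, 2, 4, 3], [5, 1, 0, 3, 2, 4], [5, 1, 0, 3, 4, 2], [5, 1, 0, 4, 2, 3], [5, 1, 0, 4, 3, 2],
    [5, 1, 2, 0, 3, 4], [5, 1, 2, 0, 4, 3], [5, 1, 2, 3, 0, 4], [5, 1, 2, 3, 4, 0], [5, 1, 2, 4, 0, 3],
    [5, 1, 2, 4, 3, 0], [5, 1, 3, 0, 2, 4], [5, 1, 3, 0, 4, 2], [5, 1, 3, 2, 0, 4], [5, 1, 3, 2, 4, 0],
    [5, 1, 3, 4, 0, 2], [5, 1, 3, 4, 2, 0], [5, 1, 4, 0, 2, 3], [5, 1, 4, 0, 3, 2], [5, 1, 4, 2, 0, 3],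
    [5, 1, 4, 2, 3, 0], [5, 1, 4, 3, 0, 2], [5, 1, 4, 3, 2, 0], [5, 2, 0, 1, 3, 4], [5, 2, 0, 1, 4, 3],
    [5, 2, 0, 3, 1, 4], [5, 2, 0, 3, 4, 1], [5, 2, 0, 4, 1, 3], [5, 2, 0, 4, 3, 1], [5, 2, 1, 0, 3, 4],
    [5, 2, 1, 0, 4, 3], [5, 2, 1, 3, 0, 4], [5, 2, 1, 3, 4, 0], [5, 2, 1, 4, 0, 3], [5, 2, 1, 4, 3, 0],
    [5, 2, 3, 0, 1, 4], [5, 2, 3, 0, 4, 1], [5, 2, 3, 1, 0, 4], [5, 2, 3, 1, 4, 0], [5, 2, 3, 4, 0, 1],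
    [5, 2, 3, 4, 1, 0], [5, 2, 4, 0, 1, 3], [5, 2, 4, 0, 3, 1], [5, 2, 4, 1, 0, 3], [5, 2, 4, 1, 3, 0],
    [5, 2, 4, 3, 0, 1], [5, 2, 4, 3, 1, 0], [5, 3, 0, 1, 2, 4], [5, 3, 0, 1, 4, 2], [5, 3, 0, 2, 1, 4],
    [5, 3, 0, 2, 4, 1], [5, 3, 0, 4, 1, 2], [5, 3, 0, 4, 2, 1], [5, 3, 1, 0, 2, 4], [5, 3, 1, 0, 4, 2],
    [5, 3, 1, 2, 0, 4], [5, 3, 1, 2, 4, 0], [5, 3, 1, 4, 0, 2], [5, 3, 1, 4, 2, 0], [5, 3, 2, 0, 1, 4],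
    [5, 3, 2, 0, 4, 1], [5, 3, 2, 1, 0, 4], [5, 3, 2, 1, 4, 0], [5, 3, 2, 4, 0, 1], [5, 3, 2, 4, 1, 0],
    [5, 3, 4, 0, 1, 2], [5, 3, 4, 0, 2, 1], [5, 3, 4, 1, 0, 2], [5, 3, 4, 1, 2, 0], [5, 3, 4, 2, 0, 1],
    [5, 3, 4, 2, 1, 0], [5, 4, 0, 1, 2, 3], [5, 4, 0, 1, 3, 2], [5, 4, 0, 2, 1, 3], [5, 4, 0, 2, 3, 1],
    [5, 4, 0, 3, 1, 2], [5, 4, 0, 3, 2, 1], [5, 4, 1, 0, 2, 3], [5, 4, 1, 0, 3, 2], [5, 4, 1, 2, 0, 3],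
    [5, 4, 1, 2, 3, 0], [5, 4, 1, 3, 0, 2], [5, 4, 1, 3, 2, 0], [5, 4, 2, 0, 1, 3], [5, 4, 2, 0, 3, 1],
    [5, 4, 2, 1, 0, 3], [5, 4, 2, 1, 3, 0], [5, 4, 2, 3, 0, 1], [5, 4, 2, 3, 1, 0], [5, 4, 3, 0, 1, 2],
    [5, 4, 3, 0, 2, 1], [5, 4, 3, 1, 0, 2], [5, 4, 3, 1, 2, 0], [5, 4, 3, 2, 0, 1], [5, 4, 3, 2, 1, 0]]

theorem perms6_sub : ∀ l ∈ id6.permutations', l ∈ all6 := by decide +kernel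

theorem enc6_mem (p : Equiv.Perm (Fin 6)) : enc6 p ∈ all6 :=
  perms6_sub _ (List.mem_permutations'.2 (p.ofFn_comp_perm fun i : Fin 6 => i.val))

theorem enc6_one : enc6 1 = id6 := by decide

theorem enc6_mul (p q : Equiv.Perm (Fin 6)) : enc6 (p * q) = comp6 (enc6 p) (enc6 q) := by
  simp only [enc6, comp6, List.map_ofFn]
  congr 1
  funext i
  simp only [Function.comp, Equiv.Perm.mul_apply]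
  generalize q i = j
  fin_cases j <;> rfl

theorem enc6_inj {p q : Equiv.Perm (Fin 6)} (h : enc6 p = enc6 q) : p = q :=
  Equiv.ext fun i => Fin.ext (congrFun (List.ofFn_injective h) i)

/-- Of order four. -/
def four6 (p : List ℕ) : Bool :=
  let s := comp6 p p
  !(s == id6) && comp6 s s == id6

theorem four6_enc {p : Equiv.Perm (Fin 6)} (h : p * p ≠ 1) (h4 : p * p * (p * p) = 1) :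
    four6 (enc6 p) = true := by
  simp only [four6, ← enc6_mul, h4, enc6_one, BEq.rfl, Bool.and_true, Bool.not_eq_true']
  exact beq_eq_false_iff_ne.2 fun e => h (enc6_inj (e.trans enc6_one.symm))

theorem quat_aux : (all6.filter four6).all (fun p =>
    let s := comp6 p p
    let i := comp6 s p
    all6.all fun r => !(comp6 r p == comp6 i r) || !(comp6 r r == s)) = true := by decide +kernel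

theorem cent_aux : (all6.filter four6).all (fun p =>
    let C := all6.filter fun a => comp6 a p == comp6 p a
    C.all fun a => C.all fun b => comp6 a b == comp6 b a) = true := by decide +kernel

theorem s6_no_quaternion (p : Equiv.Perm (Fin 6)) (h : p * p ≠ 1) (h4 : p * p * (p * p) = 1)
    (r : Equiv.Perm (Fin 6)) (hr : r * p = p * p * p * r) (hs : r * r = p * p) : False := by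
  have := List.all_eq_true.1 (List.all_eq_true.1 quat_aux _
    (List.mem_filter.2 ⟨enc6_mem p, four6_enc h h4⟩)) _ (enc6_mem r)
  simp [← enc6_mul, hr, hs] at this

theorem s6_cent_four (p : Equiv.Perm (Fin 6)) (h : p * p ≠ 1) (h4 : p * p * (p * p) = 1)
    (a : Equiv.Perm (Fin 6)) (ha : a * p = p * a) (b : Equiv.Perm (Fin 6)) (hb : b * p = p * b) :
    a * b = b * a := by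
  have hC : ∀ c, c * p = p * c →
      enc6 c ∈ all6.filter fun a => comp6 a (enc6 p) == comp6 (enc6 p) a := fun c hc =>
    List.mem_filter.2 ⟨enc6_mem c, by simp [← enc6_mul, hc]⟩
  have := List.all_eq_true.1 (List.all_eq_true.1 (List.all_eq_true.1 cent_aux _
    (List.mem_filter.2 ⟨enc6_mem p, four6_enc h h4⟩)) _ (hC a ha)) _ (hC b hb)
  rw [← enc6_mul, ← enc6_mul, beq_iff_eq] at this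
  exact enc6_inj this

end Cfsg.Agent.Lib.ExtraNine31
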