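import Cfsg.Agent.Lib.ExtraNine31.Sym

/-!
# An elementary group of order nine of the symmetric group of degree six is its own centraliser

Owner: helper31.
-/

set_option autoImplicit false
set_option maxHeartbeats 0

namespace Cfsg.Agent.Lib.ExtraNine31

theorem nine_aux :
    let T := all6.filter fun p => comp6 (comp6 p p) p == id6 && !(p == id6)
    T.all (fun p =>
      (T.filter fun r => comp6 p r == comp6 r p && !(r == p) && !(r == comp6 p p)).all fun r =>
        all6.all fun g => !(comp6 g g == id6) || !(comp6 g p == comp6 p g) || !(comp6 g r == comp6 r g) ||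
          g == id6) = true := by decide +kernel

theorem s6_nine_centralizer (p : Equiv.Perm (Fin 6)) (hp : p * p * p = 1) (hp1 : p ≠ 1)
    (r : Equiv.Perm (Fin 6)) (hr : r * r * r = 1) (hr1 : r ≠ 1) (hpr : p * r = r * p) (h1 : r ≠ p)
    (h2 : r ≠ p * p) (g : Equiv.Perm (Fin 6)) (hg : g * g = 1) (hgp : g * p = p * g) (hgr : g * r = r * g) :
    g = 1 := by
  have hne : ∀ {a b : Equiv.Perm (Fin 6)}, a ≠ b → (enc6 a == enc6 b) = false := fun h =>
    beq_eq_false_iff_ne.2 fun e => h (enc6_inj e)
  have key := nine_aux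
  simp only at key
  have hT : ∀ {a : Equiv.Perm (Fin 6)}, a * a * a = 1 → a ≠ 1 →
      enc6 a ∈ all6.filter fun p => comp6 (comp6 p p) p == id6 && !(p == id6) := fun {a} ha ha1 =>
    List.mem_filter.2 ⟨enc6_mem a, by
      simp only [← enc6_mul, ha, ← enc6_one, BEq.rfl, hne ha1, Bool.not_false, Bool.and_true]⟩
  have h3 := List.all_eq_true.1 (List.all_eq_true.1 (List.all_eq_true.1 key _ (hT hp hp1)) _
    (List.mem_filter.2 ⟨hT hr hr1, by
      simp only [← enc6_mul, hpr, BEq.rfl, hne h1, hne h2, Bool.not_false, Bool.and_true]⟩)) _ (enc6_mem g)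
  simp only [← enc6_mul, hg, hgp, hgr, ← enc6_one, BEq.rfl, Bool.not_true, Bool.false_or, beq_iff_eq] at h3
  exact enc6_inj h3

end Cfsg.Agent.Lib.ExtraNine31
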