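import Cfsg.Agent.Lib.ExtraNine31.Fourth
import Cfsg.Agent.Lib.ExtraNine31.Sym3

/-!
# Case A: `z` is the only one of its conjugates in `Q`

Owner: helper31.
-/

set_option autoImplicit false
set_option linter.unusedSectionVars false

namespace Cfsg.Agent.Lib.ExtraNine31

open Cfsg.Agent.Lib.LargeExtraspecial.Basic
open Equiv.Perm (sign)

variable {G : Type*} [Group G] [Finite G] {V : Type*} [AddCommGroup V] [Module F2 V] {z : G}
  {Q : Subgroup G} {Φ : QF V} {co : G → V} {ac : G → V →ₗ[F2] V} {pi : G → P36} {x ke : G}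

/-- A point with `t` in its conjugate of `Q`. -/
def Col (z : G) (Q : Subgroup G) (co : G → V) (t : G) (v : V) : Prop :=
  ∃ k, Pt z Q k ∧ co (k * z * k⁻¹) = v ∧ InC z Q k t

/-- The vectors of the real form from their coordinates. -/
def combo (U W S b : V) (c : F2 × F2 × F2 × F2) : V := c.1 • U + c.2.1 • W + c.2.2.1 • S + c.2.2.2 • b

theorem combo_add (U W S b : V) (c d : F2 × F2 × F2 × F2) :
    combo U W S b (c + d) = combo U W S b c + combo U W S b d := by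
  simp only [combo, Prod.fst_add, Prod.snd_add, add_smul]
  abel

namespace Out

variable (o : Out z Q ke) (h : Base z Q Φ co ac pi) (hx : Lift3 z pi x) (hA : CaseA ac x)
include o h hx hA

theorem col_ac {d : G} (hd : Commute d z) (hdt : Commute d (ke * z * ke⁻¹)) {v : V}
    (hv : Col z Q co (ke * z * ke⁻¹) v) : Col z Q co (ke * z * ke⁻¹) (ac d v) := by
  obtain ⟨k, hk, rfl, hkt⟩ := hv
  refine ⟨d * k, (hk.translate h hd).1, (hk.translate h hd).2, hkt.1, ?_⟩
  have e : d⁻¹ * (ke * z * ke⁻¹) * d = ke * z * ke⁻¹ := by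
    rw [mul_assoc, ← hdt.eq, inv_mul_cancel_left]
  rw [show (d * k)⁻¹ * (ke * z * ke⁻¹) * (d * k) = k⁻¹ * (d⁻¹ * (ke * z * ke⁻¹) * d) * k by group, e]
  exact hkt.2

theorem col_fix {v : V} (hv : Col z Q co (ke * z * ke⁻¹) v) : ac (ke * z * ke⁻¹) v = v := by
  obtain ⟨k, hk, rfl, hkt⟩ := hv
  exact hk.ac_fix h hkt

variable (hs : sign (pi (ke * z * ke⁻¹)).1 ≠ 1)
include hs

theorem col_ii {k : G} (hk : Pt z Q k) (hkt : InC z Q k (ke * z * ke⁻¹)) {q : G} (hq : q ∈ Q)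
    (hqv : co q = ac x (co (k * z * k⁻¹))) :
    ii (ke * z * ke⁻¹) q = k * z * k⁻¹ ∧ ke⁻¹ * (k * z * k⁻¹) * ke ∈ Q := by
  have hF := h.fpf3_top hx hA
  refine ⟨?_, ?_⟩
  · have hqk : k⁻¹ * q * k ∈ Q := hk.meet_lift h hq (hqv ▸ hk.xp_mem h hx hA)
    have hco : co (ii (ke * z * ke⁻¹) q) = co (k * z * k⁻¹) := by
      rw [o.co_ii h hq, hqv, h.ac_x_inv hx o.comm hs, hk.ac_fix h hkt,
        hF.sq_eq Submodule.mem_top, add_assoc, add_self_eq_zero', add_zero]
    have e := h.comm_Q hkt.2 hqk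
    have hb : (k⁻¹ * (ke * z * ke⁻¹) * k)⁻¹ = k⁻¹ * (ke * z * ke⁻¹) * k := by
      refine inv_eq_of_mul_eq_one_left ?_
      rw [← Base.rel_mul, h.conj_sq, mul_one, inv_mul_cancel]
    rw [hb] at e
    have e2 : k⁻¹ * ii (ke * z * ke⁻¹) q * k =
        zp z (Φ.bil (co (k⁻¹ * (ke * z * ke⁻¹) * k)) (co (k⁻¹ * q * k))) := by
      have hz : Commute (k⁻¹ * q * k) (zp z (Φ.bil (co (k⁻¹ * (ke * z * ke⁻¹) * k)) (co (k⁻¹ * q * k)))) :=
        Commute.zp_right (h.commQz hqk) _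
      calc k⁻¹ * ii (ke * z * ke⁻¹) q * k = k⁻¹ * (ke * z * ke⁻¹) * k * (k⁻¹ * q * k) *
            (k⁻¹ * (ke * z * ke⁻¹) * k) * (k⁻¹ * q * k)⁻¹ := by unfold ii; group
        _ = zp z _ := by rw [e, hz.eq, mul_inv_cancel_right]
    have e3 : ii (ke * z * ke⁻¹) q = k * (k⁻¹ * ii (ke * z * ke⁻¹) q * k) * k⁻¹ := by group
    rcases zp_cases z (Φ.bil (co (k⁻¹ * (ke * z * ke⁻¹) * k)) (co (k⁻¹ * q * k))) with e4 | e4 <;>
      rw [e4] at e2 <;> rw [e2] at e3
    · exfalso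
      rw [e3, mul_one, mul_inv_cancel, h.co_one] at hco
      exact hk.co_ne h hco.symm
    · exact e3
  · have e' := h.mem_symm (g := k⁻¹ * ke) (by
      rw [show k⁻¹ * ke * z * (k⁻¹ * ke)⁻¹ = k⁻¹ * (ke * z * ke⁻¹) * k by group]; exact hkt.2)
    rwa [show (k⁻¹ * ke)⁻¹ * z * (k⁻¹ * ke) = ke⁻¹ * (k * z * k⁻¹) * ke by group] at e'

/-- Three collinear points cannot form a triangle. -/
theorem no_three {v₁ v₂ : V} (h1 : Col z Q co (ke * z * ke⁻¹) v₁) (h2 : Col z Q co (ke * z * ke⁻¹) v₂)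
    (h3 : Col z Q co (ke * z * ke⁻¹) (v₁ + v₂)) (hB : Φ.bil (ac x v₁) v₂ = 1) : False := by
  obtain ⟨k1, hk1, rfl, t1⟩ := h1
  obtain ⟨k2, hk2, rfl, t2⟩ := h2
  obtain ⟨k3, hk3, e3, t3⟩ := h3
  obtain ⟨q1, hq1, e1⟩ := h.co_surj (ac x (co (k1 * z * k1⁻¹)))
  obtain ⟨q2, hq2, e2⟩ := h.co_surj (ac x (co (k2 * z * k2⁻¹)))
  obtain ⟨a1, b1⟩ := o.col_ii h hx hA hs hk1 t1 hq1 e1
  obtain ⟨a2, b2⟩ := o.col_ii h hx hA hs hk2 t2 hq2 e2
  obtain ⟨a3, b3⟩ := o.col_ii h hx hA hs hk3 t3 (q := q1 * q2) (mul_mem hq1 hq2)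
    (by rw [h.co_mul q1 hq1 q2 hq2, e1, e2, e3, map_add])
  have e := o.ii_mul h hq1 hq2
  rw [a1, a2, a3, e1, hB, zp_one] at e
  refine o.z_notQ h ?_
  have e' : z = (k1 * z * k1⁻¹ * (k2 * z * k2⁻¹))⁻¹ * (k3 * z * k3⁻¹) := eq_inv_mul_of_mul_eq e.symm
  rw [e', Base.rel_mul, show ∀ a : G, ke⁻¹ * a⁻¹ * ke = (ke⁻¹ * a * ke)⁻¹ from fun a => by group,
    Base.rel_mul]
  exact mul_mem (inv_mem (mul_mem b1 b2)) b3

/-- The elements of the frame can be chosen to centralise `t`. -/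
theorem frame_commute {k : G} (hk : Pt z Q k) (hkt : InC z Q k (ke * z * ke⁻¹)) {w : V}
    (hw0 : Φ.bil (co (k * z * k⁻¹)) w = 0) (hw1 : Φ.bil (co (k * z * k⁻¹)) (ac x w) = 1)
    {r : V} (hr : r ∈ h.real k x w) :
    ∃ d, InC z Q k d ∧ sign (pi d).1 = 1 ∧ Commute d (ke * z * ke⁻¹) ∧
      (∃ c : F2, ac d w = w + r + c • co (k * z * k⁻¹)) ∧
      ∀ r' ∈ h.real k x w, ac d r' = r' + Φ.bil r' (ac x r) • co (k * z * k⁻¹) := by
  obtain ⟨e, he, hes, ⟨c, e1⟩, e2⟩ := hk.frame h hx hA hw0 hw1 hr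
  obtain ⟨q, hq, hqv⟩ := h.co_surj (ac x (co (k * z * k⁻¹)))
  have hqk : k⁻¹ * q * k ∈ Q := hk.meet_lift h hq (hqv ▸ hk.xp_mem h hx hA)
  have back : ∀ a, k⁻¹ * a * k ∈ Q → Φ.bil (co (k⁻¹ * a * k)) (co (k⁻¹ * (ke * z * ke⁻¹) * k)) = 0 →
      Commute a (ke * z * ke⁻¹) := fun a ha hb => by
    have := ((h.commute_Q ha hkt.2).2 hb).map (MulAut.conj k).toMonoidHom
    simpa [mul_assoc] using this
  have hB : Φ.bil (co (k⁻¹ * q * k)) (co (k⁻¹ * (ke * z * ke⁻¹) * k)) = 1 := by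
    refine (f2_cases _).resolve_left fun e0 => ?_
    have hc := back q hqk e0
    have hi := (o.col_ii h hx hA hs hk hkt hq hqv).1
    unfold ii at hi
    rw [mul_assoc (ke * z * ke⁻¹) q, hc.eq, ← mul_assoc (ke * z * ke⁻¹), h.conj_sq, one_mul,
      mul_inv_cancel] at hi
    exact h.es.ne (conj_eq_one_iff.1 hi.symm)
  rcases f2_cases (Φ.bil (co (k⁻¹ * e * k)) (co (k⁻¹ * (ke * z * ke⁻¹) * k))) with e0 | e0
  · exact ⟨e, he, hes, back e he.2 e0, ⟨c, e1⟩, e2⟩
  · have hac : ∀ v, ac (e * q) v = ac e v := fun v => by rw [h.ac_mul he.1 (h.commQz hq), h.ac_Q hq]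
    refine ⟨e * q, he.mul ⟨h.commQz hq, hqk⟩, ?_, ?_, ⟨c, by rw [hac]; exact e1⟩,
      fun r' hr' => by rw [hac]; exact e2 r' hr'⟩
    · rw [h.pi_mul _ _ he.1 (h.commQz hq), (h.pi_ker _ (h.commQz hq)).2 hq, mul_one]; exact hes
    · refine back _ (he.mul ⟨h.commQz hq, hqk⟩).2 ?_
      rw [Base.rel_mul, h.co_mul _ he.2 _ hqk, map_add, LinearMap.add_apply, e0, hB]
      rfl

omit hs in
/-- Nine vectors cannot be permuted freely by an element of order five. -/
theorem false_of_nine {U W S b : V} (hind : Function.Injective (combo U W S b)) {y : V →ₗ[F2] V}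
    (hy : QF.Fpf5 ⊤ y)
    (hinv : ∀ c : F2 × F2 × F2 × F2, c ≠ 0 → c.1 * c.2.1 + c.2.2.1 * c.2.2.2 = 0 →
      ∃ d : F2 × F2 × F2 × F2, d ≠ 0 ∧ d.1 * d.2.1 + d.2.2.1 * d.2.2.2 = 0 ∧
        combo U W S b d = y (combo U W S b c)) : False := by
  let Z := {c : F2 × F2 × F2 × F2 // c ≠ 0 ∧ c.1 * c.2.1 + c.2.2.1 * c.2.2.2 = 0}
  choose f hf using fun c : Z => hinv c.1 c.2.1 c.2.2
  let F : Z → Z := fun c => ⟨f c, (hf c).1, (hf c).2.1⟩
  have hF : ∀ c, combo U W S b (F c).1 = y (combo U W S b c.1) := fun c => (hf c).2.2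
  have hF5 : ∀ c, F (F (F (F (F c)))) = c := fun c => Subtype.ext (hind (by
    rw [hF, hF, hF, hF, hF]; exact hy.pow _ Submodule.mem_top))
  let σ : Equiv.Perm Z :=
    { toFun := F, invFun := fun c => F (F (F (F c))), left_inv := hF5, right_inv := hF5 }
  have hσ : σ ^ 5 ^ 1 = 1 := Equiv.ext fun c => hF5 c
  have : Fact (Nat.Prime 5) := ⟨by norm_num⟩
  obtain ⟨c, hc⟩ := Equiv.Perm.exists_fixed_point_of_prime (p := 5) (σ := σ)
    (by rw [show Fintype.card Z = 9 by decide]; norm_num) hσ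
  have e := hF c
  rw [show F c = c from hc] at e
  refine c.2.1 (hind ?_)
  rw [hy.free _ Submodule.mem_top e.symm]
  simp [combo]

end Out

namespace Pt

variable {g : G} (u : Pt z Q g) (h : Base z Q Φ co ac pi) (hx : Lift3 z pi x) (hA : CaseA ac x)
include u h hx hA

/-- In case A there is no conjugate of `z` in `Q` but `z`. -/
theorem false_of_caseA : False := by
  classical
  obtain ⟨ks, ku, kw, ke, hks, hku, hkw, hsu, hsw, h0, h1, o, hts, htu, htw⟩ := h.exists_common hx hA u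
  have := h.finite
  have := h.finiteV
  have hF := h.fpf3_top hx hA
  set U := co (ku * z * ku⁻¹) with hU
  set W := co (kw * z * kw⁻¹) with hW
  set S := co (ks * z * ks⁻¹) with hS
  set t := ke * z * ke⁻¹ with ht
  have g0 : Φ.bil W U = 0 := (Φ.bil_comm _ _).trans h0
  have hxUW : Φ.bil (ac x U) W = 1 := hku.bil_xp_w h hx hA h0 h1
  have g1 : Φ.bil W (ac x U) = 1 := (Φ.bil_comm _ _).trans hxUW
  have cU : Col z Q co t U := ⟨ku, hku, rfl, o.comm, htu⟩
  have cW : Col z Q co t W := ⟨kw, hkw, rfl, o.comm, htw⟩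
  have cS : Col z Q co t S := ⟨ks, hks, rfl, o.comm, hts⟩
  have hR := h.real_eq hx hA hku hkw hks h0 h1 hsu hsw
  have hSR : S ∈ h.real ku x W :=
    h.mem_real.2 ⟨hsu, (hkw.orth_of_meet h hx hA hsw).1, (hkw.orth_of_meet h hx hA hsw).2⟩
  have hU0 : U ≠ 0 := hku.co_ne h
  have hW0 : W ≠ 0 := hkw.co_ne h
  have hS0 : S ≠ 0 := hks.co_ne h
  have hUW : U ≠ W := fun e => by
    rw [e, Φ.bil_comm, hF.bil_x Submodule.mem_top, hkw.q_co h] at hxUW
    exact zero_ne_one hxUW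
  -- the image inverts the three-element
  have hs : sign (pi t).1 ≠ 1 := fun hs => o.tau_ne h
    (hku.frame_unique h hx hA h0 h1 (e := t) ⟨o.comm, htu⟩ hs (c := 0)
      (by rw [zero_smul, add_zero]; exact o.col_fix h hx hA cW))
  have hfixR : ∀ r ∈ h.real ku x W, ac t r = r := fun r hr => by
    rcases hku.meet_cases h ⟨o.comm, htu⟩ (h.mem_real.1 hr).1 with e | e
    · exact e
    rcases hkw.meet_cases h ⟨o.comm, htw⟩ (h.mem_real.1 (hR.symm ▸ hr : r ∈ h.real kw x U)).1 with e' | e'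
    · exact e'
    · exact absurd (add_left_cancel (e.symm.trans e')) hUW
  -- the vector `b`
  have f1 : ∀ {r r'}, r ∈ h.real ku x W → r' ∈ h.real ku x W → r ≠ 0 → r' ≠ 0 → r ≠ r' →
      Φ.bil r (ac x r') = 1 := fun hr hr' a1 a2 a3 => hku.real_rho h hx hA h0 h1 hr hr' a1 a2 a3
  have f0 : ∀ {r}, r ∈ h.real ku x W → Φ.bil r (ac x r) = 0 := fun hr =>
    (hF.bil_x Submodule.mem_top).trans (hku.meet_TS h _ (h.mem_real.1 hr).1)
  have fl : ∀ {k}, Pt z Q k → InC z Q k t → ∀ {w : V}, Φ.bil (co (k * z * k⁻¹)) w = 0 →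
      Φ.bil (co (k * z * k⁻¹)) (ac x w) = 1 → ∀ {r}, r ∈ h.real k x w →
      ∃ d, InC z Q k d ∧ sign (pi d).1 = 1 ∧ Commute d t ∧
        (∃ c : F2, ac d w = w + r + c • co (k * z * k⁻¹)) ∧
        ∀ r' ∈ h.real k x w, ac d r' = r' + Φ.bil r' (ac x r) • co (k * z * k⁻¹) :=
    fun hk hkt _ a0 a1 _ hr => o.frame_commute h hx hA hs hk hkt a0 a1 hr
  obtain ⟨eS, heS, heSs, heSt, ⟨cS0, heSW⟩, heSR⟩ := fl hku ⟨o.comm, htu⟩ h0 h1 hSR
  obtain ⟨fS, hfS, hfSs, hfSt, ⟨dS0, hfSU⟩, hfSR⟩ := fl hkw ⟨o.comm, htw⟩ g0 g1 (hR.symm ▸ hSR)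
  have colU : ∀ {r}, r ∈ h.real ku x W → r ≠ S → r ≠ 0 → ∀ {f} {c : F2}, InC z Q kw f → Commute f t →
      ac f U = U + r + c • W → (∀ r' ∈ h.real kw x U, ac f r' = r' + Φ.bil r' (ac x r) • W) →
      (c = 0 → Col z Q co t r) ∧ (c = 1 → Col z Q co t (S + r)) := by
    intro r hr hrS hr0 f c hf hft e1 e2
    constructor
    · rintro rfl
      have := o.col_ac h hx hA heS.1 heSt (o.col_ac h hx hA hf.1 hft cU)
      rw [e1, zero_smul, add_zero, map_add, hku.ac_fix h heS, heSR r hr, f1 hr hSR hr0 hS0 hrS, one_smul,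
        add_left_comm, add_self_eq_zero', add_zero] at this
      exact this
    · rintro rfl
      obtain ⟨e', he', -, he't, -, he'R⟩ := fl hku ⟨o.comm, htu⟩ h0 h1 hr
      have := o.col_ac h hx hA heS.1 heSt (o.col_ac h hx hA hf.1 hft (o.col_ac h hx hA he'.1 he't cS))
      rw [he'R S hSR, f1 hSR hr hS0 hr0 (Ne.symm hrS), one_smul, map_add, e1, e2 S (hR.symm ▸ hSR),
        f1 hSR hr hS0 hr0 (Ne.symm hrS), one_smul, add_add_add_comm, add_self_eq_zero', add_zero,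
        map_add, map_add, heSR S hSR, f0 hSR, zero_smul, add_zero, hku.ac_fix h heS, heSR r hr,
        f1 hr hSR hr0 hS0 hrS, one_smul] at this
      rwa [show S + (U + (r + U)) = S + r + (U + U) by abel, add_self_eq_zero', add_zero] at this
  obtain ⟨b₁, hb₁, hb₁'⟩ : ∃ b ∈ h.real ku x W, b ∉ Submodule.span F2 {S} := by
    refine SetLike.not_le_iff_exists.1 fun hle => ?_
    have := Submodule.finrank_mono hle
    rw [hku.finrank_real h hx hA h0 h1, finrank_span_singleton hS0] at this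
    omega
  have hb₁0 : b₁ ≠ 0 := fun e => hb₁' (e ▸ zero_mem _)
  have hb₁S : b₁ ≠ S := fun e => hb₁' (e ▸ Submodule.mem_span_singleton_self _)
  have hb₂0 : S + b₁ ≠ 0 := fun e => hb₁S (eq_of_add_eq_zero' e)
  have hb₂S : S + b₁ ≠ S := fun e => hb₁0 (add_eq_left.1 e)
  have notBoth : ∀ {r}, r ∈ h.real ku x W → r ≠ 0 → r ≠ S → Col z Q co t r → Col z Q co t (S + r) → False :=
    fun {r} hr hr0 hrS c1 c2 => o.no_three h hx hA hs cS c1 c2 (by
      rw [Φ.bil_comm]; exact f1 hr hSR hr0 hS0 hrS)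
  obtain ⟨b, hbR, hb0, hbS, fb, hfb, hfbs, hfbt, hfbU, hfbR⟩ : ∃ b ∈ h.real ku x W, b ≠ 0 ∧ b ≠ S ∧
      ∃ f, InC z Q kw f ∧ sign (pi f).1 = 1 ∧ Commute f t ∧ ac f U = U + b ∧
        ∀ r' ∈ h.real kw x U, ac f r' = r' + Φ.bil r' (ac x b) • W := by
    obtain ⟨f, hf, hfs, hft, ⟨c, e1⟩, e2⟩ := fl hkw ⟨o.comm, htw⟩ g0 g1 (hR.symm ▸ hb₁)
    rcases f2_cases c with rfl | rfl
    · exact ⟨b₁, hb₁, hb₁0, hb₁S, f, hf, hfs, hft, by rwa [zero_smul, add_zero] at e1, e2⟩
    have C2 := (colU hb₁ hb₁S hb₁0 hf hft e1 e2).2 rfl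
    obtain ⟨f', hf', hfs', hft', ⟨c', e1'⟩, e2'⟩ :=
      fl hkw ⟨o.comm, htw⟩ g0 g1 (hR.symm ▸ add_mem hSR hb₁)
    rcases f2_cases c' with rfl | rfl
    · exact ⟨S + b₁, add_mem hSR hb₁, hb₂0, hb₂S, f', hf', hfs', hft', by rwa [zero_smul, add_zero] at e1',
        e2'⟩
    · have C1 := (colU (add_mem hSR hb₁) hb₂S hb₂0 hf' hft' e1' e2').2 rfl
      rw [← add_assoc, add_self_eq_zero', zero_add] at C1
      exact (notBoth hb₁ hb₁0 hb₁S C1 C2).elim
  have cb : Col z Q co t b := (colU hbR hbS hb0 (c := 0) hfb hfbt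
    (by rw [hfbU, zero_smul, add_zero]) hfbR).1 rfl
  have hSb : S + b ∈ h.real ku x W := add_mem hSR hbR
  obtain ⟨eb, heb, hebs, hebt, ⟨cb0, hebW⟩, hebR⟩ := fl hku ⟨o.comm, htu⟩ h0 h1 hbR
  have rUb : Φ.bil S (ac x b) = 1 := f1 hSR hbR hS0 hb0 (Ne.symm hbS)
  have rbS : Φ.bil b (ac x S) = 1 := f1 hbR hSR hb0 hS0 hbS
  have hfSb : ac fS b = b + W := by rw [hfSR b (hR.symm ▸ hbR), rbS, one_smul]
  have hfSS : ac fS S = S := by rw [hfSR S (hR.symm ▸ hSR), f0 hSR, zero_smul, add_zero]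
  have hfbS : ac fb S = S + W := by rw [hfbR S (hR.symm ▸ hSR), rUb, one_smul]
  have hfbb : ac fb b = b := by rw [hfbR b (hR.symm ▸ hbR), f0 hbR, zero_smul, add_zero]
  have heSS : ac eS S = S := by rw [heSR S hSR, f0 hSR, zero_smul, add_zero]
  have heSb : ac eS b = b + U := by rw [heSR b hbR, rbS, one_smul]
  have hebS : ac eb S = S + U := by rw [hebR S hSR, rUb, one_smul]
  have hebb : ac eb b = b := by rw [hebR b hbR, f0 hbR, zero_smul, add_zero]
  have orS := hku.orth_of_meet h hx hA hsu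
  have orS' := hkw.orth_of_meet h hx hA hsw
  have orb := hku.orth_of_meet h hx hA (h.mem_real.1 hbR).1
  have orb' := hkw.orth_of_meet h hx hA (h.mem_real.1 (hR.symm ▸ hbR : b ∈ h.real kw x U)).1
  -- the coefficients vanish
  have hcS : cS0 = 0 := (f2_cases _).resolve_right fun e => by
    have c1 : Col z Q co t (W + S) := by
      have := o.col_ac h hx hA hfb.1 hfbt cS
      rwa [hfbS, add_comm] at this
    have c2 := o.col_ac h hx hA heS.1 heSt cW
    rw [heSW, e, one_smul] at c2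
    refine o.no_three h hx hA hs c1 cU c2 ?_
    rw [map_add, map_add, LinearMap.add_apply, Φ.bil_comm, h1, Φ.bil_comm, (h.orth_x hx hA orS).1, add_zero]
  have hdS : dS0 = 0 := (f2_cases _).resolve_right fun e => by
    have c1 : Col z Q co t (U + S) := by
      have := o.col_ac h hx hA heb.1 hebt cS
      rwa [hebS, add_comm] at this
    have c2 := o.col_ac h hx hA hfS.1 hfSt cU
    rw [hfSU, e, one_smul] at c2
    refine o.no_three h hx hA hs c1 cW c2 ?_
    rw [map_add, map_add, LinearMap.add_apply, hxUW, Φ.bil_comm, (h.orth_x hx hA orS').1, add_zero]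
  have fW : ∀ {d}, InC z Q kw d → ac d W = W := fun hd => hkw.ac_fix h hd
  have hcb : cb0 = 0 := (f2_cases _).resolve_right fun e => by
    -- the chain gives the third vector
    have := o.col_ac h hx hA hfS.1 hfSt
      (o.col_ac h hx hA heb.1 hebt (o.col_ac h hx hA hfb.1 hfbt cS))
    rw [hfbS, map_add, hebS, hebW, e, one_smul,
      show S + U + (W + b + U) = S + b + W + (U + U) by abel, add_self_eq_zero', add_zero, map_add, map_add,
      hfSS, hfSb, fW hfS,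
      show S + (b + W) + W = S + b + (W + W) by abel, add_self_eq_zero', add_zero] at this
    exact notBoth hbR hb0 hbS cb this
  rw [hcS, zero_smul, add_zero] at heSW
  rw [hdS, zero_smul, add_zero] at hfSU
  rw [hcb, zero_smul, add_zero] at hebW
  -- coordinates
  have o1 : Φ.bil (ac x U) U = 0 := (hku.orth_self h hx hA).2
  have o2 : Φ.bil (ac x W) W = 0 := (hkw.orth_self h hx hA).2
  have o3 : Φ.bil (ac x S) S = 0 := (hks.orth_self h hx hA).2
  have o4 : Φ.bil (ac x b) b = 0 := (Φ.bil_comm _ _).trans (f0 hbR)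
  have p1 : Φ.bil (ac x W) U = 1 := (Φ.bil_comm _ _).trans h1
  have p3 : Φ.bil (ac x U) S = 0 := orS.2
  have p4 : Φ.bil (ac x U) b = 0 := orb.2
  have p5 : Φ.bil (ac x W) S = 0 := orS'.2
  have p6 : Φ.bil (ac x W) b = 0 := orb'.2
  have p7 : Φ.bil (ac x S) U = 0 := (h.orth_comm hx hA orS).2
  have p8 : Φ.bil (ac x S) W = 0 := (h.orth_comm hx hA orS').2
  have p9 : Φ.bil (ac x S) b = 1 := (Φ.bil_comm _ _).trans rbS
  have p10 : Φ.bil (ac x b) U = 0 := (h.orth_comm hx hA orb).2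
  have p11 : Φ.bil (ac x b) W = 0 := (h.orth_comm hx hA orb').2
  have p12 : Φ.bil (ac x b) S = 1 := (Φ.bil_comm _ _).trans rUb
  have hcoord : ∀ c, Φ.bil (ac x U) (combo U W S b c) = c.2.1 ∧ Φ.bil (ac x W) (combo U W S b c) = c.1 ∧
      Φ.bil (ac x S) (combo U W S b c) = c.2.2.2 ∧ Φ.bil (ac x b) (combo U W S b c) = c.2.2.1 := by
    intro c
    refine ⟨?_, ?_, ?_, ?_⟩ <;>
      simp only [combo, map_add, map_smul, o1, o2, o3, o4, p1, hxUW, p3, p4, p5, p6, p7, p8, p9, p10, p11,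
        p12, smul_eq_mul, mul_zero, mul_one, add_zero, zero_add]
  have hind : Function.Injective (combo U W S b) := fun c d e => by
    obtain ⟨a1, a2, a3, a4⟩ := hcoord c
    obtain ⟨b1, b2, b3, b4⟩ := hcoord d
    rw [e] at a1 a2 a3 a4
    exact Prod.ext (a2.symm.trans b2) (Prod.ext (a1.symm.trans b1) (Prod.ext (a4.symm.trans b4)
      (a3.symm.trans b3)))
  have hCfix : ∀ c, combo U W S b c ∈ fixS (ac t) := fun c =>
    add_mem (add_mem (add_mem (Submodule.smul_mem _ _ (mem_fixS.2 (o.col_fix h hx hA cU)))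
      (Submodule.smul_mem _ _ (mem_fixS.2 (o.col_fix h hx hA cW))))
      (Submodule.smul_mem _ _ (mem_fixS.2 (o.col_fix h hx hA cS))))
      (Submodule.smul_mem _ _ (mem_fixS.2 (hfixR b hbR)))
  -- the fixed space
  have hxinj : Function.Injective (ac x) := h.ac_injective hx hA hx.comm
  have hdis : Disjoint (fixS (ac t)) ((fixS (ac t)).map (ac x)) := by
    rw [Submodule.disjoint_def]
    rintro v hv ⟨w, hw, rfl⟩
    have e := mem_fixS.1 hv
    rw [h.ac_x_inv hx o.comm hs, mem_fixS.1 hw] at e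
    rw [hF.fixed Submodule.mem_top (hxinj e), map_zero]
  have hle : fixS (ac t) ≤ movS (ac t) := by
    have k1 : Module.finrank F2 ((fixS (ac t)).map (ac x)) = Module.finrank F2 (fixS (ac t)) :=
      (Submodule.equivMapOfInjective (ac x) hxinj _).finrank_eq.symm
    have k2 := Submodule.finrank_sup_add_finrank_inf_eq (fixS (ac t)) ((fixS (ac t)).map (ac x))
    have k3 := Submodule.finrank_le (fixS (ac t) ⊔ (fixS (ac t)).map (ac x))
    have k4 : Module.finrank F2 (movS (ac t)) + Module.finrank F2 (fixS (ac t)) = 8 := o.finrank_fix_mov h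
    rw [hdis.eq_bot, finrank_bot] at k2
    rw [h.dim] at k3
    have hml : movS (ac t) ≤ fixS (ac t) := o.mov_le h
    exact (Submodule.eq_of_le_of_finrank_le hml (by omega)).ge
  have h4 : Module.finrank F2 (fixS (ac t)) = 4 := o.fix_le_mov_iff_dim h hle
  have hsurj : ∀ v ∈ fixS (ac t), ∃ c, combo U W S b c = v := by
    intro v hv
    have hcard : Nat.card (fixS (ac t)) ≤ Nat.card (F2 × F2 × F2 × F2) := by
      rw [Module.natCard_eq_pow_finrank (K := F2) (V := fixS (ac t)), h4, Nat.card_zmod,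
        Nat.card_prod, Nat.card_prod, Nat.card_prod, Nat.card_zmod]
      norm_num
    obtain ⟨c, hc⟩ := ((Function.Injective.bijective_of_nat_card_le
      (f := fun c => (⟨_, hCfix c⟩ : fixS (ac t))) (fun c d e => hind (congrArg Subtype.val e)) hcard).2 ⟨v, hv⟩)
    exact ⟨c, congrArg Subtype.val hc⟩
  have hiso : ∀ v ∈ fixS (ac t), ∀ w ∈ fixS (ac t), Φ.bil v w = 0 := fun v hv w hw => o.mov_orth h (hle hv) hw
  have hq0 : ∀ c, Φ.q (combo U W S b c) = 0 := by
    intro c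
    have hS' : ∀ v ∈ fixS (ac t), ∀ w ∈ fixS (ac t), Φ.q (v + w) = Φ.q v + Φ.q w := fun v hv w hw =>
      Φ.q_add_of_orth (hiso v hv w hw)
    have mU := Submodule.smul_mem _ c.1 (mem_fixS.2 (o.col_fix h hx hA cU))
    have mW := Submodule.smul_mem _ c.2.1 (mem_fixS.2 (o.col_fix h hx hA cW))
    have mS := Submodule.smul_mem _ c.2.2.1 (mem_fixS.2 (o.col_fix h hx hA cS))
    have mb := Submodule.smul_mem _ c.2.2.2 (mem_fixS.2 (hfixR b hbR))
    have hsm : ∀ (a : F2) (v : V), Φ.q v = 0 → Φ.q (a • v) = 0 := fun a v hv => by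
      rcases f2_cases a with rfl | rfl
      · rw [zero_smul]; exact Φ.q_zero
      · rwa [one_smul]
    unfold combo
    rw [hS' _ (add_mem (add_mem mU mW) mS) _ mb, hS' _ (add_mem mU mW) _ mS, hS' _ mU _ mW,
      hsm _ _ (hku.q_co h), hsm _ _ (hkw.q_co h), hsm _ _ (hks.q_co h),
      hsm _ _ (hku.meet_TS h _ (h.mem_real.1 hbR).1)]
    simp
  have hK : fixS (ac t) ≤ h.kerS ke := fun v hv => by
    obtain ⟨q, hq, e⟩ := o.mov_eq_co_ii h (hle hv)
    obtain ⟨c, rfl⟩ := hsurj v hv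
    exact ⟨_, o.ii_mem h hq, e, o.commute_ii h hq (by rw [e]; exact hq0 c)⟩
  -- the second component is trivial
  have basis : ∀ c₁ c₂, Commute c₁ z → Commute c₂ z → sign (pi c₁).1 = 1 → sign (pi c₂).1 = 1 →
      ac c₁ U = ac c₂ U → ac c₁ W = ac c₂ W → ac c₁ S = ac c₂ S → ac c₁ b = ac c₂ b → pi c₁ = pi c₂ := by
    intro c₁ c₂ hc₁ hc₂ s₁ s₂ eU eW eS eb
    have hfix4 : ∀ v ∈ fixS (ac t), ac c₁ v = ac c₂ v := fun v hv => by
      obtain ⟨c, rfl⟩ := hsurj v hv
      simp only [combo, map_add, map_smul, eU, eW, eS, eb]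
    have htop : fixS (ac t) ⊔ (fixS (ac t)).map (ac x) = ⊤ := by
      refine Submodule.eq_top_of_finrank_eq ?_
      have k2 := Submodule.finrank_sup_add_finrank_inf_eq (fixS (ac t)) ((fixS (ac t)).map (ac x))
      rw [hdis.eq_bot, finrank_bot, (Submodule.equivMapOfInjective (ac x) hxinj _).finrank_eq.symm,
        h4] at k2
      rw [h.dim]
      omega
    have hall : ∀ v, ac c₁ v = ac c₂ v := fun v => by
      obtain ⟨p, hp, _, ⟨r, hr, rfl⟩, rfl⟩ := Submodule.mem_sup.1 (htop.symm ▸ Submodule.mem_top : v ∈ _)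
      rw [map_add, map_add, hfix4 p hp, h.ac_x_comm hx hc₁ s₁, h.ac_x_comm hx hc₂ s₂, hfix4 r hr]
    have hq : c₂⁻¹ * c₁ ∈ Q := h.faithful _ (hc₂.inv_left.mul_left hc₁) fun v => by
      rw [h.ac_mul hc₂.inv_left hc₁, hall, h.ac_inv hc₂]
    have e := (h.pi_ker _ (hc₂.inv_left.mul_left hc₁)).2 hq
    rw [h.pi_mul _ _ hc₂.inv_left hc₁, h.pi_inv hc₂, inv_mul_eq_one] at e
    exact e.symm
  have fU : ∀ {d}, InC z Q ku d → ac d U = U := fun hd => hku.ac_fix h hd
  let a := eS * fb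
  let c := eb * fS
  have haz : Commute a z := heS.1.mul_left hfb.1
  have hcz : Commute c z := heb.1.mul_left hfS.1
  have has : sign (pi a).1 = 1 := by
    rw [h.pi_mul _ _ heS.1 hfb.1, Prod.fst_mul, map_mul, heSs, hfbs, one_mul]
  have hcs : sign (pi c).1 = 1 := by
    rw [h.pi_mul _ _ heb.1 hfS.1, Prod.fst_mul, map_mul, hebs, hfSs, one_mul]
  have hat : Commute a t := heSt.mul_left hfbt
  have hct : Commute c t := hebt.mul_left hfSt
  have aU : ac a U = b := by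
    rw [h.ac_mul heS.1 hfb.1, hfbU, map_add, fU heS, heSb, add_left_comm, add_self_eq_zero', add_zero]
  have ab : ac a b = b + U := by rw [h.ac_mul heS.1 hfb.1, hfbb, heSb]
  have aS : ac a S = W := by
    rw [h.ac_mul heS.1 hfb.1, hfbS, map_add, heSS, heSW, add_left_comm, add_self_eq_zero', add_zero]
  have aW : ac a W = W + S := by rw [h.ac_mul heS.1 hfb.1, fW hfb, heSW]
  have cU' : ac c U = S := by
    rw [h.ac_mul heb.1 hfS.1, hfSU, map_add, fU heb, hebS, add_left_comm, add_self_eq_zero', add_zero]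
  have cS' : ac c S = S + U := by rw [h.ac_mul heb.1 hfS.1, hfSS, hebS]
  have cb' : ac c b = W := by
    rw [h.ac_mul heb.1 hfS.1, hfSb, map_add, hebb, hebW, add_left_comm, add_self_eq_zero', add_zero]
  have cW' : ac c W = W + b := by rw [h.ac_mul heb.1 hfS.1, fW hfS, hebW]
  have aU3 : ac a (ac a (ac a U)) = U := by
    rw [aU, ab, map_add, ab, aU, add_right_comm, add_self_eq_zero', zero_add]
  have aW3 : ac a (ac a (ac a W)) = W := by
    rw [aW, map_add, aW, aS, add_right_comm, add_self_eq_zero', zero_add, aS]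
  have ha3 : pi a * pi a * pi a = 1 := by
    rw [← h.pi_one, ← h.pi_mul _ _ haz haz, ← h.pi_mul _ _ (haz.mul_left haz) haz]
    refine basis _ _ ((haz.mul_left haz).mul_left haz) (Commute.one_left z) ?_
      (by rw [h.pi_one]; exact map_one _) ?_ ?_ ?_ ?_
    · rw [h.pi_mul _ _ (haz.mul_left haz) haz, h.pi_mul _ _ haz haz, Prod.fst_mul, Prod.fst_mul, map_mul,
        map_mul, has, one_mul, one_mul]
    all_goals rw [h.ac_mul (haz.mul_left haz) haz, h.ac_mul haz haz, h.ac_one]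
    · exact aU3
    · exact aW3
    · rw [aS, aW, map_add, aW, aS, add_right_comm, add_self_eq_zero', zero_add]
    · rw [ab, map_add, ab, aU, add_right_comm, add_self_eq_zero', zero_add, aU]
  have hc3 : pi c * pi c * pi c = 1 := by
    rw [← h.pi_one, ← h.pi_mul _ _ hcz hcz, ← h.pi_mul _ _ (hcz.mul_left hcz) hcz]
    refine basis _ _ ((hcz.mul_left hcz).mul_left hcz) (Commute.one_left z) ?_
      (by rw [h.pi_one]; exact map_one _) ?_ ?_ ?_ ?_
    · rw [h.pi_mul _ _ (hcz.mul_left hcz) hcz, h.pi_mul _ _ hcz hcz, Prod.fst_mul, Prod.fst_mul, map_mul,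
        map_mul, hcs, one_mul, one_mul]
    all_goals rw [h.ac_mul (hcz.mul_left hcz) hcz, h.ac_mul hcz hcz, h.ac_one]
    · rw [cU', cS', map_add, cS', cU', add_right_comm, add_self_eq_zero', zero_add]
    · rw [cW', map_add, cW', cb', add_right_comm, add_self_eq_zero', zero_add, cb']
    · rw [cS', map_add, cS', cU', add_right_comm, add_self_eq_zero', zero_add, cU']
    · rw [cb', cW', map_add, cW', cb', add_right_comm, add_self_eq_zero', zero_add]
  have hac : pi a * pi c = pi c * pi a := by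
    rw [← h.pi_mul _ _ haz hcz, ← h.pi_mul _ _ hcz haz]
    refine basis _ _ (haz.mul_left hcz) (hcz.mul_left haz) ?_ ?_ ?_ ?_ ?_ ?_
    · rw [h.pi_mul _ _ haz hcz, Prod.fst_mul, map_mul, has, hcs, one_mul]
    · rw [h.pi_mul _ _ hcz haz, Prod.fst_mul, map_mul, has, hcs, one_mul]
    all_goals rw [h.ac_mul haz hcz, h.ac_mul hcz haz]
    · rw [cU', aS, aU, cb']
    · rw [cW', map_add, aW, ab, map_add, cW', cS']; abel
    · rw [cS', map_add, aS, aU, cW']
    · rw [cb', aW, ab, map_add, cb', cU']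
  -- no power of the three-element carries these vectors to one another
  have hline : ∀ d, Commute d z → sign (pi d).1 = 1 → (pi d).2 = 1 →
      ac d U = U ∨ ac d U = ac x U ∨ ac d U = ac x (ac x U) := by
    intro d hd hds hd2
    rcases s3_even_cases _ hds with e | e | e
    · left; rw [h.ac_eq_of_pi hd (Commute.one_left z) (by rw [h.pi_one]; exact Prod.ext e hd2), h.ac_one]
    · right; left; rw [h.ac_eq_of_pi hd hx.comm (by rw [hx.image]; exact Prod.ext e hd2)]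
    · right; right
      rw [h.ac_eq_of_pi hd (hx.comm.mul_left hx.comm) (by
        rw [h.pi_mul _ _ hx.comm hx.comm, hx.image]
        exact Prod.ext e (by rw [hd2]; simp [x3])), h.ac_mul hx.comm hx.comm]
  have xxbil : ∀ v, Φ.bil v (ac x (ac x U)) = Φ.bil v U + Φ.bil v (ac x U) := fun v => by
    rw [hF.sq_eq Submodule.mem_top, map_add]
  have hp1 : (pi a).2 ≠ 1 := fun e => by
    have hWb : Φ.bil W b = 0 := (h.mem_real.1 hbR).2.1
    rcases hline a haz has e with e1 | e1 | e1 <;> rw [aU] at e1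
    · exact absurd ((Φ.bil_comm _ _).trans (e1 ▸ rbS)) (by
        rw [(h.orth_comm hx hA orS).2]; exact zero_ne_one)
    · rw [e1, g1] at hWb; exact one_ne_zero hWb
    · rw [e1, xxbil, g0, g1, zero_add] at hWb; exact one_ne_zero hWb
  have hr1 : (pi c).2 ≠ 1 := fun e => by
    have hWS : Φ.bil W S = 0 := (h.mem_real.1 hSR).2.1
    rcases hline c hcz hcs e with e1 | e1 | e1 <;> rw [cU'] at e1
    · exact absurd ((Φ.bil_comm _ _).trans (e1 ▸ rUb)) (by
        rw [(h.orth_comm hx hA orb).2]; exact zero_ne_one)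
    · rw [e1, g1] at hWS; exact one_ne_zero hWS
    · rw [e1, xxbil, g0, g1, zero_add] at hWS; exact one_ne_zero hWS
  have xnot : ∀ {v}, v ∈ h.real ku x W → v ≠ 0 → ac x v ∉ h.meet ku := fun hv hv0 hm =>
    hv0 (hku.real_x_disjoint h hx hA h0 h1 hv hm)
  have hxx : ∀ v ∈ h.meet ku, ac x (ac x v) ∈ h.meet ku → ac x v ∈ h.meet ku := fun v hv hm => by
    rw [hF.sq_eq Submodule.mem_top] at hm
    have := add_mem hv hm
    rwa [← add_assoc, add_self_eq_zero', zero_add] at this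
  have hdist : ∀ (d : G) (v : V), Commute d z → sign (pi d).1 = 1 → (pi d).2 = (pi c).2 → ac d U = v →
      v ∈ h.meet ku → v ≠ S → ac x v ∉ h.meet ku → False := by
    intro d v hd hds he2 ev hv hvS hxv
    have hcd : Commute (c⁻¹ * d) z := hcz.inv_left.mul_left hd
    have hs' : sign (pi (c⁻¹ * d)).1 = 1 := by
      rw [h.pi_mul _ _ hcz.inv_left hd, h.pi_inv hcz, Prod.fst_mul, Prod.fst_inv, map_mul, map_inv, hcs, hds,
        inv_one, one_mul]
    have h2' : (pi (c⁻¹ * d)).2 = 1 := by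
      rw [h.pi_mul _ _ hcz.inv_left hd, h.pi_inv hcz, Prod.snd_mul, Prod.snd_inv, he2, inv_mul_cancel]
    have e3 : ac c (ac (c⁻¹ * d) U) = v := by
      rw [← h.ac_mul hcz hcd, mul_inv_cancel_left, ev]
    rcases hline _ hcd hs' h2' with e | e | e <;> rw [e] at e3
    · exact hvS (e3.symm.trans cU')
    · rw [h.ac_x_comm hx hcz hcs, cU'] at e3
      exact xnot hSR hS0 (e3 ▸ hv)
    · rw [h.ac_x_comm hx hcz hcs, h.ac_x_comm hx hcz hcs, cU'] at e3
      exact xnot hSR hS0 (hxx S hsu (e3 ▸ hv))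
  have hrp : (pi c).2 ≠ (pi a).2 := fun e =>
    hdist a b haz has e.symm aU (h.mem_real.1 hbR).1 hbS (xnot hbR hb0)
  have hrpp : (pi c).2 ≠ (pi a).2 * (pi a).2 := fun e => by
    refine hdist (a * a) (b + U) (haz.mul_left haz) ?_ ?_ (by rw [h.ac_mul haz haz, aU, ab])
      (add_mem (h.mem_real.1 hbR).1 (hku.co_mem h)) (fun e' => ?_) (fun hm => ?_)
    · rw [h.pi_mul _ _ haz haz, Prod.fst_mul, map_mul, has, one_mul]
    · rw [h.pi_mul _ _ haz haz, Prod.snd_mul, ← e]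
    · have hUR : U ∈ h.real ku x W := by
        rw [show U = S + b by rw [← e', add_right_comm, add_self_eq_zero', zero_add]]
        exact hSb
      have := (h.mem_real.1 hUR).2.2
      rw [p1] at this
      exact one_ne_zero this
    · rw [map_add] at hm
      have := add_mem hm (hku.xp_mem h hx hA)
      rw [← hU, add_assoc, add_self_eq_zero', add_zero] at this
      exact xnot hbR hb0 this
  have htau : (pi t).2 = 1 :=
    s6_nine_centralizer (pi a).2 (congrArg Prod.snd ha3) hp1 (pi c).2 (congrArg Prod.snd hc3) hr1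
      (congrArg Prod.snd hac) hrp hrpp (pi t).2 (congrArg Prod.snd (o.tau_sq h))
      (congrArg Prod.snd (show pi t * pi a = pi a * pi t by
        rw [← h.pi_mul _ _ o.comm haz, ← h.pi_mul _ _ haz o.comm, hat.eq]))
      (congrArg Prod.snd (show pi t * pi c = pi c * pi t by
        rw [← h.pi_mul _ _ o.comm hcz, ← h.pi_mul _ _ hcz o.comm, hct.eq]))
  -- a five-element
  have h55 : five6 ^ (2 * 2 + 1) = 1 := five6_pow
  obtain ⟨y, hyz, hyt, hyp⟩ := o.exists_lift_commute h hle hK (γ := ((1, five6) : P36)) (k := 2)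
    (Prod.ext (one_pow _) h55) (map_one _) five6_sign
    (Prod.ext (by simp) (show five6 * (pi t).2 = (pi t).2 * five6 by rw [htau, one_mul, mul_one]))
  have hy5 : QF.Fpf5 ⊤ (ac y) :=
    h.five_free hx hA hyz (by rw [hyp]) (by rw [hyp]; exact five6_pow) (by rw [hyp]; exact five6_ne)
  -- the form measured by the lifts in the other conjugate
  let P : V → Prop := fun v => ∀ q ∈ Q, co (ii t q) = v → ke⁻¹ * ii t q * ke ∈ Q
  have hindep : ∀ q ∈ Q, ∀ q' ∈ Q, co (ii t q) = co (ii t q') → ii t q = ii t q' := by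
    intro q hq q' hq' e
    have hd : q⁻¹ * q' ∈ Q := mul_mem (inv_mem hq) hq'
    have hdfix : co (q⁻¹ * q') ∈ fixS (ac t) := by
      rw [h.co_mul _ (inv_mem hq) _ hq', h.co_inv hq, mem_fixS, map_add]
      rw [o.co_ii h hq, o.co_ii h hq'] at e
      calc ac t (co q) + ac t (co q')
          = (ac t (co q) + co q) + (ac t (co q') + co q') + (co q + co q') := by
            rw [show (ac t (co q) + co q) + (ac t (co q') + co q') + (co q + co q') =
              ac t (co q) + ac t (co q') + ((co q + co q') + (co q + co q')) by abel, add_self_eq_zero',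
              add_zero]
        _ = co q + co q' := by rw [e, add_self_eq_zero', zero_add]
    have hcd : Commute (q⁻¹ * q') t := o.kerS_commute h (hK hdfix) hd rfl
    have et := h.conj_sq ke
    have e2 : q' = q * (q⁻¹ * q') := by group
    generalize q⁻¹ * q' = d at hcd e2
    subst e2
    unfold ii
    rw [← ht] at et
    rw [mul_inv_rev]
    calc t * q * t * q⁻¹ = t * q * t * (d * d⁻¹) * q⁻¹ := by rw [mul_inv_cancel, mul_one]
      _ = t * q * (t * d) * d⁻¹ * q⁻¹ := by simp only [mul_assoc]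
      _ = t * (q * d) * t * (d⁻¹ * q⁻¹) := by rw [← hcd.eq]; simp only [mul_assoc]
  have hPy : ∀ v, P v → P (ac y v) := by
    intro v hv q hq e
    have hq' : y⁻¹ * q * y ∈ Q := by
      have := h.norm _ hyz.inv_left q hq
      rwa [inv_inv] at this
    have ety : y⁻¹ * t * y = t := by rw [mul_assoc, ← hyt.eq, inv_mul_cancel_left]
    have e1 : ii t (y⁻¹ * q * y) = y⁻¹ * ii t q * y := by
      unfold ii
      calc t * (y⁻¹ * q * y) * t * (y⁻¹ * q * y)⁻¹
          = (y⁻¹ * t * y) * (y⁻¹ * q * y) * (y⁻¹ * t * y) * (y⁻¹ * q * y)⁻¹ := by rw [ety]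
        _ = y⁻¹ * (t * q * t * q⁻¹) * y := by group
    have e2 : co (ii t (y⁻¹ * q * y)) = v := by
      have := h.conj _ hyz.inv_left _ (o.ii_mem h hq)
      rw [inv_inv] at this
      rw [e1, this, e, h.ac_inv hyz]
    have e3 := hv _ hq' e2
    rw [show ke⁻¹ * ii t q * ke =
      ke⁻¹ * y * ke * (ke⁻¹ * (y⁻¹ * ii t q * y) * ke) * (ke⁻¹ * y * ke)⁻¹ by group, ← e1]
    exact h.norm _ (Base.comm_rel hyt) _ e3
  -- its values on the basis
  obtain ⟨qU, hqU, eU⟩ := h.co_surj (ac x U)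
  obtain ⟨qW, hqW, eW⟩ := h.co_surj (ac x W)
  obtain ⟨qS, hqS, eS'⟩ := h.co_surj (ac x S)
  obtain ⟨qb, hqb, eb'⟩ := h.co_surj (ac x b)
  have key : ∀ {k}, Pt z Q k → InC z Q k t → ∀ {q}, q ∈ Q → co q = ac x (co (k * z * k⁻¹)) →
      co (ii t q) = co (k * z * k⁻¹) ∧ ke⁻¹ * ii t q * ke ∈ Q := fun {k} hk hkt {q} hq e => by
    obtain ⟨a1, a2⟩ := o.col_ii h hx hA hs hk hkt hq e
    rw [a1]
    exact ⟨rfl, a2⟩
  obtain ⟨iU, jU⟩ := key hku ⟨o.comm, htu⟩ hqU eU
  obtain ⟨iW, jW⟩ := key hkw ⟨o.comm, htw⟩ hqW eW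
  obtain ⟨iS, jS⟩ := key hks ⟨o.comm, hts⟩ hqS eS'
  obtain ⟨kb, hkb, ekb, hkbt⟩ := cb
  obtain ⟨ib, jb⟩ := key hkb hkbt hqb (by rw [ekb]; exact eb')
  rw [ekb] at ib
  rw [← hU] at iU
  rw [← hW] at iW
  rw [← hS] at iS
  have hzI : ∀ {i : G} {e : F2}, ke⁻¹ * i * ke ∈ Q → (ke⁻¹ * (i * zp z e) * ke ∈ Q ↔ e = 0) := fun {i e} hi => by
    rw [Base.rel_mul]
    refine ⟨fun hm => (f2_cases e).resolve_right fun e1 => o.z_notQ h ?_, fun e0 => ?_⟩
    · rw [e1, zp_one] at hm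
      have := mul_mem (inv_mem hi) hm
      rwa [inv_mul_cancel_left] at this
    · rw [e0, zp_zero, mul_one, inv_mul_cancel, mul_one]; exact hi
  -- a product of the chosen elements for each vector
  let pick : F2 → G → G := fun e q => if e = 0 then 1 else q
  have hpick : ∀ (e : F2) {q : G} {v : V}, q ∈ Q → co (ii t q) = v → co q = ac x v → ke⁻¹ * ii t q * ke ∈ Q →
      pick e q ∈ Q ∧ co (ii t (pick e q)) = e • v ∧ co (pick e q) = e • ac x v ∧
        ke⁻¹ * ii t (pick e q) * ke ∈ Q := by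
    intro e q v hq e1 e2 e3
    rcases f2_cases e with rfl | rfl
    · have : ii t 1 = 1 := by
        unfold ii
        rw [mul_one, inv_one, mul_one, ht, h.conj_sq]
      simp only [pick, if_true, zero_smul, this, h.co_one, and_self, true_and]
      exact ⟨one_mem Q, by rw [mul_one, inv_mul_cancel]; exact one_mem Q⟩
    · simp only [pick, one_ne_zero, if_false, one_smul]
      exact ⟨hq, e1, e2, e3⟩
  have hval : ∀ d, ∃ q ∈ Q, co (ii t q) = combo U W S b d ∧
      (ke⁻¹ * ii t q * ke ∈ Q ↔ d.1 * d.2.1 + d.2.2.1 * d.2.2.2 = 0) := by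
    rintro ⟨d1, d2, d3, d4⟩
    obtain ⟨m1, i1, c1, j1⟩ := hpick d1 hqU iU eU jU
    obtain ⟨m2, i2, c2, j2⟩ := hpick d2 hqW iW eW jW
    obtain ⟨m3, i3, c3, j3⟩ := hpick d3 hqS iS eS' jS
    obtain ⟨m4, i4, c4, j4⟩ := hpick d4 hqb ib eb' jb
    generalize pick d1 qU = P1 at m1 i1 c1 j1
    generalize pick d2 qW = P2 at m2 i2 c2 j2
    generalize pick d3 qS = P3 at m3 i3 c3 j3
    generalize pick d4 qb = P4 at m4 i4 c4 j4
    have hz : ∀ (i : G) (e : F2), i ∈ Q → co (i * zp z e) = co i := fun i e hi => by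
      rw [h.co_mul _ hi _ (h.zp_mem e), h.co_zp, add_zero]
    have hI := fun {q} (hq : q ∈ Q) => o.ii_mem h hq
    have e12 := o.ii_mul h m1 m2
    have e34 := o.ii_mul h m3 m4
    have e := o.ii_mul h (mul_mem m1 m2) (mul_mem m3 m4)
    have k12 : co (ii t (P1 * P2)) = d1 • U + d2 • W := by
      rw [e12, hz _ _ (mul_mem (hI m1) (hI m2)), h.co_mul _ (hI m1) _ (hI m2), i1, i2]
    have k34 : co (ii t (P3 * P4)) = d3 • S + d4 • b := by
      rw [e34, hz _ _ (mul_mem (hI m3) (hI m4)), h.co_mul _ (hI m3) _ (hI m4), i3, i4]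
    have k : co (ii t (P1 * P2 * (P3 * P4))) = combo U W S b (d1, d2, d3, d4) := by
      rw [e, hz _ _ (mul_mem (hI (mul_mem m1 m2)) (hI (mul_mem m3 m4))),
        h.co_mul _ (hI (mul_mem m1 m2)) _ (hI (mul_mem m3 m4)), k12, k34]
      simp only [combo]
      abel
    refine ⟨_, mul_mem (mul_mem m1 m2) (mul_mem m3 m4), k, ?_⟩
    have v12 : Φ.bil (co P1) (co (ii t P2)) = d1 * d2 := by
      rw [c1, i2, map_smul, map_smul, LinearMap.smul_apply, hxUW]; simp [mul_comm]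
    have v34 : Φ.bil (co P3) (co (ii t P4)) = d3 * d4 := by
      rw [c3, i4, map_smul, map_smul, LinearMap.smul_apply, p9]; simp [mul_comm]
    have v : Φ.bil (co (P1 * P2)) (co (ii t (P3 * P4))) = 0 := by
      rw [k34, h.co_mul _ m1 _ m2, c1, c2]
      simp only [map_add, map_smul, LinearMap.add_apply, LinearMap.smul_apply, p3, p4, p5, p6, smul_zero,
        add_zero]
    rw [e, v, zp_zero, mul_one, e12, e34, v12, v34]
    have hcz' : Commute (zp z (d1 * d2)) (ii t P3 * ii t P4) :=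
      (Commute.zp_right (h.commQz (mul_mem (hI m3) (hI m4))) _).symm
    rw [show ii t P1 * ii t P2 * zp z (d1 * d2) * (ii t P3 * ii t P4 * zp z (d3 * d4)) =
      ii t P1 * ii t P2 * (zp z (d1 * d2) * (ii t P3 * ii t P4)) * zp z (d3 * d4) by simp only [mul_assoc],
      hcz'.eq, show ii t P1 * ii t P2 * (ii t P3 * ii t P4 * zp z (d1 * d2)) * zp z (d3 * d4) =
      ii t P1 * ii t P2 * (ii t P3 * ii t P4) * (zp z (d1 * d2) * zp z (d3 * d4)) by simp only [mul_assoc],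
      ← zp_add h.zz]
    refine hzI ?_
    simp only [Base.rel_mul]
    exact mul_mem (mul_mem j1 j2) (mul_mem j3 j4)
  refine o.false_of_nine h hx hA hind hy5 fun d hd hd0 => ?_
  obtain ⟨q, hq, e, hiff⟩ := hval d
  have hP : P (combo U W S b d) := fun q' hq' e' => by
    rw [hindep q' hq' q hq (e'.trans e.symm)]
    exact hiff.2 hd0
  obtain ⟨d', hd'⟩ := hsurj (ac y (combo U W S b d)) (mem_fixS.2 (by
    rw [← h.ac_mul o.comm hyz, ← hyt.eq, h.ac_mul hyz o.comm, mem_fixS.1 (hCfix d)]))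
  have hne : d' ≠ 0 := fun e0 => hd (hind (by
    have hz : ac y (combo U W S b d) = 0 := by rw [← hd', e0]; simp [combo]
    rw [show combo U W S b 0 = 0 by simp [combo]]
    exact h.ac_injective hx hA hyz (hz.trans (map_zero _).symm)))
  refine ⟨d', hne, ?_, hd'⟩
  obtain ⟨q', hq', e', hiff'⟩ := hval d'
  exact hiff'.1 (hPy _ hP q' hq' (e'.trans hd'))

end Pt

end Cfsg.Agent.Lib.ExtraNine31
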